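import Mathlib.AlgebraicGeometry.Morphisms.FlatRank
import Mathlib.AlgebraicGeometry.Limits
import Mathlib.AlgebraicGeometry.Morphisms.Finite
import Mathlib.AlgebraicGeometry.Morphisms.FinitePresentation
import Mathlib.CategoryTheory.Limits.VanKampen
import Mathlib.CategoryTheory.Extensive
import Mathlib.RingTheory.Flat.Basic
import Mathlib.LinearAlgebra.TensorProduct.Prod
import Groth.Prelude.Def_Mor2

/-!
# Disjoint unions of finite locally free schemes
-/

set_option autoImplicit false
universe u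

open CategoryTheory CategoryTheory.Limits AlgebraicGeometry

namespace K842.CoprodRank

/-- Pullback of a binary coproduct. -/
theorem exists_iso_pullback_coprod {X Y T T' : Scheme.{u}} (p : X ⟶ T) (q : Y ⟶ T) (g : T' ⟶ T) :
    ∃ e : (pullback p g ⨿ pullback q g : Scheme.{u}) ≅ pullback (coprod.desc p q) g,
      e.hom ≫ pullback.snd (coprod.desc p q) g = coprod.desc (pullback.snd p g) (pullback.snd q g) ∧
      e.hom ≫ pullback.fst (coprod.desc p q) g = coprod.map (pullback.fst p g) (pullback.fst q g) := by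
  have hvk : IsVanKampenColimit (BinaryCofan.mk (coprod.inl : X ⟶ X ⨿ Y) coprod.inr) :=
    FinitaryExtensive.vanKampen _ (coprodIsCoprod X Y)
  rw [BinaryCofan.isVanKampen_iff] at hvk
  let a : pullback p g ⟶ pullback (coprod.desc p q) g :=
    pullback.lift (pullback.fst p g ≫ coprod.inl) (pullback.snd p g) (by
      rw [Category.assoc, coprod.inl_desc, pullback.condition])
  let b : pullback q g ⟶ pullback (coprod.desc p q) g :=
    pullback.lift (pullback.fst q g ≫ coprod.inr) (pullback.snd q g) (by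
      rw [Category.assoc, coprod.inr_desc, pullback.condition])
  have ha1 : a ≫ pullback.fst _ _ = pullback.fst p g ≫ coprod.inl := pullback.lift_fst _ _ _
  have ha2 : a ≫ pullback.snd _ _ = pullback.snd p g := pullback.lift_snd _ _ _
  have hb1 : b ≫ pullback.fst _ _ = pullback.fst q g ≫ coprod.inr := pullback.lift_fst _ _ _
  have hb2 : b ≫ pullback.snd _ _ = pullback.snd q g := pullback.lift_snd _ _ _
  have hA : IsPullback a (pullback.fst p g) (pullback.fst (coprod.desc p q) g) coprod.inl := by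
    have h := IsPullback.of_hasPullback p g
    have h2 := IsPullback.of_hasPullback (coprod.desc p q) g
    refine (IsPullback.of_right (h₁₁ := a) (h₁₂ := pullback.snd (coprod.desc p q) g)
      (h₂₁ := coprod.inl) (h₂₂ := coprod.desc p q) (v₁₁ := pullback.fst p g)
      (v₁₂ := pullback.fst (coprod.desc p q) g) (v₁₃ := g) ?_ ha1 h2.flip)
    rw [ha2, coprod.inl_desc]
    exact h.flip
  have hB : IsPullback b (pullback.fst q g) (pullback.fst (coprod.desc p q) g) coprod.inr := by
    have h := IsPullback.of_hasPullback q g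
    have h2 := IsPullback.of_hasPullback (coprod.desc p q) g
    refine (IsPullback.of_right (h₁₁ := b) (h₁₂ := pullback.snd (coprod.desc p q) g)
      (h₂₁ := coprod.inr) (h₂₂ := coprod.desc p q) (v₁₁ := pullback.fst q g)
      (v₁₂ := pullback.fst (coprod.desc p q) g) (v₁₃ := g) ?_ hb1 h2.flip)
    rw [hb2, coprod.inr_desc]
    exact h.flip
  obtain ⟨hc⟩ := (hvk (BinaryCofan.mk a b) (pullback.fst p g) (pullback.fst q g)
    (pullback.fst (coprod.desc p q) g) ha1.symm hb1.symm).2 ⟨hA, hB⟩
  let e : (pullback p g ⨿ pullback q g : Scheme.{u}) ≅ pullback (coprod.desc p q) g :=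
    (coprodIsCoprod (pullback p g) (pullback q g)).coconePointUniqueUpToIso hc
  have he1 : (coprod.inl : pullback p g ⟶ (pullback p g ⨿ pullback q g : Scheme.{u})) ≫ e.hom = a :=
    (coprodIsCoprod (pullback p g) (pullback q g)).comp_coconePointUniqueUpToIso_hom hc ⟨.left⟩
  have he2 : (coprod.inr : pullback q g ⟶ (pullback p g ⨿ pullback q g : Scheme.{u})) ≫ e.hom = b :=
    (coprodIsCoprod (pullback p g) (pullback q g)).comp_coconePointUniqueUpToIso_hom hc ⟨.right⟩
  refine ⟨e, ?_, ?_⟩
  · apply coprod.hom_ext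
    · rw [← Category.assoc, he1, ha2, coprod.inl_desc]
    · rw [← Category.assoc, he2, hb2, coprod.inr_desc]
  · apply coprod.hom_ext
    · rw [← Category.assoc, he1, ha1, coprod.inl_map]
    · rw [← Category.assoc, he2, hb1, coprod.inr_map]

instance flat_coprodDesc {X Y T : Scheme.{u}} (p : X ⟶ T) (q : Y ⟶ T) [Flat p] [Flat q] :
    Flat (coprod.desc p q) := by
  rw [IsZariskiLocalAtSource.iff_of_openCover (P := @Flat) (coprodOpenCover.{u, 0} X Y)]
  rintro (⟨⟨⟩⟩ | ⟨⟨⟩⟩)
  · change Flat (coprod.inl ≫ coprod.desc p q)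
    rw [coprod.inl_desc]
    infer_instance
  · change Flat (coprod.inr ≫ coprod.desc p q)
    rw [coprod.inr_desc]
    infer_instance

instance lfp_coprodDesc {X Y T : Scheme.{u}} (p : X ⟶ T) (q : Y ⟶ T) [LocallyOfFinitePresentation p]
    [LocallyOfFinitePresentation q] :
    LocallyOfFinitePresentation (coprod.desc p q) := by
  rw [IsZariskiLocalAtSource.iff_of_openCover (P := @LocallyOfFinitePresentation)
    (coprodOpenCover.{u, 0} X Y)]
  rintro (⟨⟨⟩⟩ | ⟨⟨⟩⟩)
  · change LocallyOfFinitePresentation (coprod.inl ≫ coprod.desc p q)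
    rw [coprod.inl_desc]
    infer_instance
  · change LocallyOfFinitePresentation (coprod.inr ≫ coprod.desc p q)
    rw [coprod.inr_desc]
    infer_instance

open TensorProduct in
theorem flat_prod {R : Type u} [CommRing R] {A B : Type u} [AddCommGroup A] [Module R A]
    [AddCommGroup B] [Module R B]
    [Module.Flat R A] [Module.Flat R B] : Module.Flat R (A × B) := by
  rw [Module.Flat.iff_rTensor_preserves_injective_linearMap]
  intro N P _ _ _ _ f hf
  have h1 : (TensorProduct.prodRight R R P A B).toLinearMap ∘ₗ (f.rTensor (A × B)) =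
      ((f.rTensor A).prodMap (f.rTensor B)) ∘ₗ (TensorProduct.prodRight R R N A B).toLinearMap := by
    apply TensorProduct.ext'
    intro x y
    rfl
  have h2 : Function.Injective
      ((TensorProduct.prodRight R R P A B).toLinearMap ∘ₗ (f.rTensor (A × B))) := by
    rw [h1]
    have h3 : Function.Injective ((f.rTensor A).prodMap (f.rTensor B)) :=
      Prod.map_injective.mpr ⟨Module.Flat.rTensor_preserves_injective_linearMap f hf,
        Module.Flat.rTensor_preserves_injective_linearMap f hf⟩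
    exact h3.comp (TensorProduct.prodRight R R N A B).injective
  exact Function.Injective.of_comp (f := (TensorProduct.prodRight R R P A B)) h2

theorem finrank_coprodDesc_spec (R A B : Type u) [CommRing R] [CommRing A] [CommRing B] [Algebra R A]
    [Algebra R B] [Module.Finite R A] [Module.Flat R A] [Module.Finite R B] [Module.Flat R B]
    (x : Spec (CommRingCat.of R)) :
    (coprod.desc (Spec.map (CommRingCat.ofHom (algebraMap R A))) (Spec.map (CommRingCat.ofHom (algebraMap R B)))).finrank x =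
      (Spec.map (CommRingCat.ofHom (algebraMap R A))).finrank x +
      (Spec.map (CommRingCat.ofHom (algebraMap R B))).finrank x := by
  have h0 : Module.Flat R (A × B) := flat_prod
  have h1 : IsFinite (Spec.map (CommRingCat.ofHom (algebraMap R (A × B)))) := by
    rw [IsFinite.SpecMap_iff]; exact RingHom.finite_algebraMap.mpr inferInstance
  have h2 : Flat (Spec.map (CommRingCat.ofHom (algebraMap R (A × B)))) := by
    rw [Flat.SpecMap_iff]; exact RingHom.flat_algebraMap_iff.mpr h0
  have h : coprod.desc (Spec.map (CommRingCat.ofHom (algebraMap R A)))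
      (Spec.map (CommRingCat.ofHom (algebraMap R B))) =
      coprodSpec A B ≫ Spec.map (CommRingCat.ofHom (algebraMap R (A × B))) := by
    apply coprod.hom_ext
    · rw [coprod.inl_desc, coprodSpec_inl_assoc, ← Spec.map_comp]
      rfl
    · rw [coprod.inr_desc, coprodSpec_inr_assoc, ← Spec.map_comp]
      rfl
  have e1 := Scheme.Hom.finrank_SpecMap_algebraMap R (A × B) x
  have e2 := Scheme.Hom.finrank_SpecMap_algebraMap R A x
  have e3 := Scheme.Hom.finrank_SpecMap_algebraMap R B x
  rw [h, Scheme.Hom.finrank_comp_left_of_isIso]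
  exact e1.trans ((congrFun (Module.rankAtStalk_prod A B) x).trans (congrArg₂ (· + ·) e2.symm e3.symm))

theorem finrank_coprodDesc_aff {X Y : Scheme.{u}} {R : CommRingCat.{u}} (p : X ⟶ Spec R) (q : Y ⟶ Spec R)
    [IsFinite p] [Flat p] [IsFinite q] [Flat q] (x : Spec R) :
    (coprod.desc p q).finrank x = p.finrank x + q.finrank x := by
  have hX : IsAffine X := isAffine_of_isAffineHom p
  have hY : IsAffine Y := isAffine_of_isAffineHom q
  obtain ⟨φ, hφ⟩ : ∃ φ : R ⟶ Γ(X, ⊤), p = X.isoSpec.hom ≫ Spec.map φ := by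
    obtain ⟨φ, hφ⟩ := Spec.map_surjective (X.isoSpec.inv ≫ p)
    exact ⟨φ, by rw [hφ, Iso.hom_inv_id_assoc]⟩
  obtain ⟨ψ, hψ⟩ : ∃ ψ : R ⟶ Γ(Y, ⊤), q = Y.isoSpec.hom ≫ Spec.map ψ := by
    obtain ⟨ψ, hψ⟩ := Spec.map_surjective (Y.isoSpec.inv ≫ q)
    exact ⟨ψ, by rw [hψ, Iso.hom_inv_id_assoc]⟩
  have hp1 : IsFinite (Spec.map φ) := by
    rw [show Spec.map φ = X.isoSpec.inv ≫ p by rw [hφ, Iso.inv_hom_id_assoc]]; infer_instance
  have hp2 : Flat (Spec.map φ) := by
    rw [show Spec.map φ = X.isoSpec.inv ≫ p by rw [hφ, Iso.inv_hom_id_assoc]]; infer_instance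
  have hq1 : IsFinite (Spec.map ψ) := by
    rw [show Spec.map ψ = Y.isoSpec.inv ≫ q by rw [hψ, Iso.inv_hom_id_assoc]]; infer_instance
  have hq2 : Flat (Spec.map ψ) := by
    rw [show Spec.map ψ = Y.isoSpec.inv ≫ q by rw [hψ, Iso.inv_hom_id_assoc]]; infer_instance
  have h : coprod.desc p q = coprod.map X.isoSpec.hom Y.isoSpec.hom ≫
      coprod.desc (Spec.map φ) (Spec.map ψ) := by
    rw [coprod.map_desc, ← hφ, ← hψ]
  rw [h, Scheme.Hom.finrank_comp_left_of_isIso, hφ, hψ, Scheme.Hom.finrank_comp_left_of_isIso,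
    Scheme.Hom.finrank_comp_left_of_isIso]
  algebraize [φ.hom, ψ.hom]
  have f1 : Module.Finite R Γ(X, ⊤) := (IsFinite.SpecMap_iff _).1 hp1
  have f2 : Module.Flat R Γ(X, ⊤) := Flat.SpecMap_iff.1 hp2
  have f3 : Module.Finite R Γ(Y, ⊤) := (IsFinite.SpecMap_iff _).1 hq1
  have f4 : Module.Flat R Γ(Y, ⊤) := Flat.SpecMap_iff.1 hq2
  exact finrank_coprodDesc_spec R Γ(X, ⊤) Γ(Y, ⊤) x

theorem finrank_coprodDesc {X Y T : Scheme.{u}} (p : X ⟶ T) (q : Y ⟶ T) [IsFinite p] [Flat p] [IsFinite q]
    [Flat q] (t : T) : (coprod.desc p q).finrank t = p.finrank t + q.finrank t := by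
  obtain ⟨R, g, _, y, rfl⟩ := T.exists_Spec_apply_eq t
  obtain ⟨e, he, -⟩ := exists_iso_pullback_coprod p q g
  rw [← Scheme.Hom.finrank_pullback_snd (coprod.desc p q) g, ← Scheme.Hom.finrank_pullback_snd p g,
    ← Scheme.Hom.finrank_pullback_snd q g, ← finrank_coprodDesc_aff, ← he,
    Scheme.Hom.finrank_comp_left_of_isIso]

theorem isFinLocFreeOfDeg_coprodDesc {X Y T : Scheme.{u}} (p : X ⟶ T) (q : Y ⟶ T) {a b d : ℕ} (h : a + b = d)
    (hp : Mor2.IsFinLocFreeOfDeg a p) (hq : Mor2.IsFinLocFreeOfDeg b q) :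
    Mor2.IsFinLocFreeOfDeg d (coprod.desc p q) := by
  obtain ⟨⟨h1, h2, h3⟩, h4⟩ := hp
  obtain ⟨⟨h1', h2', h3'⟩, h4'⟩ := hq
  refine ⟨⟨inferInstance, inferInstance, inferInstance⟩, fun y => ?_⟩
  rw [finrank_coprodDesc, h4, h4', h]

end K842.CoprodRank
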