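import Groth.Agent.HilbZeta.K842.K0Basic

/-!
# Classes in the Grothendieck ring: finite families jointly bijective on field-valued points
-/

set_option autoImplicit false
universe u v

open CategoryTheory CategoryTheory.Limits AlgebraicGeometry K0Var

namespace K842.K0Fam

open K842.K0Basic

/-- A family of morphisms jointly bijective on field-valued points. -/
def BijFam {ι : Type v} {Z : Scheme.{u}} (W : ι → Scheme.{u}) (p : ∀ i, W i ⟶ Z) : Prop :=
  ∀ (K : CommRingCat.{u}) (_ : IsField K) (y : Spec K ⟶ Z), ∃! x : Σ i, (Spec K ⟶ W i), x.2 ≫ p x.1 = y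

variable {ι : Type v}

theorem BijFam.pullback_snd {Z Z' : Scheme.{u}} {W : ι → Scheme.{u}} {p : ∀ i, W i ⟶ Z} (h : BijFam W p)
    (g : Z' ⟶ Z) : BijFam (fun i => pullback (p i) g) (fun i => pullback.snd (p i) g) := by
  intro K hK z
  obtain ⟨⟨i, x⟩, hx, hx'⟩ := h K hK (z ≫ g)
  refine ⟨⟨i, pullback.lift x z hx⟩, pullback.lift_snd _ _ _, ?_⟩
  rintro ⟨i', w⟩ hw
  have h1 := hx' ⟨i', w ≫ pullback.fst (p i') g⟩ (by
    dsimp only at hw ⊢
    rw [Category.assoc, pullback.condition, ← Category.assoc, hw])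
  obtain rfl : i' = i := congrArg Sigma.fst h1
  have h2 : w ≫ pullback.fst (p i') g = x := eq_of_heq (Sigma.mk.inj h1).2
  congr 1
  apply pullback.hom_ext
  · rw [pullback.lift_fst, h2]
  · rw [pullback.lift_snd]; exact hw

section main

variable {S : Scheme.{u}} [IsNoetherian S] [Fintype ι]

omit [AlgebraicGeometry.IsNoetherian S] in
theorem cl_eq_zero_of_isEmpty' {X : Scheme.{u}} (h : IsEmpty X) (f : X ⟶ S) [LocallyOfFiniteType f]
    [QuasiCompact f] : cl f = 0 := cl_of_isEmpty f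

/-- The spreading-out step. -/
theorem exists_open_cl_eq {Z : Scheme.{u}} {W : ι → Scheme.{u}} [IsReduced Z] [Nonempty Z] (g : Z ⟶ S)
    [LocallyOfFiniteType g]
    [QuasiCompact g] (p : ∀ i, W i ⟶ Z) [∀ i, LocallyOfFiniteType (p i)] [∀ i, QuasiCompact (p i)]
    (hp : BijFam W p) :
    ∃ V : Z.Opens, (V : Set Z).Nonempty ∧ ∀ (W' : ι → Scheme.{u}) (j : ∀ i, W' i ⟶ W i)
      [∀ i, IsOpenImmersion (j i)]
      [∀ i, QuasiCompact (j i ≫ p i ≫ g)], (∀ i, Set.range (j i) = p i ⁻¹' (V : Set Z)) →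
      ∀ [QuasiCompact (V.ι ≫ g)], ∑ i, cl (j i ≫ p i ≫ g) = cl (V.ι ≫ g) := by
  classical
  have hZ := isNoetherian_of_ft g
  obtain ⟨C, hC⟩ : (irreducibleComponents Z).Nonempty := by
    obtain ⟨z⟩ := (inferInstance : Nonempty Z)
    exact ⟨irreducibleComponent z, irreducibleComponent_mem_irreducibleComponents z⟩
  have hCirr : IsIrreducible C := hC.1
  have hCcl : IsClosed C := isClosed_of_mem_irreducibleComponents C hC
  obtain ⟨η, hη⟩ := QuasiSober.sober hCirr hCcl
  have hηC : closure {η} ∈ irreducibleComponents Z := by rw [hη.def]; exact hC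
  have hfield := isField_stalk_of_closure_mem_irreducibleComponents Z η hηC
  obtain ⟨⟨i₀, x⟩, hx, -⟩ := hp _ hfield (Z.fromSpecStalk η)
  obtain ⟨V, hηV, σ, hσ1, hσ2⟩ := spread_out_of_isGermInjective' (𝟙 Z) (p i₀) x (by
    rw [Category.comp_id]; exact hx)
  rw [Category.comp_id] at hσ2
  refine ⟨V, ⟨η, hηV⟩, ?_⟩
  intro W' j _ _ hj _
  -- the section lands in `W'`
  have hrange : Set.range σ ⊆ Set.range (j i₀) := by
    rintro _ ⟨v, rfl⟩
    rw [hj, Set.mem_preimage, ← Scheme.Hom.comp_apply, hσ2]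
    exact v.2
  let τ : (V : Scheme.{u}) ⟶ W' i₀ := IsOpenImmersion.lift (j i₀) σ hrange
  have hτ : τ ≫ j i₀ = σ := IsOpenImmersion.lift_fac _ _ _
  have hτ2 : τ ≫ j i₀ ≫ p i₀ = V.ι := by rw [← Category.assoc, hτ, hσ2]
  have himm : IsImmersion (τ ≫ (j i₀ ≫ p i₀)) := by rw [hτ2]; infer_instance
  have himm' : IsImmersion τ := IsImmersion.of_comp τ (j i₀ ≫ p i₀)
  -- every point of `W' i` comes from the section
  have key : ∀ (i : ι) (w : W' i), ∃ (v : Spec ((W' i).residueField w) ⟶ (V : Scheme.{u})),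
      (⟨i, (W' i).fromSpecResidueField w ≫ j i⟩ : Σ a, (Spec ((W' i).residueField w) ⟶ W a)) =
        ⟨i₀, v ≫ σ⟩ := by
    intro i w
    have hw : p i (j i w) ∈ V := by
      have : j i w ∈ Set.range (j i) := ⟨w, rfl⟩
      rw [hj] at this
      exact this
    let y : Spec ((W' i).residueField w) ⟶ Z := (W' i).fromSpecResidueField w ≫ j i ≫ p i
    have hyV : Set.range y ⊆ Set.range V.ι := by
      rintro _ ⟨t, rfl⟩
      rw [Scheme.Opens.range_ι]
      change ((W' i).fromSpecResidueField w ≫ j i ≫ p i) t ∈ V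
      rw [Scheme.Hom.comp_apply, Scheme.fromSpecResidueField_apply, Scheme.Hom.comp_apply]
      exact hw
    let v : Spec ((W' i).residueField w) ⟶ (V : Scheme.{u}) := IsOpenImmersion.lift V.ι y hyV
    have hv : v ≫ V.ι = y := IsOpenImmersion.lift_fac _ _ _
    refine ⟨v, (hp _ (Field.toIsField ((W' i).residueField w)) y).unique ?_ ?_⟩
    · dsimp only
      rw [Category.assoc]
    · dsimp only
      rw [Category.assoc, hσ2, hv]
  have hsurj : Function.Surjective τ := by
    intro w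
    obtain ⟨v, hv⟩ := key i₀ w
    have h1 : (W' i₀).fromSpecResidueField w ≫ j i₀ = v ≫ σ := eq_of_heq (Sigma.mk.inj hv).2
    have h2 : (W' i₀).fromSpecResidueField w = v ≫ τ := by
      rw [← cancel_mono (j i₀), h1, Category.assoc, hτ]
    refine ⟨v (default : Spec ((W' i₀).residueField w)), ?_⟩
    rw [← Scheme.Hom.comp_apply, ← h2, Scheme.fromSpecResidueField_apply]
  have hempty : ∀ i, i ≠ i₀ → IsEmpty (W' i) := by
    intro i hi
    refine ⟨fun w => ?_⟩
    obtain ⟨v, hv⟩ := key i w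
    exact hi (congrArg Sigma.fst hv)
  have h4 : τ ≫ j i₀ ≫ p i₀ ≫ g = V.ι ≫ g := by
    rw [← Category.assoc (j i₀), ← Category.assoc τ, hτ2]
  have h5 : QuasiCompact (τ ≫ j i₀ ≫ p i₀ ≫ g) := by rw [h4]; infer_instance
  have h6 : LocallyOfFiniteType (τ ≫ j i₀ ≫ p i₀ ≫ g) := by rw [h4]; infer_instance
  rw [Finset.sum_eq_single i₀ (fun i _ hi => cl_eq_zero_of_isEmpty' (hempty i hi) _)
    (fun h => absurd (Finset.mem_univ _) h), ← cl_immersion_surj (j i₀ ≫ p i₀ ≫ g) τ hsurj]
  exact cl_congr_hom h4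

/-- **Additivity of the class for finite families jointly bijective on field-valued points.** -/
theorem sum_cl_eq_of_bijFam {Y : Scheme.{u}} {X : ι → Scheme.{u}} (f : ∀ i, X i ⟶ Y) (g : Y ⟶ S)
    [LocallyOfFiniteType g] [QuasiCompact g]
    [∀ i, LocallyOfFiniteType (f i)] [∀ i, QuasiCompact (f i)] (h : BijFam X f) :
    ∑ i, cl (f i ≫ g) = cl g := by
  have hY := isNoetherian_of_ft g
  suffices H : ∀ (C : TopologicalSpace.Closeds Y) (Z : Scheme.{u}) (i : Z ⟶ Y) [IsClosedImmersion i],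
      Set.range i = C → ∀ (W : ι → Scheme.{u}) (p : ∀ a, W a ⟶ Z) [∀ a, LocallyOfFiniteType (p a)]
      [∀ a, QuasiCompact (p a)],
      BijFam W p → ∑ a, cl (p a ≫ i ≫ g) = cl (i ≫ g) by
    have h1 := H ⊤ Y (𝟙 Y) (by rw [Set.range_eq_univ.mpr]; rfl; exact fun y => ⟨y, by simp⟩) X f h
    have e2 : cl (𝟙 Y ≫ g) = cl g := cl_congr_hom (by simp)
    rw [← e2, ← h1]
    exact Finset.sum_congr rfl fun a _ => cl_congr_hom (by simp)
  intro C
  induction C using WellFoundedLT.induction with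
  | ind C IH =>
  intro Z i _ hi W p _ _ hp
  -- reduce to `Z` reduced
  suffices H : ∀ (Z : Scheme.{u}) (i : Z ⟶ Y) [IsClosedImmersion i] [IsReduced Z],
      Set.range i = C → ∀ (W : ι → Scheme.{u}) (p : ∀ a, W a ⟶ Z) [∀ a, LocallyOfFiniteType (p a)]
      [∀ a, QuasiCompact (p a)],
      BijFam W p → ∑ a, cl (p a ≫ i ≫ g) = cl (i ≫ g) by
    have hred : IsReduced Z.nilradical.subscheme :=
      Groth.Agent.Ega1.ReducedSub.isReduced_subscheme_radical ⊥
    have hsurj : Function.Surjective Z.nilradical.subschemeι := by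
      rw [← Set.range_eq_univ, Scheme.IdealSheafData.range_subschemeι, Scheme.support_nilradical]
      rfl
    have h1 := H Z.nilradical.subscheme (Z.nilradical.subschemeι ≫ i)
      (by rw [← hi, Scheme.Hom.comp_base, TopCat.coe_comp, Set.range_comp, hsurj.range_eq, Set.image_univ])
      _ (fun a => pullback.snd (p a) Z.nilradical.subschemeι) (hp.pullback_snd _)
    have h2 : ∀ a, Function.Surjective (pullback.fst (p a) Z.nilradical.subschemeι) := by
      intro a
      rw [← Set.range_eq_univ, Scheme.Pullback.range_fst, hsurj.range_eq, Set.preimage_univ]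
    have e2 : cl (Z.nilradical.subschemeι ≫ i ≫ g) = cl ((Z.nilradical.subschemeι ≫ i) ≫ g) :=
      cl_congr_hom (by simp only [Category.assoc])
    rw [← cl_closed_surj (i ≫ g) Z.nilradical.subschemeι hsurj, e2, ← h1]
    refine Finset.sum_congr rfl fun a _ => ?_
    rw [← cl_closed_surj (p a ≫ i ≫ g) (pullback.fst (p a) Z.nilradical.subschemeι) (h2 a)]
    apply cl_congr_hom
    rw [← Category.assoc, pullback.condition]
    simp only [Category.assoc]
  clear! Z W
  intro Z i _ _ hi W p _ _ hp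
  rcases isEmpty_or_nonempty Z with hZ | hZ
  · have : ∀ a, IsEmpty (W a) := fun a => Function.isEmpty (p a)
    rw [cl_of_isEmpty (i ≫ g)]
    exact Finset.sum_eq_zero fun a _ => cl_eq_zero_of_isEmpty' (this a) _
  have hZN := isNoetherian_of_ft (i ≫ g)
  have hWN : ∀ a, IsNoetherian (W a) := fun a => isNoetherian_of_ft (p a ≫ i ≫ g)
  obtain ⟨V, hVne, hV⟩ := exists_open_cl_eq (i ≫ g) p hp
  let D : TopologicalSpace.Closeds Z := ⟨(V : Set Z)ᶜ, V.2.isClosed_compl⟩
  let I := Scheme.IdealSheafData.vanishingIdeal D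
  have hrI : Set.range I.subschemeι = (V : Set Z)ᶜ := by
    rw [Scheme.IdealSheafData.range_subschemeι, Scheme.IdealSheafData.coe_support_vanishingIdeal]
    rfl
  have hlt : (⟨Set.range (I.subschemeι ≫ i), (I.subschemeι ≫ i).isClosedEmbedding.isClosed_range⟩ :
      TopologicalSpace.Closeds Y) < C := by
    rw [lt_iff_le_and_ne]
    constructor
    · intro y hy
      obtain ⟨z, rfl⟩ := hy
      change _ ∈ (C : Set Y)
      rw [← hi]
      exact ⟨I.subschemeι z, by rw [Scheme.Hom.comp_apply]⟩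
    · intro he
      obtain ⟨z, hz⟩ := hVne
      have h1 : i z ∈ (C : Set Y) := by rw [← hi]; exact ⟨z, rfl⟩
      rw [← he] at h1
      obtain ⟨w, hw⟩ := h1
      rw [Scheme.Hom.comp_apply] at hw
      have h2 := i.isClosedEmbedding.injective hw
      have h3 : z ∈ Set.range I.subschemeι := ⟨w, h2⟩
      rw [hrI] at h3
      exact h3 hz
  have h1 := IH _ hlt I.subscheme (I.subschemeι ≫ i) rfl _ (fun a => pullback.snd (p a) I.subschemeι)
    (hp.pullback_snd _)
  have h2 := hV _ (fun a => (p a ⁻¹ᵁ V).ι) (fun a => by rw [Scheme.Opens.range_ι]; rfl)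
  have h3 : ∀ a, cl (p a ≫ i ≫ g) = cl (pullback.snd (p a) I.subschemeι ≫ (I.subschemeι ≫ i) ≫ g) +
      cl ((p a ⁻¹ᵁ V).ι ≫ p a ≫ i ≫ g) := by
    intro a
    rw [cl_open_closed (p a ≫ i ≫ g) (pullback.fst (p a) I.subschemeι) (p a ⁻¹ᵁ V).ι (by
      rw [Scheme.Pullback.range_fst, hrI, Scheme.Opens.range_ι]; rfl)]
    congr 1
    apply cl_congr_hom
    rw [← Category.assoc, pullback.condition]
    simp only [Category.assoc]
  rw [Finset.sum_congr rfl fun a _ => h3 a, Finset.sum_add_distrib, h1, h2,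
    cl_open_closed (i ≫ g) I.subschemeι V.ι (by rw [hrI, Scheme.Opens.range_ι])]
  congr 1

/-- Families with the same field-valued points in an ambient scheme. -/
theorem sum_cl_eq_of_points {H P : Scheme.{u}} {X : ι → Scheme.{u}} (f : ∀ i, X i ⟶ H) (j : P ⟶ H) (g : H ⟶ S)
    [LocallyOfFiniteType g] [QuasiCompact g] [LocallyOfFiniteType j] [QuasiCompact j]
    [∀ i, LocallyOfFiniteType (f i)] [∀ i, QuasiCompact (f i)]
    (hinj : InjPts j)
    (h1 : ∀ (K : CommRingCat.{u}) (_ : IsField K) (i : ι) (x : Spec K ⟶ X i),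
      ∃ y : Spec K ⟶ P, y ≫ j = x ≫ f i)
    (h2 : ∀ (K : CommRingCat.{u}) (_ : IsField K) (y : Spec K ⟶ P),
      ∃! x : Σ i, (Spec K ⟶ X i), x.2 ≫ f x.1 = y ≫ j) :
    ∑ i, cl (f i ≫ g) = cl (j ≫ g) := by
  -- pull back to P
  have hA : BijFam (fun i => pullback (f i) j) (fun i => pullback.snd (f i) j) := by
    intro K hK y
    obtain ⟨⟨i, x⟩, hx, hx'⟩ := h2 K hK y
    refine ⟨⟨i, pullback.lift x y hx⟩, pullback.lift_snd _ _ _, ?_⟩
    rintro ⟨i', w⟩ hw
    have h3 := hx' ⟨i', w ≫ pullback.fst (f i') j⟩ (by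
      dsimp only at hw ⊢
      rw [Category.assoc, pullback.condition, ← Category.assoc, hw])
    obtain rfl : i' = i := congrArg Sigma.fst h3
    have h4 : w ≫ pullback.fst (f i') j = x := eq_of_heq (Sigma.mk.inj h3).2
    congr 1
    apply pullback.hom_ext
    · rw [pullback.lift_fst, h4]
    · rw [pullback.lift_snd]; exact hw
  have hB : ∀ i, BijPts (pullback.fst (f i) j) := by
    intro i K hK x
    obtain ⟨y, hy⟩ := h1 K hK i x
    refine ⟨pullback.lift x y hy.symm, pullback.lift_fst _ _ _, ?_⟩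
    intro w hw
    apply pullback.hom_ext
    · rw [pullback.lift_fst]; exact hw
    · rw [pullback.lift_snd]
      apply hinj K hK
      rw [Category.assoc, ← pullback.condition, ← Category.assoc, hw, hy]
  rw [← sum_cl_eq_of_bijFam _ (j ≫ g) hA]
  refine Finset.sum_congr rfl fun i _ => ?_
  rw [← cl_eq_of_bijPts (pullback.fst (f i) j) (f i ≫ g) (hB i)]
  apply cl_congr_hom
  rw [← Category.assoc, pullback.condition, Category.assoc]

end main

end K842.K0Fam
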