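import Groth.Agent.HilbZeta.K842.K0Fam
import Mathlib.RingTheory.TensorProduct.Free
import Mathlib.RingTheory.FiniteType
import Mathlib.Algebra.MvPolynomial.Equiv
import Mathlib.AlgebraicGeometry.AffineSpace

/-!
# Classes of affine schemes over a field
-/

set_option autoImplicit false
set_option backward.isDefEq.respectTransparency false
universe u v w

open CategoryTheory CategoryTheory.Limits AlgebraicGeometry TensorProduct

namespace K842.AffCl

open K842.K0Basic K842.K0Fam

variable (k : Type u) [Field k]

theorem lft_of_finiteType (A : Type u) [CommRing A] [Algebra k A] [Algebra.FiniteType k A] :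
    LocallyOfFiniteType (Spec.map (CommRingCat.ofHom (algebraMap k A))) := by
  rw [HasRingHomProperty.Spec_iff (P := @LocallyOfFiniteType)]
  exact RingHom.finiteType_algebraMap.mpr inferInstance

/-- the class of an affine scheme of finite type. -/
noncomputable def ac (A : Type u) [CommRing A] [Algebra k A] [Algebra.FiniteType k A] :
    K0Var.K (Spec (CommRingCat.of k)) :=
  haveI := lft_of_finiteType k A
  K0Var.cl (Spec.map (CommRingCat.ofHom (algebraMap k A)))

variable {k}

theorem ac_eq_cl (A : Type u) [CommRing A] [Algebra k A] [Algebra.FiniteType k A]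
    (g : Spec (CommRingCat.of A) ⟶ Spec (CommRingCat.of k)) [LocallyOfFiniteType g] [QuasiCompact g]
    (hg : g = Spec.map (CommRingCat.ofHom (algebraMap k A))) : K0Var.cl g = ac k A := by
  subst hg; rfl

/-- Additivity for families of homomorphisms jointly bijective on field-valued points. -/
theorem ac_sum {ι : Type v} [Fintype ι] (A' : Type u) [CommRing A'] [Algebra k A'] [Algebra.FiniteType k A']
    (A : ι → Type u) [∀ i, CommRing (A i)] [∀ i, Algebra k (A i)] [∀ i, Algebra.FiniteType k (A i)]
    (θ : ∀ i, A' →ₐ[k] A i)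
    (h : ∀ (K : Type u) [Field K] [Algebra k K] (φ : A' →ₐ[k] K),
      ∃! x : Σ i, (A i →ₐ[k] K), x.2.comp (θ x.1) = φ) :
    ∑ i, ac k (A i) = ac k A' := by
  have hA' := lft_of_finiteType k A'
  have hA := fun i => lft_of_finiteType k (A i)
  have hθ : ∀ i, Spec.map (CommRingCat.ofHom (θ i).toRingHom) ≫ Spec.map (CommRingCat.ofHom (algebraMap k A')) =
      Spec.map (CommRingCat.ofHom (algebraMap k (A i))) := by
    intro i
    rw [← Spec.map_comp, ← CommRingCat.ofHom_comp]
    congr 2
    exact (θ i).comp_algebraMap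
  have hθ1 : ∀ i, LocallyOfFiniteType (Spec.map (CommRingCat.ofHom (θ i).toRingHom)) := by
    intro i
    have : LocallyOfFiniteType (Spec.map (CommRingCat.ofHom (θ i).toRingHom) ≫
      Spec.map (CommRingCat.ofHom (algebraMap k A'))) := by rw [hθ]; infer_instance
    exact locallyOfFiniteType_of_comp _ (Spec.map (CommRingCat.ofHom (algebraMap k A')))
  have main := sum_cl_eq_of_bijFam (fun i => Spec.map (CommRingCat.ofHom (θ i).toRingHom))
    (Spec.map (CommRingCat.ofHom (algebraMap k A'))) (by
      intro K hK y
      letI := hK.toField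
      obtain ⟨φ, rfl⟩ := Spec.map_surjective y
      letI : Algebra k K := (φ.hom.comp (algebraMap k A')).toAlgebra
      let φ' : A' →ₐ[k] K := { φ.hom with commutes' := fun _ => rfl }
      obtain ⟨⟨i, x⟩, hx, hu⟩ := h K φ'
      dsimp only at hx
      refine ⟨⟨i, Spec.map (CommRingCat.ofHom x.toRingHom)⟩, ?_, ?_⟩
      · dsimp only
        rw [← Spec.map_comp, ← CommRingCat.ofHom_comp]
        congr 1
        ext a
        exact congr($hx a)
      · rintro ⟨i', y'⟩ hy'
        dsimp only at hy'
        obtain ⟨ψ, rfl⟩ := Spec.map_surjective y'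
        rw [← Spec.map_comp] at hy'
        have h3 := Spec.map_injective hy'
        let ψ' : A i' →ₐ[k] K := { ψ.hom with
          commutes' := fun c => by
            have h4 := congr($(h3).hom (algebraMap k A' c))
            have h5 : ψ.hom ((θ i') (algebraMap k A' c)) = φ.hom (algebraMap k A' c) := h4
            rw [(θ i').commutes] at h5
            exact h5 }
        have h6 := hu ⟨i', ψ'⟩ (by
          ext a
          exact congr($(h3).hom a))
        obtain ⟨rfl, h7⟩ := Sigma.mk.inj_iff.1 h6
        have h8 := eq_of_heq h7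
        congr 2
        rw [← h8]
        rfl)
  rw [ac]
  rw [← main]
  refine Finset.sum_congr rfl fun i _ => ?_
  rw [ac]
  exact cl_congr_hom (hθ i).symm

/-- A homomorphism bijective on field-valued points. -/
theorem ac_congr {A A' : Type u} [CommRing A'] [Algebra k A'] [Algebra.FiniteType k A']
    [CommRing A] [Algebra k A] [Algebra.FiniteType k A] (θ : A' →ₐ[k] A)
    (h : ∀ (K : Type u) [Field K] [Algebra k K],
      Function.Bijective (fun φ : A →ₐ[k] K => φ.comp θ)) : ac k A = ac k A' := by
  have := ac_sum (ι := Unit) A' (fun _ => A) (fun _ => θ) (fun K _ _ φ => by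
    obtain ⟨x, hx⟩ := (h K).2 φ
    refine ⟨⟨(), x⟩, hx, ?_⟩
    rintro ⟨⟨⟩, y⟩ hy
    congr 1
    exact (h K).1 (hy.trans hx.symm))
  simpa using this

theorem ac_equiv {A A' : Type u} [CommRing A'] [Algebra k A'] [Algebra.FiniteType k A']
    [CommRing A] [Algebra k A] [Algebra.FiniteType k A] (θ : A' ≃ₐ[k] A) : ac k A = ac k A' :=
  ac_congr θ.toAlgHom (fun K _ _ => by
    refine Function.bijective_iff_has_inverse.2 ⟨fun φ => φ.comp θ.symm.toAlgHom, ?_, ?_⟩
    · intro φ; ext a; simp
    · intro φ; ext a; simp)

theorem ac_self : ac k k = 1 := by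
  have h := lft_of_finiteType k k
  rw [ac, ← K0Var.cl_one (Spec (CommRingCat.of k))]
  apply cl_congr_hom
  exact Spec.map_id _

theorem ac_zero {A : Type u} [CommRing A] [Algebra k A] [Algebra.FiniteType k A] [Subsingleton A] :
    ac k A = 0 := by
  have hA := lft_of_finiteType k A
  rw [ac]
  have : IsEmpty (Spec (CommRingCat.of A)) := inferInstanceAs (IsEmpty (PrimeSpectrum A))
  exact cl_of_isEmpty _

/-- Multiplicativity. -/
theorem ac_mul (A A' : Type u) [CommRing A'] [Algebra k A'] [Algebra.FiniteType k A']
    [CommRing A] [Algebra k A] [Algebra.FiniteType k A] [Algebra.FiniteType k (A ⊗[k] A')] :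
    ac k (A ⊗[k] A') = ac k A * ac k A' := by
  have hA' := lft_of_finiteType k A'
  have hA := lft_of_finiteType k A
  have hAA := lft_of_finiteType k (A ⊗[k] A')
  rw [ac, ac, ac, ← K0Var.cl_mul]
  apply K0Var.cl_congr _ _ (pullbackSpecIso k A A').symm
  rw [Iso.symm_hom, ← Category.assoc, pullbackSpecIso_inv_fst', ← Spec.map_comp, ← CommRingCat.ofHom_comp]
  congr 2

/-- The class of the affine line. -/
theorem ac_mvPolynomial_punit : ac k (MvPolynomial PUnit.{u + 1} k) = K0Var.L (Spec (CommRingCat.of k)) := by
  have h := lft_of_finiteType k (MvPolynomial PUnit.{u + 1} k)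
  rw [ac, K0Var.L]
  apply K0Var.cl_congr _ _ (AffineSpace.SpecIso PUnit.{u + 1} (CommRingCat.of k)).symm
  exact AffineSpace.SpecIso_inv_over _

end K842.AffCl
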