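import Groth.Agent.HilbZeta.K842.Pres

/-!
# Ideals of `K ⊗ S` as stable subspaces of coordinate vectors
-/

set_option autoImplicit false
set_option backward.isDefEq.respectTransparency false
universe u v w

open TensorProduct

namespace K842.VecForm

open K842.Pres

variable {k S : Type u} [Field k] [CommRing S] [Algebra k S] {ν : Type v} [Fintype ν]
  (e : Module.Basis ν k S) {α : Type w} {d : ℕ}

/-- multiplication by an element of `S` on coordinates. -/
noncomputable def mulv (K : Type u) [CommRing K] [Algebra k K] (s : S) (x : ν → K) : ν → K :=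
  fun n => ∑ m, x m * algebraMap k K (e.repr (s * e m) n)

theorem vec_mulv (K : Type u) [CommRing K] [Algebra k K] (s : S) (x : ν → K) :
    vec e K (mulv e K s x) = ((1 : K) ⊗ₜ[k] s) * vec e K x := by
  rw [vec_apply, vec_apply, Finset.mul_sum]
  have h1 : ∀ n, (mulv e K s x n) ⊗ₜ[k] e n =
      ∑ m, (x m * algebraMap k K (e.repr (s * e m) n)) ⊗ₜ[k] e n := fun n => by
    rw [mulv, TensorProduct.sum_tmul]
  rw [Finset.sum_congr rfl fun n _ => h1 n, Finset.sum_comm]
  refine Finset.sum_congr rfl fun m _ => ?_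
  rw [Algebra.TensorProduct.tmul_mul_tmul, one_mul]
  conv_rhs => rw [← e.sum_repr (s * e m), TensorProduct.tmul_sum]
  refine Finset.sum_congr rfl fun n _ => ?_
  rw [mul_comm, ← Algebra.smul_def, TensorProduct.smul_tmul]

/-- stability under multiplication. -/
def Stab {K : Type u} [Field K] [Algebra k K] (W : Submodule K (ν → K)) : Prop :=
  ∀ (s : S), ∀ x ∈ W, mulv e K s x ∈ W

variable {K : Type u} [Field K] [Algebra k K]

/-- the ideal of a stable subspace. -/
noncomputable def toIdeal (W : Submodule K (ν → K)) (hW : Stab e W) : Ideal (K ⊗[k] S) :=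
  { carrier := {z | (vec e K).symm z ∈ W}
    add_mem' := fun {a b} ha hb => by
      have h1 : (vec e K).symm a ∈ W := ha
      have h2 : (vec e K).symm b ∈ W := hb
      rw [Set.mem_ofPred_eq, map_add]
      exact W.add_mem h1 h2
    zero_mem' := by
      rw [Set.mem_ofPred_eq, map_zero]
      exact W.zero_mem
    smul_mem' := fun c z hz => by
      have hz' : (vec e K).symm z ∈ W := hz
      rw [Set.mem_ofPred_eq, smul_eq_mul]
      induction c using TensorProduct.induction_on with
      | zero => rw [zero_mul, map_zero]; exact W.zero_mem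
      | add x y hx hy => rw [add_mul, map_add]; exact W.add_mem hx hy
      | tmul a s =>
        have h1 : (a ⊗ₜ[k] s : K ⊗[k] S) * z = a • (((1 : K) ⊗ₜ[k] s) * z) := by
          rw [← smul_mul_assoc, TensorProduct.smul_tmul', smul_eq_mul, mul_one]
        have h2 : (vec e K).symm (((1 : K) ⊗ₜ[k] s) * z) = mulv e K s ((vec e K).symm z) := by
          rw [LinearEquiv.symm_apply_eq, vec_mulv, LinearEquiv.apply_symm_apply]
        rw [h1, map_smul, h2]
        exact W.smul_mem _ (hW s _ hz') }

theorem mem_toIdeal (W : Submodule K (ν → K)) (hW : Stab e W) (z : K ⊗[k] S) :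
    z ∈ toIdeal e W hW ↔ (vec e K).symm z ∈ W := Iff.rfl

/-- the subspace of an ideal. -/
noncomputable def ofIdeal (J : Ideal (K ⊗[k] S)) : Submodule K (ν → K) :=
  (J.restrictScalars K).comap (vec e K).toLinearMap

theorem mem_ofIdeal (J : Ideal (K ⊗[k] S)) (x : ν → K) : x ∈ ofIdeal e J ↔ vec e K x ∈ J := Iff.rfl

theorem stab_ofIdeal (J : Ideal (K ⊗[k] S)) : Stab e (ofIdeal e J) := by
  intro s x hx
  rw [mem_ofIdeal, vec_mulv]
  exact J.mul_mem_left _ hx

theorem toIdeal_ofIdeal (J : Ideal (K ⊗[k] S)) : toIdeal e (ofIdeal e J) (stab_ofIdeal e J) = J := by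
  ext z
  rw [mem_toIdeal, mem_ofIdeal, LinearEquiv.apply_symm_apply]

theorem ofIdeal_toIdeal (W : Submodule K (ν → K)) (hW : Stab e W) : ofIdeal e (toIdeal e W hW) = W := by
  ext x
  rw [mem_ofIdeal, mem_toIdeal, LinearEquiv.symm_apply_apply]

theorem finrank_quotient_add (J : Ideal (K ⊗[k] S)) :
    Module.finrank K ((K ⊗[k] S) ⧸ J) + Module.finrank K (ofIdeal e J) = Fintype.card ν := by
  have hS : Module.Finite k S := Module.Finite.of_basis e
  have h1 := Submodule.finrank_quotient_add_finrank (J.restrictScalars K)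
  have h2 : Module.finrank K (K ⊗[k] S) = Fintype.card ν :=
    Module.finrank_eq_card_basis (Algebra.TensorProduct.basis K e)
  have h3 : Module.finrank K (ofIdeal e J) = Module.finrank K (J.restrictScalars K) :=
    LinearEquiv.finrank_eq ((vec e K).submoduleMap (ofIdeal e J) ≪≫ₗ LinearEquiv.ofEq _ _ (by
      rw [ofIdeal]
      exact Submodule.map_comap_eq_of_surjective (vec e K).surjective _))
  rw [h3, ← h2, ← h1]
  rfl

/-- The ideal generated by vectors spanning a stable subspace. -/
theorem ofIdeal_presIdeal (w : α → ν → K) (hw : Stab e (Submodule.span K (Set.range w))) :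
    ofIdeal e (presIdeal e K w) = Submodule.span K (Set.range w) := by
  apply le_antisymm
  · have h1 : presIdeal e K w ≤ toIdeal e _ hw := by
      rw [presIdeal, Ideal.span_le]
      rintro _ ⟨a, rfl⟩
      rw [SetLike.mem_coe, mem_toIdeal, LinearEquiv.symm_apply_apply]
      exact Submodule.subset_span ⟨a, rfl⟩
    intro x hx
    have h2 := h1 hx
    rw [mem_toIdeal] at h2
    simpa using h2
  · rw [Submodule.span_le]
    rintro _ ⟨a, rfl⟩
    exact Ideal.subset_span ⟨a, rfl⟩

/-- transfer of the hypotheses of the main theorem to subspaces. -/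
theorem h1_of_vec {B : Type u} [CommRing B] [Algebra k B] (w : α → ν → B)
    (h : ∀ (K : Type u) [Field K] [Algebra k K] (φ : B →ₐ[k] K),
      Stab e (Submodule.span K (Set.range fun a n => φ (w a n))) ∧
      Module.finrank K (Submodule.span K (Set.range fun a n => φ (w a n))) + d = Fintype.card ν)
    (K : Type u) [Field K] [Algebra k K] (φ : B →ₐ[k] K) :
    Module.finrank K (presAlg e K (fun a n => φ (w a n))) = d := by
  obtain ⟨h1, h2⟩ := h K φ
  have h3 := finrank_quotient_add e (presIdeal e K (fun a n => φ (w a n)))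
  rw [ofIdeal_presIdeal e _ h1] at h3
  change Module.finrank K ((K ⊗[k] S) ⧸ presIdeal e K (fun a n => φ (w a n))) = d
  omega

theorem h2_of_vec {ι : Type v} (B : ι → Type u) [∀ i, CommRing (B i)] [∀ i, Algebra k (B i)]
    {α : ι → Type w} (w : ∀ i, α i → ν → B i)
    (h : ∀ (i : ι) (K : Type u) [Field K] [Algebra k K] (φ : B i →ₐ[k] K),
      Stab e (Submodule.span K (Set.range fun a n => φ (w i a n))))
    (h' : ∀ (K : Type u) [Field K] [Algebra k K] (W : Submodule K (ν → K)), Stab e W →
      Module.finrank K W + d = Fintype.card ν →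
        ∃! x : Σ i, (B i →ₐ[k] K), Submodule.span K (Set.range fun a n => x.2 (w x.1 a n)) = W)
    (K : Type u) [Field K] [Algebra k K] (J : Ideal (K ⊗[k] S))
    (hJ : Module.finrank K ((K ⊗[k] S) ⧸ J) = d) :
    ∃! x : Σ i, (B i →ₐ[k] K), presIdeal e K (fun a n => x.2 (w x.1 a n)) = J := by
  have h3 := finrank_quotient_add e J
  obtain ⟨x, hx, hu⟩ := h' K (ofIdeal e J) (stab_ofIdeal e J) (by omega)
  refine ⟨x, ?_, ?_⟩
  · rw [← ofIdeal_presIdeal e _ (h _ K _)] at hx
    rw [← toIdeal_ofIdeal e J, ← toIdeal_ofIdeal e (presIdeal e K fun a n => x.snd (w x.fst a n))]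
    congr 1
  · intro y hy
    apply hu
    rw [← hy, ofIdeal_presIdeal e _ (h _ K _)]

end K842.VecForm
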