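import Groth.Agent.HilbZeta.K842.AffMain
import Groth.Agent.HilbZeta.K842.AffCl
import Groth.Agent.HilbZeta.K842.VecForm

/-!
# The class of the punctual Hilbert scheme from explicit families
-/

set_option autoImplicit false
set_option backward.isDefEq.respectTransparency false
universe u v w

open CategoryTheory CategoryTheory.Limits AlgebraicGeometry TensorProduct

namespace K842.AffClass

open Groth.Agent.Picfga.HilbPull Groth.Agent.Picfga.HilbTriple Groth.Agent.Picfga.HilbRep K842.CoprodRank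
  K842.Split K842.K0Basic K842.K0Fam K842.SplitField K842.AffObj K842.AffField K842.Pres K842.ProdFormula
  K842.AffPar K842.AffMain K842.AffCl

variable {k : Type u} [Field k] {R S : Type u} [CommRing R] [Algebra k R] [CommRing S] [Algebra k S]
  {ν : Type} [Fintype ν] (e : Module.Basis ν k S) {d : ℕ}

theorem ac_rd (B : Type u) [CommRing B] [Algebra k B] [Algebra.FiniteType k B]
    [Algebra.FiniteType k (Rd B)] : ac k (Rd B) = ac k B :=
  ac_congr (Ideal.Quotient.mkₐ k (nilradical B)) (fun K _ _ => by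
    constructor
    · intro φ ψ h
      ext b
      obtain ⟨b, rfl⟩ := Ideal.Quotient.mk_surjective b
      exact congr($h b)
    · intro φ
      refine ⟨rdLift φ, ?_⟩
      ext b
      rfl)

variable {ι : Type} [Fintype ι] (B : ι → Type u) [∀ i, CommRing (B i)] [∀ i, Algebra k (B i)]
  [∀ i, Algebra.FiniteType k (B i)] {α : ι → Type w} (w : ∀ i, α i → ν → B i)
  (h1 : ∀ (i : ι) (K : Type u) [Field K] [Algebra k K] (φ : B i →ₐ[k] K),
    Module.finrank K (presAlg e K (fun a n => φ (w i a n))) = d)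
  (ρ₀ : R →ₐ[k] S) (hρ₀ : Function.Surjective ρ₀)
  {X : Scheme.{u}} (f : X ⟶ Spec (CommRingCat.of k)) [IsSeparated f]
  (j : Spec (CommRingCat.of R) ⟶ X) [IsOpenImmersion j]
  (hj : j ≫ f = Spec.map (CommRingCat.ofHom (algebraMap k R)))
  (x₀ : Spec (CommRingCat.of R)) (hm : x₀.asIdeal.IsMaximal) (hfg : x₀.asIdeal.FG)
  {H : Over (Spec (CommRingCat.of k))} {Z : HilbD.Obj f d H} (hZ : HilbD.IsUniversal f d H Z)
  [LocallyOfFiniteType H.hom] [QuasiCompact H.hom]
  {P : Scheme.{u}} (jP : P ⟶ H.left) [IsImmersion jP] [LocallyOfFiniteType jP] [QuasiCompact jP]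
  (hP : Set.range jP = locus {j x₀} Z)

include h1 hρ₀ hj hm hfg hZ hP in
/-- **The class of the punctual Hilbert scheme.** -/
theorem cl_eq_sum_ac (N : ℕ) (hN : ∀ r ∈ x₀.asIdeal ^ N, ρ₀ r = 0)
    (hker : ∀ r, ρ₀ r = 0 → r ∈ x₀.asIdeal ^ d)
    (h2 : ∀ (K : Type u) [Field K] [Algebra k K] (J : Ideal (K ⊗[k] S)),
      Module.finrank K ((K ⊗[k] S) ⧸ J) = d →
        ∃! x : Σ i, (B i →ₐ[k] K), presIdeal e K (fun a n => x.2 (w x.1 a n)) = J) :
    K0Var.cl (jP ≫ H.hom) = ∑ i, ac k (B i) := by
  have hNo : ∀ i, IsNoetherianRing (B i) := fun i => Algebra.FiniteType.isNoetherianRing k (B i)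
  obtain ⟨g, hg1, hg2⟩ := exists_maps e B w h1 ρ₀ hρ₀ f j hj x₀ hm hfg hZ jP hP N hN hker h2
  have hft : ∀ i, Algebra.FiniteType k (Rd (B i)) := fun i => inferInstance
  have hlft : ∀ i, LocallyOfFiniteType (spk k (Rd (B i))).hom := fun i => lft_of_finiteType k _
  have hg3 : ∀ i, LocallyOfFiniteType (g i).left := by
    intro i
    have : LocallyOfFiniteType ((g i).left ≫ H.hom) := by rw [Over.w]; exact hlft i
    exact locallyOfFiniteType_of_comp (g i).left H.hom
  have hN1 : IsNoetherian (Spec (CommRingCat.of k)) := inferInstance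
  have hN2 : IsNoetherian H.left := isNoetherian_of_ft H.hom
  have hg4 : ∀ i, QuasiCompact (g i).left := by
    intro i
    have : QuasiCompact (spk k (Rd (B i))).hom := by
      change QuasiCompact (Spec.map _)
      infer_instance
    have : IsNoetherian (spk k (Rd (B i))).left := isNoetherian_of_ft (spk k (Rd (B i))).hom
    infer_instance
  have main := sum_cl_eq_of_points (fun i => (g i).left) jP H.hom (InjPts.of_mono jP) hg1 hg2
  rw [← main]
  refine Finset.sum_congr rfl fun i _ => ?_
  rw [← ac_rd (B i)]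
  exact ac_eq_cl _ _ (Over.w (g i))

end K842.AffClass
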