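import Mathlib.LinearAlgebra.FiniteDimensional.Lemmas
import Mathlib.RingTheory.Nilpotent.Lemmas
import Mathlib.RingTheory.Ideal.Operations

/-!
# Nilpotent ideals of finite-dimensional algebras
-/

set_option autoImplicit false
universe u v

namespace K842.NilDim

variable {K : Type u} [Field K] {A : Type v} [CommRing A] [Algebra K A] [FiniteDimensional K A]

theorem pow_eq_bot_of_pow_succ_eq {I : Ideal A} (hI : IsNilpotent I) {i : ℕ} (h : I ^ (i + 1) = I ^ i) :
    I ^ i = ⊥ := by
  obtain ⟨n, hn⟩ := hI
  have h1 : ∀ m, I ^ (i + m) = I ^ i := by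
    intro m
    induction m with
    | zero => rfl
    | succ m ih => rw [← add_assoc, pow_succ, ih, ← pow_succ, h]
  rw [← h1 n, pow_add, hn, mul_zero]
  rfl

theorem finrank_pow_add_le {I : Ideal A} (hI : IsNilpotent I) (i : ℕ) (hi : i ≤ Module.finrank K A) :
    Module.finrank K (I ^ i : Ideal A) + i ≤ Module.finrank K A := by
  induction i with
  | zero =>
    rw [add_zero]
    exact Submodule.finrank_le ((I ^ 0).restrictScalars K)
  | succ i ih =>
    have h1 := ih (by omega)
    by_cases h : I ^ (i + 1) = I ^ i
    · have h2 := pow_eq_bot_of_pow_succ_eq hI h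
      rw [h, h2]
      have : Module.finrank K (⊥ : Ideal A) = 0 := finrank_bot K A
      omega
    · have hlt : (I ^ (i + 1)).restrictScalars K < (I ^ i).restrictScalars K := by
        rw [lt_iff_le_and_ne]
        refine ⟨Ideal.pow_le_pow_right (Nat.le_succ i), fun he => h ?_⟩
        exact Submodule.restrictScalars_injective K A A he
      have h2 := Submodule.finrank_lt_finrank_of_lt hlt
      change Module.finrank K (I ^ (i + 1) : Ideal A) < Module.finrank K (I ^ i : Ideal A) at h2
      omega

/-- A nilpotent ideal of an algebra of dimension `d` has vanishing `d`-th power. -/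
theorem pow_finrank_eq_bot {I : Ideal A} (hI : IsNilpotent I) : I ^ Module.finrank K A = ⊥ := by
  have h1 := finrank_pow_add_le (K := K) hI _ le_rfl
  have h2 : Module.finrank K (I ^ Module.finrank K A : Ideal A) = 0 := by omega
  have h3 : (I ^ Module.finrank K A).restrictScalars K = ⊥ := Submodule.finrank_eq_zero.1 h2
  exact Submodule.restrictScalars_injective K A A h3

end K842.NilDim
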