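import Groth.Agent.HilbZeta.K842.AffObj
import Groth.Agent.HilbZeta.K842.NilDim

/-!
# Finite subschemes supported at a point over a field
-/

set_option autoImplicit false
set_option backward.isDefEq.respectTransparency false
universe u

open CategoryTheory CategoryTheory.Limits AlgebraicGeometry TensorProduct

namespace K842.AffField

open Groth.Agent.Picfga.HilbPull Groth.Agent.Picfga.HilbTriple Groth.Agent.Picfga.HilbRep K842.CoprodRank
  K842.Split K842.K0Basic K842.K0Fam K842.SplitField K842.AffObj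

variable {k : Type u} [Field k] {X : Scheme.{u}} (f : X ⟶ Spec (CommRingCat.of k))
  {R : Type u} [CommRing R] [Algebra k R] (j : Spec (CommRingCat.of R) ⟶ X)
  (hj : j ≫ f = Spec.map (CommRingCat.ofHom (algebraMap k R))) {d : ℕ}

/-- the support of a family killed by a power of a maximal ideal. -/
theorem supp_obj [IsSeparated f] [IsOpenImmersion j] {B : Type u} [CommRing B] [Algebra k B]
    (F : Fam k R d B) (x₀ : Spec (CommRingCat.of R)) (hx₀ : x₀.asIdeal.IsMaximal) (N : ℕ)
    (hN : ∀ r ∈ x₀.asIdeal ^ N, F.ρ r = 0) : Supp {j x₀} (F.obj f j hj) := by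
  obtain ⟨e, he1, he2⟩ := F.exists_iso_obj f j hj
  intro z
  obtain ⟨p, rfl⟩ : ∃ v, e.hom v = z := ⟨e.inv z, by rw [← Scheme.Hom.comp_apply]; simp⟩
  rw [← Scheme.Hom.comp_apply]
  have h1 : e.hom ≫ pr (F.obj f j hj) = Spec.map (CommRingCat.ofHom F.ρ.toRingHom) ≫ j := he2
  rw [h1, Scheme.Hom.comp_apply, Set.mem_singleton_iff]
  congr 1
  apply PrimeSpectrum.ext
  have h2 : x₀.asIdeal ≤ (Spec.map (CommRingCat.ofHom F.ρ.toRingHom) p).asIdeal := by
    intro r hr
    have h3 : F.ρ (r ^ N) ∈ p.asIdeal := by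
      rw [hN _ (Ideal.pow_mem_pow hr N)]
      exact p.asIdeal.zero_mem
    rw [map_pow] at h3
    exact p.2.mem_of_pow_mem _ h3
  exact (hx₀.eq_of_le (Spec.map (CommRingCat.ofHom F.ρ.toRingHom) p).2.ne_top h2).symm

/-- Over a field, the elements supported at the point come from algebras. -/
theorem exists_fam [IsSeparated f] [IsOpenImmersion j] {K : Type u} [Field K] [Algebra k K]
    (x₀ : Spec (CommRingCat.of R)) (hm : x₀.asIdeal.FG) (x : HilbD.Obj f d (spk k K))
    (hx : Supp {j x₀} x) :
    ∃ F : Fam k R d K, F.obj f j hj = x ∧ Module.Finite K F.A ∧ Module.finrank K F.A = d ∧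
      ∀ r ∈ x₀.asIdeal ^ d, F.ρ r = 0 := by
  have hfin : IsFinite (pi f x.1) := x.2.1.1
  have hfl : Flat (pi f x.1) := x.2.1.2.1
  have haff : IsAffine x.1.subscheme := isAffine_of_isAffineHom (pi f x.1)
  let q' : x.1.subscheme ⟶ Spec (CommRingCat.of R) := IsOpenImmersion.lift j (qq f x.1) (by
    rintro _ ⟨z, rfl⟩
    have := hx z
    rw [Set.mem_singleton_iff] at this
    exact ⟨x₀, this.symm⟩)
  have hq' : q' ≫ j = qq f x.1 := IsOpenImmersion.lift_fac _ _ _
  let iso := x.1.subscheme.isoSpec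
  obtain ⟨a, ha⟩ := Spec.map_surjective (R := CommRingCat.of K) (iso.inv ≫ pi f x.1)
  obtain ⟨b, hb⟩ := Spec.map_surjective (iso.inv ≫ q')
  let A : Type u := Γ(x.1.subscheme, ⊤)
  letI : Algebra K A := a.hom.toAlgebra
  letI : Algebra k A := (a.hom.comp (algebraMap k K)).toAlgebra
  haveI : IsScalarTower k K A := IsScalarTower.of_algebraMap_eq (fun _ => rfl)
  have hcomp : CommRingCat.ofHom (algebraMap k R) ≫ b = CommRingCat.ofHom (algebraMap k K) ≫ a := by
    apply Spec.map_injective
    rw [Spec.map_comp, Spec.map_comp, hb, ha, Category.assoc, Category.assoc, ← hj, ← Category.assoc q' j,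
      hq']
    exact congrArg (iso.inv ≫ ·) (qq_comp f x.1)
  let ρ : R →ₐ[k] A := { b.hom with commutes' := fun r => congr($(hcomp).hom r) }
  have hdeg : Mor2.IsFinLocFreeOfDeg d (Spec.map (CommRingCat.ofHom (algebraMap K A))) := by
    have h1 : Spec.map (CommRingCat.ofHom (algebraMap K A)) = iso.inv ≫ pi f x.1 := ha
    rw [h1]
    exact isFinLocFreeOfDeg_comp_iso x.2
  have hfinA : Module.Finite K A := (IsFinite.SpecMap_iff _).1 hdeg.1.1
  have hflatA : Module.Flat K A := inferInstance
  -- the surjection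
  let τ : K ⊗[k] R →ₐ[K] A := Algebra.TensorProduct.lift (Algebra.ofId K A) ρ (fun _ _ => Commute.all _ _)
  have hτ1 : ∀ (c : K) (r : R), τ (c ⊗ₜ r) = c • ρ r := by
    intro c r
    rw [Algebra.TensorProduct.lift_tmul, Algebra.smul_def]
    rfl
  have hτ2 : Spec.map (CommRingCat.ofHom τ.toRingHom) ≫ chart f j K hj = iso.inv ≫ x.1.subschemeι := by
    apply pullback.hom_ext
    · rw [Category.assoc, chart_fst, ← Category.assoc, ← Spec.map_comp, ← CommRingCat.ofHom_comp,
        Category.assoc]
      have h1 : (τ.toRingHom.comp (Algebra.TensorProduct.includeRight : R →ₐ[k] K ⊗[k] R).toRingHom) =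
          b.hom := by
        ext r
        change τ (1 ⊗ₜ r) = b.hom r
        rw [hτ1, one_smul]
        rfl
      rw [h1, CommRingCat.ofHom_hom, hb, Category.assoc, hq']
    · rw [Category.assoc, chart_snd, ← Spec.map_comp, ← CommRingCat.ofHom_comp, Category.assoc]
      have h1 : (τ.toRingHom.comp (algebraMap K (K ⊗[k] R))) = a.hom := τ.comp_algebraMap
      rw [h1, CommRingCat.ofHom_hom]
      exact ha
  have hmono := mono_chart f j hj K
  have hcl : IsClosedImmersion (Spec.map (CommRingCat.ofHom τ.toRingHom)) := by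
    have h1 : IsClosedImmersion (Spec.map (CommRingCat.ofHom τ.toRingHom) ≫ chart f j K hj) := by
      rw [hτ2]; infer_instance
    rw [IsClosedImmersion.iff_isFinite_and_mono]
    exact ⟨IsFinite.of_comp _ (chart f j K hj), mono_of_mono _ (chart f j K hj)⟩
  have hsurj : Function.Surjective τ := by
    have h1 := (IsClosedImmersion.isAffine_surjective_of_isAffine
      (Spec.map (CommRingCat.ofHom τ.toRingHom))).2
    intro y
    have h2 := Scheme.ΓSpecIso_naturality (CommRingCat.ofHom τ.toRingHom)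
    obtain ⟨z, hz⟩ := h1 ((Scheme.ΓSpecIso (CommRingCat.of A)).inv.hom y)
    refine ⟨(Scheme.ΓSpecIso (CommRingCat.of (K ⊗[k] R))).hom.hom z, ?_⟩
    have h3 := congr($(h2).hom z)
    have h4 : (Scheme.ΓSpecIso (CommRingCat.of A)).hom.hom
        ((Spec.map (CommRingCat.ofHom τ.toRingHom)).appTop.hom z) = y := by
      rw [hz]
      exact congr($((Scheme.ΓSpecIso (CommRingCat.of A)).inv_hom_id).hom y)
    rw [← h4]
    exact h3.symm
  have hspan : Submodule.span K (Set.range ρ) = ⊤ := by
    rw [eq_top_iff]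
    rintro y -
    obtain ⟨z, rfl⟩ := hsurj y
    induction z using TensorProduct.induction_on with
    | zero => rw [map_zero]; exact Submodule.zero_mem _
    | tmul c r => rw [hτ1]; exact Submodule.smul_mem _ _ (Submodule.subset_span ⟨r, rfl⟩)
    | add x y hx hy => rw [map_add]; exact Submodule.add_mem _ hx hy
  let F : Fam k R d K := { A := A, ρ := ρ, span := hspan, deg := hdeg }
  have hrank : Module.finrank K A = d := by
    have h1 := hdeg.2 (⊥ : PrimeSpectrum K)
    have h2 := Scheme.Hom.finrank_SpecMap_algebraMap K A (⊥ : PrimeSpectrum K)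
    rw [Module.rankAtStalk_eq_finrank_of_free] at h2
    exact h2.symm.trans h1
  refine ⟨F, ?_, hfinA, hrank, ?_⟩
  · have := (F.pullObj_eq_iff f j hj (𝟙 _) x).2 ⟨iso.hom, IsPullback.of_horiz_isIso ⟨by
      have h1 : Spec.map (CommRingCat.ofHom (algebraMap K A)) = iso.inv ≫ pi f x.1 := ha
      rw [Over.id_left, Category.comp_id]
      change iso.hom ≫ Spec.map (CommRingCat.ofHom (algebraMap K A)) = _
      rw [h1, Iso.hom_inv_id_assoc]⟩, by
      have h1 : Spec.map (CommRingCat.ofHom ρ.toRingHom) = iso.inv ≫ q' := hb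
      change iso.hom ≫ Spec.map (CommRingCat.ofHom ρ.toRingHom) ≫ j = _
      rw [h1, Category.assoc, Iso.hom_inv_id_assoc, hq']⟩
    rwa [pullObj_id] at this
  · -- nilpotency
    have hnil : x₀.asIdeal.map ρ.toRingHom ≤ nilradical A := by
      rw [nilradical_eq_sInf, le_sInf_iff]
      intro P hP
      rw [Ideal.map_le_iff_le_comap]
      have hz := hx (iso.inv ⟨P, hP⟩)
      rw [Set.mem_singleton_iff] at hz
      have h1 : pr x = q' ≫ j := hq'.symm
      rw [h1, Scheme.Hom.comp_apply] at hz
      have h2 := j.isOpenEmbedding.injective hz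
      rw [← Scheme.Hom.comp_apply, ← hb] at h2
      have h3 := congrArg PrimeSpectrum.asIdeal h2
      exact h3.symm.le
    have hnilp : IsNilpotent (x₀.asIdeal.map ρ.toRingHom) := by
      obtain ⟨n, hn⟩ := Ideal.exists_pow_le_of_le_radical_of_fg (J := ⊥) hnil (hm.map ρ.toRingHom)
      exact ⟨n, le_bot_iff.1 hn⟩
    intro r hr
    have h1 := Ideal.mem_map_of_mem ρ.toRingHom hr
    have h2 := NilDim.pow_finrank_eq_bot (K := K) hnilp
    rw [hrank] at h2
    rw [Ideal.map_pow, h2] at h1
    exact h1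

end K842.AffField
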