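import Groth.Agent.HilbZeta.K842.AffPar

/-!
# Punctual Hilbert schemes: joint bijectivity on field-valued points from explicit families
-/

set_option autoImplicit false
set_option backward.isDefEq.respectTransparency false
universe u v w

open CategoryTheory CategoryTheory.Limits AlgebraicGeometry TensorProduct

namespace K842.AffMain

open Groth.Agent.Picfga.HilbPull Groth.Agent.Picfga.HilbTriple Groth.Agent.Picfga.HilbRep K842.CoprodRank
  K842.Split K842.K0Basic K842.K0Fam K842.SplitField K842.AffObj K842.AffField K842.Pres K842.ProdFormula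
  K842.AffPar

variable {k : Type u} [Field k] {R S : Type u} [CommRing R] [Algebra k R] [CommRing S] [Algebra k S]
  {ν : Type v} [Fintype ν] (e : Module.Basis ν k S) {d : ℕ}

/-- reduction of an algebra. -/
abbrev Rd (B : Type u) [CommRing B] : Type u := B ⧸ nilradical B

instance (B : Type u) [CommRing B] : IsReduced (Rd B) :=
  (Ideal.isRadical_iff_quotient_reduced _).mp (Ideal.radical_isRadical _)

/-- homs to a field factor through the reduction. -/
noncomputable def rdLift {B : Type u} [CommRing B] [Algebra k B] {K : Type u} [Field K] [Algebra k K]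
    (φ : B →ₐ[k] K) : Rd B →ₐ[k] K :=
  Ideal.Quotient.liftₐ (nilradical B) φ (fun a ha => by
    have h : IsNilpotent (φ a) := (mem_nilradical.1 ha).map φ
    exact h.eq_zero)

theorem rdLift_mk {B : Type u} [CommRing B] [Algebra k B] {K : Type u} [Field K] [Algebra k K]
    (φ : B →ₐ[k] K) (b : B) : rdLift φ (Ideal.Quotient.mk _ b) = φ b := rfl

section main

variable {ι : Type v} (B : ι → Type u) [∀ i, CommRing (B i)] [∀ i, Algebra k (B i)]
  [∀ i, IsNoetherianRing (B i)] {α : ι → Type w} (w : ∀ i, α i → ν → B i)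
  (h1 : ∀ (i : ι) (K : Type u) [Field K] [Algebra k K] (φ : B i →ₐ[k] K),
    Module.finrank K (presAlg e K (fun a n => φ (w i a n))) = d)
  (ρ₀ : R →ₐ[k] S) (hρ₀ : Function.Surjective ρ₀)

/-- the families over the reductions. -/
noncomputable def famRd (i : ι) : Fam k R d (Rd (B i)) :=
  presFam e ρ₀ hρ₀ (fun a n => (Ideal.Quotient.mk _ (w i a n) : Rd (B i))) (fun K _ _ φ =>
    h1 i K (φ.comp (Ideal.Quotient.mkₐ k _)))

variable {X : Scheme.{u}} (f : X ⟶ Spec (CommRingCat.of k)) [IsSeparated f]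
  (j : Spec (CommRingCat.of R) ⟶ X) [IsOpenImmersion j]
  (hj : j ≫ f = Spec.map (CommRingCat.ofHom (algebraMap k R)))
  (x₀ : Spec (CommRingCat.of R)) (hm : x₀.asIdeal.IsMaximal) (hfg : x₀.asIdeal.FG)
  {H : Over (Spec (CommRingCat.of k))} {Z : HilbD.Obj f d H} (hZ : HilbD.IsUniversal f d H Z)
  {P : Scheme.{u}} (jP : P ⟶ H.left) [IsImmersion jP] (hP : Set.range jP = locus {j x₀} Z)

theorem exists_spkMap_eq {K : Type u} [Field K] {B : Type u} [CommRing B] [Algebra k B] [Algebra k K]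
    (x : spk k K ⟶ spk k B) : ∃ φ : B →ₐ[k] K, spkMap φ = x := by
  obtain ⟨ψ, hψ⟩ := Spec.map_surjective x.left
  have hw := Over.w x
  rw [← hψ] at hw
  have hw' : Spec.map ψ ≫ Spec.map (CommRingCat.ofHom (algebraMap k B)) =
      Spec.map (CommRingCat.ofHom (algebraMap k K)) := hw
  rw [← Spec.map_comp] at hw'
  have h2 := Spec.map_injective hw'
  refine ⟨{ ψ.hom with commutes' := fun r => congr($(h2).hom r) }, ?_⟩
  ext1
  exact hψ

/-- base change of the families to fields. -/
theorem pullObj_famRd {K : Type u} [Field K] [Algebra k K] (i : ι) (φ : Rd (B i) →ₐ[k] K) :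
    pullObj f (spkMap φ) ((famRd e B w h1 ρ₀ hρ₀ i).obj f j hj) =
      (presFam e ρ₀ hρ₀ (fun a n => φ (Ideal.Quotient.mk _ (w i a n))) (fun K' _ _ φ' =>
        h1 i K' ((φ'.comp φ).comp (Ideal.Quotient.mkₐ k _))) : Fam k R d K).obj f j hj := by
  apply (famRd e B w h1 ρ₀ hρ₀ i).pullObj_eq_of_isPushout f j hj φ
    (presFam e ρ₀ hρ₀ (fun a n => φ (Ideal.Quotient.mk _ (w i a n))) (fun K' _ _ φ' =>
        h1 i K' ((φ'.comp φ).comp (Ideal.Quotient.mkₐ k _))) : Fam k R d K)
    (bcMap e φ (fun a n => (Ideal.Quotient.mk _ (w i a n) : Rd (B i))))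
  · exact isPushout_bc e φ _
  · intro r
    change bcMap e φ _ (Ideal.Quotient.mk _ ((1 : Rd (B i)) ⊗ₜ[k] ρ₀ r)) = Ideal.Quotient.mk _ ((1 : K) ⊗ₜ ρ₀ r)
    rw [bcMap_mk, Algebra.TensorProduct.map_tmul, map_one]
    rfl

include hm in
theorem supp_famRd (N : ℕ) (hN : ∀ r ∈ x₀.asIdeal ^ N, ρ₀ r = 0) (i : ι) :
    Supp {j x₀} ((famRd e B w h1 ρ₀ hρ₀ i).obj f j hj) :=
  supp_obj f j hj _ x₀ hm N (fun r hr => by
    change Ideal.Quotient.mk _ ((1 : Rd (B i)) ⊗ₜ[k] ρ₀ r) = 0
    rw [hN r hr, TensorProduct.tmul_zero, map_zero])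

include h1 hρ₀ hj hm hfg hZ hP in
/-- **Joint bijectivity on field-valued points.** -/
theorem exists_maps (N : ℕ) (hN : ∀ r ∈ x₀.asIdeal ^ N, ρ₀ r = 0)
    (hker : ∀ r, ρ₀ r = 0 → r ∈ x₀.asIdeal ^ d)
    (h2 : ∀ (K : Type u) [Field K] [Algebra k K] (J : Ideal (K ⊗[k] S)),
      Module.finrank K ((K ⊗[k] S) ⧸ J) = d →
        ∃! x : Σ i, (B i →ₐ[k] K), presIdeal e K (fun a n => x.2 (w x.1 a n)) = J) :
    ∃ g : ∀ i, spk k (Rd (B i)) ⟶ H,
      (∀ (K : CommRingCat.{u}) (_ : IsField K) (i : ι) (x : Spec K ⟶ (spk k (Rd (B i))).left),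
        ∃ y : Spec K ⟶ P, y ≫ jP = x ≫ (g i).left) ∧
      (∀ (K : CommRingCat.{u}) (_ : IsField K) (y : Spec K ⟶ P),
        ∃! x : Σ i, (Spec K ⟶ (spk k (Rd (B i))).left), x.2 ≫ (g x.1).left = y ≫ jP) := by
  choose g hg _ using fun i => hZ (spk k (Rd (B i))) ((famRd e B w h1 ρ₀ hρ₀ i).obj f j hj)
  have hg' : ∀ i, pullObj f (g i) Z = (famRd e B w h1 ρ₀ hρ₀ i).obj f j hj := fun i => Subtype.ext (hg i)
  refine ⟨g, ?_, ?_⟩
  · intro K hK i x
    rw [exists_lift_iff jP hP hK]
    intro p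
    have h3 : Supp {j x₀} (pullObj f (g i) Z) := by
      rw [hg']
      exact supp_famRd e B w h1 ρ₀ hρ₀ f j hj x₀ hm N hN i
    rw [Scheme.Hom.comp_apply]
    exact (supp_pull_iff _ _ _).1 h3 _
  · suffices H : ∀ (K : Type u) [Field K] (y : Spec (CommRingCat.of K) ⟶ P),
        ∃! x : Σ i, (Spec (CommRingCat.of K) ⟶ (spk k (Rd (B i))).left), x.2 ≫ (g x.1).left = y ≫ jP by
      intro K hK y
      let := hK.toField
      exact H K y
    intro K _ y
    -- the algebra structure
    obtain ⟨ψ, hψ⟩ := Spec.map_surjective ((y ≫ jP) ≫ H.hom)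
    letI : Algebra k K := ψ.hom.toAlgebra
    have hψ' : (spk k K).hom = (y ≫ jP) ≫ H.hom := hψ
    let yH : spk k K ⟶ H := Over.homMk (y ≫ jP) hψ'.symm
    have hsupp : Supp {j x₀} (pullObj f yH Z) := by
      rw [supp_pull_iff]
      exact (exists_lift_iff jP hP (Field.toIsField K) (y ≫ jP)).1 ⟨y, rfl⟩
    obtain ⟨F, hF, hFfin, hFd, hFm⟩ := exists_fam f j hj x₀ hfg _ hsupp
    obtain ⟨τ, hτ1, hτ2⟩ := exists_ideal ρ₀ hρ₀ F (fun r hr => hFm r (hker r hr))
    have hJd : Module.finrank K ((K ⊗[k] S) ⧸ RingHom.ker τ) = d :=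
      (Ideal.quotientKerAlgEquivOfSurjective hτ1).toLinearEquiv.finrank_eq.trans hFd
    obtain ⟨⟨i, φ⟩, hφ, huniq⟩ := h2 K (RingHom.ker τ) hJd
    dsimp only at hφ
    -- compare a hom with the ideal
    have key1 : spkMap (rdLift φ) ≫ g i = yH := by
      have h5 : pullObj f (spkMap (rdLift φ) ≫ g i) Z = pullObj f yH Z := by
        rw [pullObj_comp, hg', pullObj_famRd, ← hF]
        apply obj_eq_of_equiv f j hj _ _ (((Ideal.quotientEquivAlgOfEq K hφ).trans
          (Ideal.quotientKerAlgEquivOfSurjective hτ1)))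
        intro r
        change τ ((1 : K) ⊗ₜ[k] ρ₀ r) = F.ρ r
        rw [hτ2, one_smul]
      exact hom_ext_of_isUniversal hZ (congrArg Subtype.val h5)
    refine ⟨⟨i, (spkMap (rdLift φ)).left⟩, congrArg CommaMorphism.left key1, ?_⟩
    rintro ⟨i', x'⟩ hx'
    dsimp only at hx'
    have hw' : x' ≫ (spk k (Rd (B i'))).hom = (spk k K).hom := by
      rw [← Over.w (g i'), ← Category.assoc, hx', hψ']
    obtain ⟨φ', hφ'⟩ := exists_spkMap_eq (Over.homMk x' hw' : spk k K ⟶ spk k (Rd (B i')))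
    have hx'' : x' = (spkMap φ').left := by rw [hφ']; rfl
    have h6 : spkMap φ' ≫ g i' = yH := by
      rw [hφ']
      ext1
      exact hx'
    have h7 := congrArg (fun t => pullObj f t Z) h6
    rw [pullObj_comp, hg', pullObj_famRd, ← hF] at h7
    obtain ⟨θ, hθ⟩ := Fam.exists_hom_of_obj_eq f j hj _ _ h7
    -- the ideal of `φ'` is contained in the kernel
    have hle : presIdeal e K (fun a n => φ' (Ideal.Quotient.mk _ (w i' a n))) ≤ RingHom.ker τ := by
      have h8 : ∀ z : K ⊗[k] S, θ (Ideal.Quotient.mk _ z) = τ z := by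
        intro z
        induction z using TensorProduct.induction_on with
        | zero => exact (congrArg θ (map_zero _)).trans ((map_zero θ).trans (map_zero τ).symm)
        | add a b ha hb =>
          exact (congrArg θ (map_add _ a b)).trans ((map_add θ _ _).trans
            ((congrArg₂ (· + ·) ha hb).trans (map_add τ a b).symm))
        | tmul c s =>
          obtain ⟨r, rfl⟩ := hρ₀ s
          rw [hτ2, ← hθ r, ← map_smul]
          congr 1
          have h9 : (c ⊗ₜ[k] ρ₀ r : K ⊗[k] S) = c • ((1 : K) ⊗ₜ[k] ρ₀ r) := by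
            rw [TensorProduct.smul_tmul', smul_eq_mul, mul_one]
          rw [h9]
          rfl
      intro z hz
      rw [RingHom.mem_ker]
      change τ z = 0
      exact (h8 z).symm.trans ((congrArg θ (Ideal.Quotient.eq_zero_iff_mem.2 hz)).trans (map_zero θ))
    have hS : Module.Finite k S := Module.Finite.of_basis e
    have heq : presIdeal e K (fun a n => φ' (Ideal.Quotient.mk _ (w i' a n))) = RingHom.ker τ := by
      have h9 : Module.finrank K ((K ⊗[k] S) ⧸
          presIdeal e K (fun a n => φ' (Ideal.Quotient.mk _ (w i' a n)))) = d :=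
        h1 i' K (φ'.comp (Ideal.Quotient.mkₐ k _))
      apply le_antisymm hle
      have hfr1 := Submodule.finrank_quotient_add_finrank
        ((presIdeal e K (fun a n => φ' (Ideal.Quotient.mk _ (w i' a n)))).restrictScalars K)
      have hfr2 := Submodule.finrank_quotient_add_finrank ((RingHom.ker τ).restrictScalars K)
      have h10 := Submodule.eq_of_le_of_finrank_eq
        (S₁ := (presIdeal e K (fun a n => φ' (Ideal.Quotient.mk _ (w i' a n)))).restrictScalars K)
        (S₂ := (RingHom.ker τ).restrictScalars K) hle (by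
          have h11 : Module.finrank K ((K ⊗[k] S) ⧸
            (presIdeal e K (fun a n => φ' (Ideal.Quotient.mk _ (w i' a n)))).restrictScalars K) = d := h9
          have h12 : Module.finrank K ((K ⊗[k] S) ⧸ (RingHom.ker τ).restrictScalars K) = d := hJd
          omega)
      exact (Submodule.restrictScalars_injective K _ _ h10).ge
    have h13 := huniq ⟨i', φ'.comp (Ideal.Quotient.mkₐ k _)⟩ heq
    obtain ⟨rfl, h14⟩ := Sigma.mk.inj_iff.1 h13
    have h15 := eq_of_heq h14
    rw [hx'']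
    congr 3
    ext b
    obtain ⟨b, rfl⟩ := Ideal.Quotient.mk_surjective b
    rw [rdLift_mk, ← h15]
    rfl

end main

end K842.AffMain
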