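import Groth.Agent.HilbZeta.K842.SplitField

/-!
# Elements of the Hilbert functor of points from algebras

`j : Spec R ⟶ X` is an open immersion over `k`; a family over `Spec B` is given by a finite locally free
`B`-algebra `A` of rank `d` with a map `ρ : R → A` whose image spans `A` over `B`.
-/

set_option autoImplicit false
set_option backward.isDefEq.respectTransparency false
universe u

open CategoryTheory CategoryTheory.Limits AlgebraicGeometry TensorProduct

namespace K842.AffObj

open Groth.Agent.Picfga.HilbPull Groth.Agent.Picfga.HilbTriple Groth.Agent.Picfga.HilbRep K842.CoprodRank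
  K842.Split K842.K0Basic K842.K0Fam K842.SplitField

/-- the spectrum of an algebra as a scheme over the base. -/
noncomputable abbrev spk (k B : Type u) [CommRing k] [CommRing B] [Algebra k B] : Over (Spec (CommRingCat.of k)) :=
  Over.mk (Spec.map (CommRingCat.ofHom (algebraMap k B)))

/-- the map of spectra over the base. -/
noncomputable abbrev spkMap {k B C : Type u} [CommRing k] [CommRing B] [Algebra k B] [CommRing C] [Algebra k C]
    (φ : B →ₐ[k] C) : spk k C ⟶ spk k B :=
  Over.homMk (Spec.map (CommRingCat.ofHom φ.toRingHom)) (by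
    change Spec.map _ ≫ Spec.map _ = Spec.map _
    rw [← Spec.map_comp, ← CommRingCat.ofHom_comp]
    congr 2
    exact φ.comp_algebraMap)

/-- A family of finite subschemes of `Spec R` over `Spec B`. -/
structure Fam (k R : Type u) [CommRing k] [CommRing R] [Algebra k R] (d : ℕ) (B : Type u) [CommRing B]
    [Algebra k B] where
  /-- the algebra -/
  A : Type u
  [cr : CommRing A]
  [ak : Algebra k A]
  [ab : Algebra B A]
  [tower : IsScalarTower k B A]
  /-- the structure map -/
  ρ : R →ₐ[k] A
  span : Submodule.span B (Set.range ρ) = ⊤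
  deg : Mor2.IsFinLocFreeOfDeg d (Spec.map (CommRingCat.ofHom (algebraMap B A)))

attribute [instance] Fam.cr Fam.ak Fam.ab Fam.tower

section

variable {k : Type u} [Field k] {X : Scheme.{u}} (f : X ⟶ Spec (CommRingCat.of k))
  {R : Type u} [CommRing R] [Algebra k R] (j : Spec (CommRingCat.of R) ⟶ X)
  (hj : j ≫ f = Spec.map (CommRingCat.ofHom (algebraMap k R))) {d : ℕ}

/-- the chart of `X_B`. -/
noncomputable def chart (B : Type u) [CommRing B] [Algebra k B]
    (hj : j ≫ f = Spec.map (CommRingCat.ofHom (algebraMap k R))) :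
    Spec (CommRingCat.of (B ⊗[k] R)) ⟶ PicF.XT f (spk k B) :=
  pullback.lift (Spec.map (CommRingCat.ofHom (Algebra.TensorProduct.includeRight : R →ₐ[k] B ⊗[k] R).toRingHom) ≫ j)
    (Spec.map (CommRingCat.ofHom (algebraMap B (B ⊗[k] R)))) (by
      rw [Category.assoc, hj]
      change _ = Spec.map _ ≫ Spec.map _
      rw [← Spec.map_comp, ← Spec.map_comp, ← CommRingCat.ofHom_comp, ← CommRingCat.ofHom_comp]
      congr 2
      ext x
      change (1 : B) ⊗ₜ[k] (algebraMap k R x) = (algebraMap k B x) ⊗ₜ[k] (1 : R)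
      rw [Algebra.algebraMap_eq_smul_one, Algebra.algebraMap_eq_smul_one, TensorProduct.smul_tmul])

@[reassoc]
theorem chart_fst (B : Type u) [CommRing B] [Algebra k B] :
    chart f j B hj ≫ pullback.fst f (spk k B).hom =
      Spec.map (CommRingCat.ofHom (Algebra.TensorProduct.includeRight : R →ₐ[k] B ⊗[k] R).toRingHom) ≫ j :=
  pullback.lift_fst _ _ _

@[reassoc]
theorem chart_snd (B : Type u) [CommRing B] [Algebra k B] :
    chart f j B hj ≫ pullback.snd f (spk k B).hom = Spec.map (CommRingCat.ofHom (algebraMap B (B ⊗[k] R))) :=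
  pullback.lift_snd _ _ _

theorem mono_chart [IsOpenImmersion j] (B : Type u) [CommRing B] [Algebra k B] : Mono (chart f j B hj) := by
  constructor
  intro T u v huv
  have h1 := congrArg (· ≫ pullback.fst f (spk k B).hom) huv
  have h2 := congrArg (· ≫ pullback.snd f (spk k B).hom) huv
  simp only [Category.assoc, chart_fst, chart_snd] at h1 h2
  rw [← Category.assoc, ← Category.assoc, cancel_mono] at h1
  rw [← cancel_mono (pullbackSpecIso k B R).inv]
  apply pullback.hom_ext
  · rw [Category.assoc, Category.assoc, pullbackSpecIso_inv_fst']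
    exact h2
  · rw [Category.assoc, Category.assoc, pullbackSpecIso_inv_snd]
    exact h1

/-- the ring map of a family. -/
noncomputable def Fam.tens {B : Type u} [CommRing B] [Algebra k B] (F : Fam k R d B) :
    B ⊗[k] R →ₐ[B] F.A :=
  Algebra.TensorProduct.lift (Algebra.ofId B F.A) F.ρ (fun _ _ => Commute.all _ _)

theorem Fam.tens_tmul {B : Type u} [CommRing B] [Algebra k B] (F : Fam k R d B) (b : B) (r : R) :
    F.tens (b ⊗ₜ r) = b • F.ρ r := by
  rw [Fam.tens, Algebra.TensorProduct.lift_tmul, Algebra.smul_def]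
  rfl

theorem Fam.tens_surjective {B : Type u} [CommRing B] [Algebra k B] (F : Fam k R d B) :
    Function.Surjective F.tens := by
  intro a
  have ha : a ∈ Submodule.span B (Set.range F.ρ) := by rw [F.span]; trivial
  induction ha using Submodule.span_induction with
  | mem a ha =>
    obtain ⟨r, rfl⟩ := ha
    exact ⟨1 ⊗ₜ r, by rw [F.tens_tmul, one_smul]⟩
  | zero => exact ⟨0, map_zero _⟩
  | add x y _ _ hx hy =>
    obtain ⟨x, rfl⟩ := hx
    obtain ⟨y, rfl⟩ := hy
    exact ⟨x + y, map_add _ _ _⟩
  | smul b x _ hx =>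
    obtain ⟨x, rfl⟩ := hx
    exact ⟨b • x, map_smul _ _ _⟩

/-- compatibility. -/
theorem Fam.w {B : Type u} [CommRing B] [Algebra k B] (F : Fam k R d B)
    (hj : j ≫ f = Spec.map (CommRingCat.ofHom (algebraMap k R))) :
    (Spec.map (CommRingCat.ofHom F.ρ.toRingHom) ≫ j) ≫ f =
      Spec.map (CommRingCat.ofHom (algebraMap B F.A)) ≫ (spk k B).hom := by
  rw [Category.assoc, hj]
  change _ = Spec.map _ ≫ Spec.map _
  rw [← Spec.map_comp, ← Spec.map_comp, ← CommRingCat.ofHom_comp, ← CommRingCat.ofHom_comp]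
  congr 2
  exact F.ρ.comp_algebraMap.trans (IsScalarTower.algebraMap_eq k B F.A)

theorem Fam.toXT_eq {B : Type u} [CommRing B] [Algebra k B] (F : Fam k R d B) :
    toXT f (T := spk k B) (Spec.map (CommRingCat.ofHom (algebraMap B F.A)))
      (Spec.map (CommRingCat.ofHom F.ρ.toRingHom) ≫ j) (F.w f j hj) =
      Spec.map (CommRingCat.ofHom F.tens.toRingHom) ≫ chart f j B hj := by
  apply pullback.hom_ext
  · rw [pullback.lift_fst, Category.assoc, chart_fst, ← Category.assoc, ← Spec.map_comp,
      ← CommRingCat.ofHom_comp]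
    congr 3
    ext r
    change F.ρ r = F.tens (1 ⊗ₜ r)
    rw [F.tens_tmul, one_smul]
  · rw [pullback.lift_snd, Category.assoc, chart_snd, ← Spec.map_comp,
      ← CommRingCat.ofHom_comp]
    congr 2
    exact (F.tens.comp_algebraMap).symm

theorem Fam.isClosedImmersion [IsSeparated f] [IsOpenImmersion j] {B : Type u} [CommRing B] [Algebra k B]
    (F : Fam k R d B) :
    IsClosedImmersion (toXT f (T := spk k B) (Spec.map (CommRingCat.ofHom (algebraMap B F.A)))
      (Spec.map (CommRingCat.ofHom F.ρ.toRingHom) ≫ j) (F.w f j hj)) := by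
  rw [IsClosedImmersion.iff_isFinite_and_mono]
  constructor
  · have h1 : IsFinite (toXT f (T := spk k B) (Spec.map (CommRingCat.ofHom (algebraMap B F.A)))
      (Spec.map (CommRingCat.ofHom F.ρ.toRingHom) ≫ j) (F.w f j hj) ≫ pullback.snd f (spk k B).hom) := by
      rw [pullback.lift_snd]
      exact F.deg.1.1
    exact IsFinite.of_comp _ (pullback.snd f (spk k B).hom)
  · rw [F.toXT_eq f j hj]
    have := mono_chart f j hj B
    have : IsClosedImmersion (Spec.map (CommRingCat.ofHom F.tens.toRingHom)) :=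
      IsClosedImmersion.spec_of_surjective _ F.tens_surjective
    infer_instance

/-- The element of the Hilbert functor attached to a family. -/
noncomputable def Fam.obj [IsSeparated f] [IsOpenImmersion j] {B : Type u} [CommRing B] [Algebra k B]
    (F : Fam k R d B) : HilbD.Obj f d (spk k B) :=
  haveI := F.isClosedImmersion f j hj
  ofTriple f (T := spk k B) (Spec.map (CommRingCat.ofHom (algebraMap B F.A)))
      (Spec.map (CommRingCat.ofHom F.ρ.toRingHom) ≫ j) (F.w f j hj) F.deg

theorem Fam.exists_iso_obj [IsSeparated f] [IsOpenImmersion j] {B : Type u} [CommRing B] [Algebra k B]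
    (F : Fam k R d B) : ∃ e : Spec (CommRingCat.of F.A) ≅ (F.obj f j hj).1.subscheme,
      e.hom ≫ pi f (F.obj f j hj).1 = Spec.map (CommRingCat.ofHom (algebraMap B F.A)) ∧
      e.hom ≫ qq f (F.obj f j hj).1 = Spec.map (CommRingCat.ofHom F.ρ.toRingHom) ≫ j :=
  haveI := F.isClosedImmersion f j hj
  exists_iso_ker f (T := spk k B) (Spec.map (CommRingCat.ofHom (algebraMap B F.A)))
      (Spec.map (CommRingCat.ofHom F.ρ.toRingHom) ≫ j) (F.w f j hj)

theorem Fam.pullObj_eq_iff [IsSeparated f] [IsOpenImmersion j] {B : Type u} [CommRing B] [Algebra k B]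
    (F : Fam k R d B) {T : Over (Spec (CommRingCat.of k))} (g : T ⟶ spk k B) (x : HilbD.Obj f d T) :
    pullObj f g (F.obj f j hj) = x ↔ ∃ m : x.1.subscheme ⟶ Spec (CommRingCat.of F.A),
      IsPullback m (pi f x.1) (Spec.map (CommRingCat.ofHom (algebraMap B F.A))) g.left ∧
      m ≫ (Spec.map (CommRingCat.ofHom F.ρ.toRingHom) ≫ j) = qq f x.1 :=
  haveI := F.isClosedImmersion f j hj
  pullObj_ofTriple_eq_iff f (T := spk k B) g (Spec.map (CommRingCat.ofHom (algebraMap B F.A)))
      (Spec.map (CommRingCat.ofHom F.ρ.toRingHom) ≫ j) (F.w f j hj) F.deg x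

/-- base change of families. -/
theorem Fam.pullObj_eq_of_isPushout [IsSeparated f] [IsOpenImmersion j] {B C : Type u} [CommRing B]
    [Algebra k B] [CommRing C] [Algebra k C] (φ : B →ₐ[k] C) (F : Fam k R d B) (G : Fam k R d C)
    (ψ : F.A →+* G.A)
    (h : IsPushout (CommRingCat.ofHom (algebraMap B F.A)) (CommRingCat.ofHom φ.toRingHom)
      (CommRingCat.ofHom ψ) (CommRingCat.ofHom (algebraMap C G.A)))
    (hρ : ∀ r, ψ (F.ρ r) = G.ρ r) :
    pullObj f (spkMap φ) (F.obj f j hj) = G.obj f j hj := by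
  obtain ⟨e, he1, he2⟩ := G.exists_iso_obj f j hj
  refine (F.pullObj_eq_iff f j hj _ _).2 ⟨e.inv ≫ Spec.map (CommRingCat.ofHom ψ), ?_, ?_⟩
  · have h1 : IsPullback (Spec.map (CommRingCat.ofHom ψ)) (Spec.map (CommRingCat.ofHom (algebraMap C G.A)))
        (Spec.map (CommRingCat.ofHom (algebraMap B F.A))) (Spec.map (CommRingCat.ofHom φ.toRingHom)) :=
      isPullback_SpecMap_of_isPushout _ _ _ _ h
    have h2 : IsPullback e.inv (pi f (G.obj f j hj).1) (Spec.map (CommRingCat.ofHom (algebraMap C G.A))) (𝟙 _) :=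
      IsPullback.of_horiz_isIso ⟨by
        rw [Category.comp_id, Iso.inv_comp_eq]; exact he1.symm⟩
    have := h2.paste_horiz h1
    rwa [Category.id_comp] at this
  · rw [Category.assoc, Iso.inv_comp_eq, he2, ← Category.assoc, ← Spec.map_comp, ← CommRingCat.ofHom_comp]
    congr 3
    ext r
    exact hρ r

theorem Fam.exists_hom_of_obj_eq [IsSeparated f] [IsOpenImmersion j] {B : Type u} [CommRing B]
    [Algebra k B] (F G : Fam k R d B) (h : F.obj f j hj = G.obj f j hj) :
    ∃ ψ : F.A →ₐ[B] G.A, ∀ r, ψ (F.ρ r) = G.ρ r := by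
  obtain ⟨e, he1, he2⟩ := F.exists_iso_obj f j hj
  obtain ⟨e', he1', he2'⟩ := G.exists_iso_obj f j hj
  obtain ⟨φ, h1, h2⟩ : ∃ φ : Spec (CommRingCat.of G.A) ⟶ Spec (CommRingCat.of F.A),
      φ ≫ Spec.map (CommRingCat.ofHom (algebraMap B F.A)) = Spec.map (CommRingCat.ofHom (algebraMap B G.A)) ∧
      φ ≫ Spec.map (CommRingCat.ofHom F.ρ.toRingHom) ≫ j = Spec.map (CommRingCat.ofHom G.ρ.toRingHom) ≫ j := by
    rw [← he1, ← he1', ← he2, ← he2']
    clear he1 he2 he1' he2'
    revert e e'
    generalize F.obj f j hj = s at h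
    generalize G.obj f j hj = s' at h
    subst h
    intro e e'
    exact ⟨e'.hom ≫ e.inv, by simp, by simp⟩
  obtain ⟨ψ, rfl⟩ := Spec.map_surjective φ
  rw [← Category.assoc, cancel_mono, ← Spec.map_comp] at h2
  rw [← Spec.map_comp] at h1
  have h1' := Spec.map_injective h1
  have h2' := Spec.map_injective h2
  refine ⟨{ ψ.hom with commutes' := fun b => congr($(h1').hom b) }, fun r => congr($(h2').hom r)⟩

end

end K842.AffObj
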