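import Groth.Agent.HilbZeta.K842.RedProj
import Mathlib.RingTheory.TensorProduct.Free
import Mathlib.RingTheory.TensorProduct.Quotient
import Mathlib.Algebra.Category.Ring.Constructions
import Mathlib.RingTheory.FinitePresentation

/-!
# Quotients of `B ⊗ S` by ideals generated by coordinate vectors
-/

set_option autoImplicit false
set_option backward.isDefEq.respectTransparency false
universe u v w

open CategoryTheory CategoryTheory.Limits TensorProduct

namespace K842.Pres

variable {k S : Type u} [Field k] [CommRing S] [Algebra k S] {ν : Type v} [Fintype ν]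
  (e : Module.Basis ν k S) {α : Type w}

section B

variable (B : Type u) [CommRing B] [Algebra k B]

/-- coordinates. -/
noncomputable def vec : (ν → B) ≃ₗ[B] B ⊗[k] S := (Algebra.TensorProduct.basis B e).equivFun.symm

theorem vec_apply (w : ν → B) : vec e B w = ∑ i, w i ⊗ₜ[k] e i := by
  rw [vec, Module.Basis.equivFun_symm_apply]
  exact Finset.sum_congr rfl fun i _ => Algebra.TensorProduct.basis_repr_symm_apply' e (w i) i

/-- the ideal generated by vectors. -/
noncomputable def presIdeal (w : α → ν → B) : Ideal (B ⊗[k] S) :=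
  Ideal.span (Set.range fun a => vec e B (w a))

/-- the quotient algebra. -/
noncomputable abbrev presAlg (w : α → ν → B) : Type u := (B ⊗[k] S) ⧸ presIdeal e B w

end B

section BC

variable {B C : Type u} [CommRing B] [Algebra k B] [CommRing C] [Algebra k C] (φ : B →ₐ[k] C)

theorem map_vec (w : ν → B) :
    Algebra.TensorProduct.map φ (AlgHom.id k S) (vec e B w) = vec e C (fun i => φ (w i)) := by
  rw [vec_apply, vec_apply, map_sum]
  exact Finset.sum_congr rfl fun i _ => Algebra.TensorProduct.map_tmul _ _ _ _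

theorem presIdeal_le_comap (w : α → ν → B) :
    presIdeal e B w ≤ (presIdeal e C (fun a i => φ (w a i))).comap
      (Algebra.TensorProduct.map φ (AlgHom.id k S)).toRingHom := by
  rw [presIdeal, Ideal.span_le]
  rintro _ ⟨a, rfl⟩
  rw [SetLike.mem_coe, Ideal.mem_comap]
  change (Algebra.TensorProduct.map φ (AlgHom.id k S)) (vec e B (w a)) ∈ _
  rw [map_vec]
  exact Ideal.subset_span ⟨a, rfl⟩

/-- the base change map. -/
noncomputable def bcMap (w : α → ν → B) : presAlg e B w →+* presAlg e C (fun a i => φ (w a i)) :=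
  Ideal.quotientMap _ (Algebra.TensorProduct.map φ (AlgHom.id k S)).toRingHom (presIdeal_le_comap e φ w)

theorem bcMap_mk (w : α → ν → B) (x : B ⊗[k] S) :
    bcMap e φ w (Ideal.Quotient.mk _ x) = Ideal.Quotient.mk _ (Algebra.TensorProduct.map φ (AlgHom.id k S) x) :=
  Ideal.quotientMap_mk

theorem exists_desc (w : α → ν → B) {T : Type u} [CommRing T] (β' : presAlg e B w →+* T) (γ' : C →+* T)
    (h : ∀ b, β' (algebraMap B (presAlg e B w) b) = γ' (φ b)) :
    ∃ δ : presAlg e C (fun a i => φ (w a i)) →+* T, (∀ x, δ (bcMap e φ w x) = β' x) ∧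
      ∀ c, δ (algebraMap C _ c) = γ' c := by
  letI : Algebra k T := (γ'.comp (algebraMap k C)).toAlgebra
  let γ : C →ₐ[k] T := { γ' with commutes' := fun _ => rfl }
  let β : S →ₐ[k] T :=
    { β'.comp ((Ideal.Quotient.mk (presIdeal e B w)).comp
        (Algebra.TensorProduct.includeRight : S →ₐ[k] B ⊗[k] S).toRingHom) with
      commutes' := fun c => by
        have h1 : β' (Ideal.Quotient.mk _ ((1 : B) ⊗ₜ (algebraMap k S c))) = γ' (algebraMap k C c) := by
          rw [← φ.commutes, ← h]
          change _ = β' (Ideal.Quotient.mk _ (algebraMap k B c ⊗ₜ 1))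
          rw [Algebra.algebraMap_eq_smul_one, Algebra.algebraMap_eq_smul_one, TensorProduct.smul_tmul]
        exact h1 }
  let δ : C ⊗[k] S →ₐ[k] T := Algebra.TensorProduct.lift γ β (fun _ _ => Commute.all _ _)
  have hδ : ∀ (b : B) (y : S), δ (φ b ⊗ₜ[k] y) = β' (Ideal.Quotient.mk _ (b ⊗ₜ y)) := by
    intro b y
    rw [Algebra.TensorProduct.lift_tmul]
    change γ' (φ b) * β' (Ideal.Quotient.mk _ ((1 : B) ⊗ₜ y)) = _
    rw [← h, ← map_mul]
    congr 1
    change Ideal.Quotient.mk _ (b ⊗ₜ 1) * Ideal.Quotient.mk _ ((1 : B) ⊗ₜ y) = _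
    rw [← map_mul, Algebra.TensorProduct.tmul_mul_tmul, one_mul, mul_one]
  have hker : presIdeal e C (fun a i => φ (w a i)) ≤ RingHom.ker δ.toRingHom := by
    rw [presIdeal, Ideal.span_le]
    rintro _ ⟨a, rfl⟩
    rw [SetLike.mem_coe, RingHom.mem_ker]
    change δ (vec e C fun i => φ (w a i)) = 0
    rw [vec_apply, map_sum, Finset.sum_congr rfl fun i _ => hδ (w a i) (e i), ← map_sum, ← map_sum,
      ← vec_apply]
    have h2 : vec e B (w a) ∈ presIdeal e B w := Ideal.subset_span ⟨a, rfl⟩
    have h3 : Ideal.Quotient.mk (presIdeal e B w) (vec e B (w a)) = 0 := Ideal.Quotient.eq_zero_iff_mem.2 h2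
    exact (congrArg β' h3).trans (map_zero _)
  refine ⟨Ideal.Quotient.lift _ δ.toRingHom (fun x hx => hker hx), ?_, ?_⟩
  · intro x
    obtain ⟨x, rfl⟩ := Ideal.Quotient.mk_surjective x
    rw [bcMap_mk, Ideal.Quotient.lift_mk]
    induction x using TensorProduct.induction_on with
    | zero => rw [map_zero, map_zero, map_zero, map_zero]
    | add x y hx hy => rw [map_add, map_add, map_add, map_add, hx, hy]
    | tmul b y =>
      rw [Algebra.TensorProduct.map_tmul]
      exact hδ b y
  · intro c
    change δ (c ⊗ₜ 1) = γ' c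
    rw [Algebra.TensorProduct.lift_tmul, map_one, mul_one]
    rfl

theorem desc_unique (w : α → ν → B) {T : Type u} [CommRing T]
    (m m' : presAlg e C (fun a i => φ (w a i)) →+* T) (h1 : ∀ x, m (bcMap e φ w x) = m' (bcMap e φ w x))
    (h2 : ∀ c, m (algebraMap C _ c) = m' (algebraMap C _ c)) : m = m' := by
  refine RingHom.ext fun x => ?_
  obtain ⟨x, rfl⟩ := Ideal.Quotient.mk_surjective x
  induction x using TensorProduct.induction_on with
  | zero => rw [map_zero, map_zero, map_zero]
  | add x y hx hy => rw [map_add, map_add, map_add, hx, hy]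
  | tmul c y =>
    have h3 : (Ideal.Quotient.mk (presIdeal e C fun a i => φ (w a i))) (c ⊗ₜ y) =
        algebraMap C (presAlg e C (fun a i => φ (w a i))) c *
          bcMap e φ w (Ideal.Quotient.mk _ ((1 : B) ⊗ₜ y)) := by
      rw [bcMap_mk, Algebra.TensorProduct.map_tmul, map_one]
      change _ = Ideal.Quotient.mk _ (c ⊗ₜ 1) * _
      rw [← map_mul, Algebra.TensorProduct.tmul_mul_tmul, one_mul, mul_one]
      rfl
    rw [h3, map_mul, map_mul, h1, h2]

theorem isPushout_bc (w : α → ν → B) :
    IsPushout (CommRingCat.ofHom (algebraMap B (presAlg e B w))) (CommRingCat.ofHom φ.toRingHom)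
      (CommRingCat.ofHom (bcMap e φ w))
      (CommRingCat.ofHom (algebraMap C (presAlg e C (fun a i => φ (w a i))))) := by
  have hw : CommRingCat.ofHom (algebraMap B (presAlg e B w)) ≫ CommRingCat.ofHom (bcMap e φ w) =
      CommRingCat.ofHom φ.toRingHom ≫
        CommRingCat.ofHom (algebraMap C (presAlg e C (fun a i => φ (w a i)))) := by
    rw [← CommRingCat.ofHom_comp, ← CommRingCat.ofHom_comp]
    refine CommRingCat.hom_ext (RingHom.ext fun b => ?_)
    change bcMap e φ w (Ideal.Quotient.mk _ (b ⊗ₜ 1)) = Ideal.Quotient.mk _ (φ b ⊗ₜ 1)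
    rw [bcMap_mk, Algebra.TensorProduct.map_tmul, map_one]
  have hex := fun s : PushoutCocone (CommRingCat.ofHom (algebraMap B (presAlg e B w)))
      (CommRingCat.ofHom φ.toRingHom) =>
    exists_desc e φ w (T := s.pt) s.inl.hom s.inr.hom (fun b => congr($(s.condition).hom b))
  choose δ hδ1 hδ2 using hex
  refine ⟨⟨hw⟩, ⟨PushoutCocone.IsColimit.mk _ (fun s => CommRingCat.ofHom (δ s)) ?_ ?_ ?_⟩⟩
  · intro s
    exact CommRingCat.hom_ext (RingHom.ext fun x => hδ1 s x)
  · intro s
    exact CommRingCat.hom_ext (RingHom.ext fun x => hδ2 s x)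
  · intro s m h1 h2
    refine CommRingCat.hom_ext (desc_unique e φ w _ _ (fun x => ?_) (fun c => ?_))
    · rw [CommRingCat.hom_ofHom, hδ1]
      exact congr($(h1).hom x)
    · rw [CommRingCat.hom_ofHom, hδ2]
      exact congr($(h2).hom c)

/-- Dimension of the base change. -/
theorem finrank_bc {K : Type u} [Field K] [Algebra B K] (w : α → ν → B) [Algebra k K] [IsScalarTower k B K] :
    Module.finrank K (K ⊗[B] presAlg e B w) =
      Module.finrank K (presAlg e K (fun a i => algebraMap B K (w a i))) := by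
  let φ : B →ₐ[k] K := IsScalarTower.toAlgHom k B K
  have h := isPushout_bc e φ w
  letI : Algebra (presAlg e B w) (presAlg e K (fun a i => φ (w a i))) := (bcMap e φ w).toAlgebra
  haveI : IsScalarTower B K (presAlg e K (fun a i => φ (w a i))) := inferInstance
  haveI : IsScalarTower B (presAlg e B w) (presAlg e K (fun a i => φ (w a i))) :=
    IsScalarTower.of_algebraMap_eq (R := B) (S := presAlg e B w)
      (A := presAlg e K (fun a i => φ (w a i))) fun b => (congr($(h.w).hom b)).symm
  have h2 : Algebra.IsPushout B K (presAlg e B w) (presAlg e K (fun a i => φ (w a i))) :=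
    CommRingCat.isPushout_iff_isPushout.1 h.flip
  exact (Algebra.IsPushout.equiv B K (presAlg e B w)
    (presAlg e K (fun a i => φ (w a i)))).toLinearEquiv.finrank_eq

end BC

end K842.Pres
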