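import Groth.Agent.HilbZeta.K842.SplitField

/-!
# The product formula for Hilbert schemes of points supported in disjoint subsets
-/

set_option autoImplicit false
set_option backward.isDefEq.respectTransparency false
universe u

open CategoryTheory CategoryTheory.Limits AlgebraicGeometry

namespace K842.ProdFormula

open Groth.Agent.Picfga.HilbPull Groth.Agent.Picfga.HilbTriple Groth.Agent.Picfga.HilbRep K842.CoprodRank
  K842.Split K842.K0Basic K842.K0Fam K842.SplitField

variable {X S : Scheme.{u}} {f : X ⟶ S} {d : ℕ} {A B C : Set X}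

theorem exists_lift_iff {H : Over S} {Z : HilbD.Obj f d H} {P : Scheme.{u}} (j : P ⟶ H.left)
    [IsImmersion j] (hj : Set.range j = locus A Z) {K : CommRingCat.{u}} (hK : IsField K)
    (y : Spec K ⟶ H.left) : (∃ y', y' ≫ j = y) ↔ ∀ p, y p ∈ locus A Z := by
  constructor
  · rintro ⟨y', rfl⟩ p
    rw [← hj, Scheme.Hom.comp_apply]
    exact ⟨_, rfl⟩
  · intro h
    have := isReduced_of_isField hK
    apply Groth.Agent.Ega1.ReducedSub.exists_factor_of_range_subset
    rintro _ ⟨p, rfl⟩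
    rw [hj]
    exact h p

theorem sumObj_congr {T : Over S} {a b : ℕ} {x x' : HilbD.Obj f a T} {y y' : HilbD.Obj f b T}
    (hab : a + b = d) (hx : x = x') (hy : y = y')
    (h : Disjoint (Set.range x.1.subschemeι) (Set.range y.1.subschemeι))
    (h' : Disjoint (Set.range x'.1.subschemeι) (Set.range y'.1.subschemeι)) :
    sumObj x y hab h = sumObj x' y' hab h' := by
  subst hx hy; rfl

variable (H : ℕ → Over S) (Z : ∀ d, HilbD.Obj f d (H d))
  (PA PB : ℕ → Scheme.{u}) (jA : ∀ d, PA d ⟶ (H d).left) (jB : ∀ d, PB d ⟶ (H d).left)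

/-- The product of the two loci. -/
noncomputable abbrev TT (a b : ℕ) : Over S :=
  Over.mk (pullback.fst (jA a ≫ (H a).hom) (jB b ≫ (H b).hom) ≫ jA a ≫ (H a).hom)

/-- first projection. -/
noncomputable abbrev gA (a b : ℕ) : TT H PA PB jA jB a b ⟶ H a :=
  Over.homMk (pullback.fst (jA a ≫ (H a).hom) (jB b ≫ (H b).hom) ≫ jA a)
    (by rw [Category.assoc]; rfl)

/-- second projection. -/
noncomputable abbrev gB (a b : ℕ) : TT H PA PB jA jB a b ⟶ H b :=
  Over.homMk (pullback.snd (jA a ≫ (H a).hom) (jB b ≫ (H b).hom) ≫ jB b)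
    (by rw [Category.assoc, ← pullback.condition]; rfl)

variable {H Z PA PB jA jB}

theorem supp_gA (hjA : ∀ d, Set.range (jA d) = locus A (Z d)) (a b : ℕ) :
    Supp A (pullObj f (gA H PA PB jA jB a b) (Z a)) := by
  rw [supp_pull_iff]
  intro t
  rw [← hjA]
  exact ⟨(pullback.fst (jA a ≫ (H a).hom) (jB b ≫ (H b).hom)) t, by
    rw [← Scheme.Hom.comp_apply]; rfl⟩

theorem supp_gB (hjB : ∀ d, Set.range (jB d) = locus B (Z d)) (a b : ℕ) :
    Supp B (pullObj f (gB H PA PB jA jB a b) (Z b)) := by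
  rw [supp_pull_iff]
  intro t
  rw [← hjB]
  exact ⟨(pullback.snd (jA a ≫ (H a).hom) (jB b ≫ (H b).hom)) t, by
    rw [← Scheme.Hom.comp_apply]; rfl⟩

theorem exists_u (hZ : ∀ d, HilbD.IsUniversal f d (H d) (Z d))
    (hjA : ∀ d, Set.range (jA d) = locus A (Z d)) (hjB : ∀ d, Set.range (jB d) = locus B (Z d))
    (hAB : Disjoint A B) (a b d : ℕ) (hab : a + b = d) :
    ∃ u : TT H PA PB jA jB a b ⟶ H d, pullObj f u (Z d) =
      sumObj (pullObj f (gA H PA PB jA jB a b) (Z a)) (pullObj f (gB H PA PB jA jB a b) (Z b)) hab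
        (disjoint_range (supp_gA hjA a b) (supp_gB hjB a b) hAB) := by
  obtain ⟨u, hu, -⟩ := hZ d _ (sumObj (pullObj f (gA H PA PB jA jB a b) (Z a))
    (pullObj f (gB H PA PB jA jB a b) (Z b)) hab
        (disjoint_range (supp_gA hjA a b) (supp_gB hjB a b) hAB))
  exact ⟨u, Subtype.ext hu⟩

theorem eq_of_isUniversal (hZ : ∀ d, HilbD.IsUniversal f d (H d) (Z d)) {T : Over S} {d : ℕ}
    {g g' : T ⟶ H d} (h : pullObj f g (Z d) = pullObj f g' (Z d)) : g = g' :=
  hom_ext_of_isUniversal (hZ d) (congrArg Subtype.val h)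

theorem deg_eq {T : Over S} {a a' : ℕ} (x : HilbD.Obj f a T) (x' : HilbD.Obj f a' T) (t : T.left)
    (h : x.1 = x'.1) : a = a' := by
  rw [← x.2.2 t, ← x'.2.2 t, h]

/-- **The product formula.** -/
theorem cl_eq_sum [IsNoetherian S] (hZ : ∀ d, HilbD.IsUniversal f d (H d) (Z d))
    [∀ d, LocallyOfFiniteType (H d).hom] [∀ d, QuasiCompact (H d).hom]
    [∀ d, IsImmersion (jA d)] [∀ d, IsImmersion (jB d)] [∀ d, LocallyOfFiniteType (jA d)]
    [∀ d, LocallyOfFiniteType (jB d)] [∀ d, QuasiCompact (jA d)] [∀ d, QuasiCompact (jB d)]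
    (hjA : ∀ d, Set.range (jA d) = locus A (Z d)) (hjB : ∀ d, Set.range (jB d) = locus B (Z d))
    (hAB : Disjoint A B) (hC : A ∪ B = C) (d : ℕ) {PC : Scheme.{u}} (jC : PC ⟶ (H d).left)
    [IsImmersion jC] [LocallyOfFiniteType jC] [QuasiCompact jC] (hjC : Set.range jC = locus C (Z d)) :
    K0Var.cl (jC ≫ (H d).hom) = ∑ p ∈ Finset.antidiagonal d,
      K0Var.cl (jA p.1 ≫ (H p.1).hom) * K0Var.cl (jB p.2 ≫ (H p.2).hom) := by
  subst hC
  let ι := {p : ℕ × ℕ // p ∈ Finset.antidiagonal d}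
  have hι : ∀ i : ι, i.1.1 + i.1.2 = d := fun i => Finset.mem_antidiagonal.1 i.2
  choose u hu using fun i : ι => exists_u (d := d) hZ hjA hjB hAB i.1.1 i.1.2 (hι i)
  -- composing a field point with `u`
  have key : ∀ (T : Over S) (i : ι) (w : T ⟶ TT H PA PB jA jB i.1.1 i.1.2),
      ∃ h, pullObj f (w ≫ u i) (Z d) = sumObj (pullObj f (w ≫ gA H PA PB jA jB i.1.1 i.1.2) (Z i.1.1))
        (pullObj f (w ≫ gB H PA PB jA jB i.1.1 i.1.2) (Z i.1.2)) (hι i) h := by
    intro T i w
    refine ⟨?_, ?_⟩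
    · rw [pullObj_comp, pullObj_comp]
      exact disjoint_range ((supp_gA hjA _ _).pull w) ((supp_gB hjB _ _).pull w) hAB
    · rw [pullObj_comp, hu, pullObj_sumObj]
      exact sumObj_congr _ (pullObj_comp _ _ _ _).symm (pullObj_comp _ _ _ _).symm _ _
  have suppA : ∀ (T : Over S) (i : ι) (w : T ⟶ TT H PA PB jA jB i.1.1 i.1.2),
      Supp A (pullObj f (w ≫ gA H PA PB jA jB i.1.1 i.1.2) (Z i.1.1)) := by
    intro T i w
    rw [pullObj_comp]
    exact (supp_gA hjA _ _).pull w
  have suppB : ∀ (T : Over S) (i : ι) (w : T ⟶ TT H PA PB jA jB i.1.1 i.1.2),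
      Supp B (pullObj f (w ≫ gB H PA PB jA jB i.1.1 i.1.2) (Z i.1.2)) := by
    intro T i w
    rw [pullObj_comp]
    exact (supp_gB hjB _ _).pull w
  have : ∀ i : ι, LocallyOfFiniteType (u i).left := by
    intro i
    have : LocallyOfFiniteType ((u i).left ≫ (H d).hom) := by rw [Over.w]; dsimp only [Over.mk_hom]; infer_instance
    exact locallyOfFiniteType_of_comp (u i).left (H d).hom
  have : ∀ i : ι, QuasiCompact (u i).left := by
    intro i
    have h1 : QuasiCompact ((u i).left ≫ (H d).hom) := by rw [Over.w]; dsimp only [Over.mk_hom]; infer_instance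
    have h2 : IsNoetherian (H d).left := isNoetherian_of_ft (H d).hom
    have h3 : LocallyOfFiniteType ((u i).left ≫ (H d).hom) := inferInstance
    have h4 : IsNoetherian (TT H PA PB jA jB i.1.1 i.1.2).left :=
      isNoetherian_of_ft ((u i).left ≫ (H d).hom)
    infer_instance
  have main := sum_cl_eq_of_points (fun i : ι => (u i).left) jC (H d).hom (InjPts.of_mono jC) ?_ ?_
  · rw [← main, ← Finset.sum_coe_sort (Finset.antidiagonal d)]
    refine Finset.sum_congr rfl fun i _ => ?_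
    rw [← K0Var.cl_mul]
    apply cl_congr_hom
    exact Over.w (u i)
  · intro K hK i x
    rw [exists_lift_iff jC hjC hK]
    intro p
    let w : Over.mk (x ≫ (TT H PA PB jA jB i.1.1 i.1.2).hom) ⟶ TT H PA PB jA jB i.1.1 i.1.2 := Over.homMk x rfl
    have h1 : (x ≫ (u i).left) = (w ≫ u i).left := rfl
    rw [h1]
    obtain ⟨h, hh⟩ := key _ i w
    have h2 : Supp (A ∪ B) (pullObj f (w ≫ u i) (Z d)) := by
      rw [hh]
      exact supp_sumObj _ _ _ _ (suppA _ i w) (suppB _ i w)
    exact (supp_pull_iff _ _ _).1 h2 p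
  · intro K hK y
    -- uniqueness
    have uniq : ∀ (i i' : ι) (x : Spec K ⟶ (TT H PA PB jA jB i.1.1 i.1.2).left)
        (x' : Spec K ⟶ (TT H PA PB jA jB i'.1.1 i'.1.2).left),
        x ≫ (u i).left = x' ≫ (u i').left →
          (⟨i, x⟩ : Σ i : ι, (Spec K ⟶ (TT H PA PB jA jB i.1.1 i.1.2).left)) = ⟨i', x'⟩ := by
      intro i i' x x' h
      let t : Spec K ⟶ S := x ≫ (TT H PA PB jA jB i.1.1 i.1.2).hom
      have ht : t = x' ≫ (TT H PA PB jA jB i'.1.1 i'.1.2).hom := by
        change x ≫ (TT H PA PB jA jB i.1.1 i.1.2).hom = _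
        rw [← Over.w (u i), ← Over.w (u i'), ← Category.assoc, h, Category.assoc]
      let w : Over.mk t ⟶ TT H PA PB jA jB i.1.1 i.1.2 := Over.homMk x rfl
      let w' : Over.mk t ⟶ TT H PA PB jA jB i'.1.1 i'.1.2 := Over.homMk x' ht.symm
      have hw : w ≫ u i = w' ≫ u i' := by
        ext1; exact h
      obtain ⟨e1, h1⟩ := key _ i w
      obtain ⟨e2, h2⟩ := key _ i' w'
      rw [hw, h2] at h1
      obtain ⟨h3, h4⟩ := split_unique (suppA _ i' w') (suppB _ i' w') (suppA _ i w) (suppB _ i w) hAB h1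
      obtain ⟨pt⟩ := nonempty_of_isField hK
      have h5 : i'.1.1 = i.1.1 := deg_eq _ _ pt h3
      have h6 : i'.1.2 = i.1.2 := deg_eq _ _ pt h4
      obtain rfl : i' = i := Subtype.ext (Prod.ext h5 h6)
      have h7 := eq_of_isUniversal hZ (Subtype.ext h3)
      have h8 := eq_of_isUniversal hZ (Subtype.ext h4)
      congr 1
      apply pullback.hom_ext
      · have := congrArg CommaMorphism.left h7
        have h9 : (x' ≫ pullback.fst _ _) ≫ jA i'.1.1 = (x ≫ pullback.fst _ _) ≫ jA i'.1.1 := by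
          rw [Category.assoc, Category.assoc]; exact this
        exact ((cancel_mono _).1 h9).symm
      · have := congrArg CommaMorphism.left h8
        have h9 : (x' ≫ pullback.snd _ _) ≫ jB i'.1.2 = (x ≫ pullback.snd _ _) ≫ jB i'.1.2 := by
          rw [Category.assoc, Category.assoc]; exact this
        exact ((cancel_mono _).1 h9).symm
    -- existence
    let t : Spec K ⟶ S := y ≫ jC ≫ (H d).hom
    let yH : Over.mk t ⟶ H d := Over.homMk (y ≫ jC) (Category.assoc _ _ _)
    have hsupp : Supp (A ∪ B) (pullObj f yH (Z d)) := by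
      rw [supp_pull_iff]
      exact (exists_lift_iff jC hjC hK (y ≫ jC)).1 ⟨y, rfl⟩
    obtain ⟨a, b, hab, x, z, hd, hx, hz, hs⟩ := exists_split hK t _ hsupp hAB
    obtain ⟨gx, hgx, -⟩ := hZ a _ x
    obtain ⟨gz, hgz, -⟩ := hZ b _ z
    have hgx : pullObj f gx (Z a) = x := Subtype.ext hgx
    have hgz : pullObj f gz (Z b) = z := Subtype.ext hgz
    obtain ⟨px, hpx⟩ := (exists_lift_iff (jA a) (hjA a) hK gx.left).2 (by
      rw [← hgx, supp_pull_iff] at hx; exact hx)
    obtain ⟨pz, hpz⟩ := (exists_lift_iff (jB b) (hjB b) hK gz.left).2 (by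
      rw [← hgz, supp_pull_iff] at hz; exact hz)
    let i : ι := ⟨(a, b), Finset.mem_antidiagonal.2 hab⟩
    let wl : Spec K ⟶ pullback (jA a ≫ (H a).hom) (jB b ≫ (H b).hom) := pullback.lift px pz (by
      rw [← Category.assoc, hpx, ← Category.assoc, hpz]
      exact (Over.w gx).trans (Over.w gz).symm)
    have hwl1 : wl ≫ pullback.fst _ _ = px := pullback.lift_fst _ _ _
    have hwl2 : wl ≫ pullback.snd _ _ = pz := pullback.lift_snd _ _ _
    let w : Over.mk t ⟶ TT H PA PB jA jB a b := Over.homMk wl (by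
      change wl ≫ pullback.fst _ _ ≫ jA a ≫ (H a).hom = t
      rw [← Category.assoc, hwl1, ← Category.assoc, hpx]
      exact Over.w gx)
    have hw1 : w ≫ gA H PA PB jA jB a b = gx := by
      ext1
      change wl ≫ pullback.fst _ _ ≫ jA a = gx.left
      rw [← Category.assoc, hwl1, hpx]
    have hw2 : w ≫ gB H PA PB jA jB a b = gz := by
      ext1
      change wl ≫ pullback.snd _ _ ≫ jB b = gz.left
      rw [← Category.assoc, hwl2, hpz]
    have hwu : w ≫ u i = yH := by
      apply eq_of_isUniversal hZ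
      obtain ⟨e, he⟩ := key _ i w
      rw [he, ← hs]
      apply sumObj_congr
      · change pullObj f (w ≫ gA H PA PB jA jB a b) (Z a) = _
        rw [hw1, hgx]
      · change pullObj f (w ≫ gB H PA PB jA jB a b) (Z b) = _
        rw [hw2, hgz]
    have hwu' : wl ≫ (u i).left = y ≫ jC := congrArg CommaMorphism.left hwu
    refine ⟨⟨i, wl⟩, hwu', ?_⟩
    rintro ⟨i', x'⟩ hx'
    exact uniq _ _ _ _ (hx'.trans hwu'.symm)

end K842.ProdFormula
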