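import Groth.Agent.HilbZeta.K842.AffField
import Groth.Agent.HilbZeta.K842.Pres
import Groth.Agent.HilbZeta.K842.ProdFormula

/-!
# Classes of punctual Hilbert schemes from explicit families of ideals
-/

set_option autoImplicit false
set_option backward.isDefEq.respectTransparency false
universe u v w

open CategoryTheory CategoryTheory.Limits AlgebraicGeometry TensorProduct

namespace K842.AffPar

open Groth.Agent.Picfga.HilbPull Groth.Agent.Picfga.HilbTriple Groth.Agent.Picfga.HilbRep K842.CoprodRank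
  K842.Split K842.K0Basic K842.K0Fam K842.SplitField K842.AffObj K842.AffField K842.Pres K842.ProdFormula

variable {k : Type u} [Field k] {R S : Type u} [CommRing R] [Algebra k R] [CommRing S] [Algebra k S]
  {ν : Type v} [Fintype ν] (e : Module.Basis ν k S) {α : Type w} {d : ℕ}

/-- the structure map of the presentation. -/
noncomputable def presRho (ρ₀ : R →ₐ[k] S) {B : Type u} [CommRing B] [Algebra k B] (w : α → ν → B) :
    R →ₐ[k] presAlg e B w :=
  ((Ideal.Quotient.mkₐ k (presIdeal e B w)).comp Algebra.TensorProduct.includeRight).comp ρ₀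

theorem presRho_apply (ρ₀ : R →ₐ[k] S) {B : Type u} [CommRing B] [Algebra k B] (w : α → ν → B) (r : R) :
    presRho e ρ₀ w r = Ideal.Quotient.mk _ ((1 : B) ⊗ₜ[k] ρ₀ r) := rfl

theorem span_presRho (ρ₀ : R →ₐ[k] S) (hρ₀ : Function.Surjective ρ₀) {B : Type u} [CommRing B]
    [Algebra k B] (w : α → ν → B) : Submodule.span B (Set.range (presRho e ρ₀ w)) = ⊤ := by
  rw [eq_top_iff]
  rintro x -
  obtain ⟨x, rfl⟩ := Ideal.Quotient.mk_surjective x
  induction x using TensorProduct.induction_on with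
  | zero => rw [map_zero]; exact Submodule.zero_mem _
  | add x y hx hy => rw [map_add]; exact Submodule.add_mem _ hx hy
  | tmul b s =>
    obtain ⟨r, rfl⟩ := hρ₀ s
    have : (Ideal.Quotient.mk (presIdeal e B w)) (b ⊗ₜ ρ₀ r) = b • presRho e ρ₀ w r := by
      rw [presRho_apply]
      have h1 : (b ⊗ₜ[k] ρ₀ r : B ⊗[k] S) = b • ((1 : B) ⊗ₜ[k] ρ₀ r) := by
        rw [TensorProduct.smul_tmul', smul_eq_mul, mul_one]
      rw [h1]
      rfl
    rw [this]
    exact Submodule.smul_mem _ _ (Submodule.subset_span ⟨r, rfl⟩)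

theorem deg_pres {B : Type u} [CommRing B] [Algebra k B] [IsNoetherianRing B] [IsReduced B]
    (w : α → ν → B) (h : ∀ (K : Type u) [Field K] [Algebra k K] (φ : B →ₐ[k] K),
      Module.finrank K (presAlg e K (fun a i => φ (w a i))) = d) :
    Mor2.IsFinLocFreeOfDeg d (Spec.map (CommRingCat.ofHom (algebraMap B (presAlg e B w)))) := by
  have hS : Module.Finite k S := Module.Finite.of_basis e
  have hfin : Module.Finite B (presAlg e B w) := inferInstance
  have hdim : ∀ (K : Type u) [Field K] [Algebra B K], Module.finrank K (K ⊗[B] presAlg e B w) = d := by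
    intro K _ _
    letI : Algebra k K := ((algebraMap B K).comp (algebraMap k B)).toAlgebra
    haveI : IsScalarTower k B K := IsScalarTower.of_algebraMap_eq fun _ => rfl
    rw [finrank_bc]
    exact h K (IsScalarTower.toAlgHom k B K)
  have hproj : Module.Projective B (presAlg e B w) := RedProj.projective_of_reduced d hdim
  have hfp : Algebra.FinitePresentation B (presAlg e B w) :=
    (Algebra.FinitePresentation.of_finiteType).1 inferInstance
  have hF : IsFinite (Spec.map (CommRingCat.ofHom (algebraMap B (presAlg e B w)))) := by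
    rw [IsFinite.SpecMap_iff]; exact RingHom.finite_algebraMap.mpr hfin
  have hFl : Flat (Spec.map (CommRingCat.ofHom (algebraMap B (presAlg e B w)))) := by
    rw [Flat.SpecMap_iff]; exact RingHom.flat_algebraMap_iff.mpr inferInstance
  have hFP : LocallyOfFinitePresentation (Spec.map (CommRingCat.ofHom (algebraMap B (presAlg e B w)))) := by
    rw [LocallyOfFinitePresentation.SpecMap_iff]
    exact RingHom.finitePresentation_algebraMap.mpr hfp
  refine ⟨⟨hF, hFl, hFP⟩, fun p => ?_⟩
  refine (Scheme.Hom.finrank_SpecMap_algebraMap B (presAlg e B w) p).trans ?_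
  rw [← hdim p.asIdeal.ResidueField]
  exact (Ideal.finrank_fiber_eq_rankAtStalk p.asIdeal).symm

/-- the family of a presentation over a reduced ring. -/
noncomputable def presFam (ρ₀ : R →ₐ[k] S) (hρ₀ : Function.Surjective ρ₀) {B : Type u} [CommRing B]
    [Algebra k B] [IsNoetherianRing B] [IsReduced B]
    (w : α → ν → B) (h : ∀ (K : Type u) [Field K] [Algebra k K] (φ : B →ₐ[k] K),
      Module.finrank K (presAlg e K (fun a i => φ (w a i))) = d) : Fam k R d B where
  A := presAlg e B w
  ρ := presRho e ρ₀ w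
  span := span_presRho e ρ₀ hρ₀ w
  deg := deg_pres e w h

section iso

variable {X : Scheme.{u}} (f : X ⟶ Spec (CommRingCat.of k))
  (j : Spec (CommRingCat.of R) ⟶ X)
  (hj : j ≫ f = Spec.map (CommRingCat.ofHom (algebraMap k R)))

/-- isomorphic families define the same object. -/
theorem obj_eq_of_equiv [IsSeparated f] [IsOpenImmersion j] {B : Type u} [CommRing B] [Algebra k B]
    (F G : Fam k R d B) (ψ : F.A ≃ₐ[B] G.A) (hρ : ∀ r, ψ (F.ρ r) = G.ρ r) :
    F.obj f j hj = G.obj f j hj := by
  obtain ⟨e', he1, he2⟩ := G.exists_iso_obj f j hj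
  have hiso : IsIso (Spec.map (CommRingCat.ofHom ψ.toRingEquiv.toRingHom)) := by
    have : IsIso (CommRingCat.ofHom ψ.toRingEquiv.toRingHom) :=
      inferInstanceAs (IsIso ψ.toRingEquiv.toCommRingCatIso.hom)
    infer_instance
  have := (F.pullObj_eq_iff f j hj (𝟙 _) (G.obj f j hj)).2
    ⟨e'.inv ≫ Spec.map (CommRingCat.ofHom ψ.toRingEquiv.toRingHom), IsPullback.of_horiz_isIso ⟨by
      rw [Over.id_left, Category.comp_id, Category.assoc, Iso.inv_comp_eq, he1, ← Spec.map_comp,
        ← CommRingCat.ofHom_comp]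
      congr 2
      exact ψ.toAlgHom.comp_algebraMap⟩, by
      rw [Category.assoc, Iso.inv_comp_eq, he2, ← Category.assoc, ← Spec.map_comp,
        ← CommRingCat.ofHom_comp]
      congr 3
      ext r
      exact hρ r⟩
  rwa [pullObj_id] at this

/-- The kernel ideal of a family over a field whose structure map factors through `S`. -/
theorem exists_ideal (ρ₀ : R →ₐ[k] S) (hρ₀ : Function.Surjective ρ₀) {B : Type u} [CommRing B]
    [Algebra k B] (F : Fam k R d B) (hF : ∀ r, ρ₀ r = 0 → F.ρ r = 0) :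
    ∃ τ : B ⊗[k] S →ₐ[B] F.A, Function.Surjective τ ∧ ∀ b r, τ (b ⊗ₜ ρ₀ r) = b • F.ρ r := by
  have hk : RingHom.ker ρ₀.toRingHom ≤ RingHom.ker F.ρ.toRingHom := fun r hr => hF r hr
  let ρ' : S →ₐ[k] F.A := AlgHom.liftOfSurjective ρ₀ hρ₀ F.ρ hk
  have hρ' : ∀ r, ρ' (ρ₀ r) = F.ρ r := fun r =>
    AlgHom.liftOfSurjective_apply ρ₀ hρ₀ F.ρ hk r
  let τ : B ⊗[k] S →ₐ[B] F.A := Algebra.TensorProduct.lift (Algebra.ofId B F.A) ρ' (fun _ _ => Commute.all _ _)
  have hτ : ∀ b r, τ (b ⊗ₜ ρ₀ r) = b • F.ρ r := by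
    intro b r
    rw [Algebra.TensorProduct.lift_tmul, hρ', Algebra.smul_def]
    rfl
  refine ⟨τ, ?_, hτ⟩
  intro a
  obtain ⟨z, rfl⟩ := F.tens_surjective a
  induction z using TensorProduct.induction_on with
  | zero => exact ⟨0, by rw [map_zero, map_zero]⟩
  | tmul b r => exact ⟨b ⊗ₜ ρ₀ r, by rw [hτ, F.tens_tmul]⟩
  | add x y hx hy =>
    obtain ⟨x', hx'⟩ := hx
    obtain ⟨y', hy'⟩ := hy
    exact ⟨x' + y', by rw [map_add, map_add, hx', hy']⟩

end iso

end K842.AffPar
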