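import Mathlib.RingTheory.PowerSeries.Order
import Mathlib.RingTheory.PowerSeries.Inverse
import Mathlib.RingTheory.PowerSeries.Basic
import Mathlib.Algebra.Algebra.Subalgebra.Basic
import Mathlib.Algebra.Algebra.Pi
import Mathlib.RingTheory.Finiteness.Defs
import Mathlib.LinearAlgebra.Quotient.Defs
import Mathlib.RingTheory.Ideal.Quotient.Defs
import Mathlib.RingTheory.Ideal.Maps
import Mathlib.LinearAlgebra.FiniteDimensional.Basic
import Mathlib.LinearAlgebra.Dimension.RankNullity
import Mathlib.Tactic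

set_option autoImplicit false
universe u v

namespace K842.Branch

section PS

variable {k : Type u} [Field k]

theorem X_pow_dvd_iff_le_order {n : ℕ} {g : PowerSeries k} :
    PowerSeries.X ^ n ∣ g ↔ (n : ℕ∞) ≤ g.order := by
  constructor
  · rintro ⟨w, rfl⟩
    rw [PowerSeries.order_mul, PowerSeries.order_X_pow]
    exact le_self_add
  · intro h
    rw [PowerSeries.X_pow_dvd_iff]
    intro m hm
    apply PowerSeries.coeff_of_lt_order
    exact lt_of_lt_of_le (by exact_mod_cast hm) h

theorem exists_mul_eq_X_pow {f : PowerSeries k} {l : ℕ} (hf : f.order = (l : ℕ∞)) :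
    ∃ u : PowerSeries k, f * u = PowerSeries.X ^ l := by
  have hf0 : f ≠ 0 := by
    rintro rfl
    simp at hf
  have h1 : PowerSeries.X ^ l * f.divXPowOrder = f := by
    have := PowerSeries.X_pow_order_mul_divXPowOrder (f := f)
    rwa [hf, ENat.toNat_natCast] at this
  have h2 : IsUnit f.divXPowOrder := by
    rw [PowerSeries.isUnit_iff_constantCoeff, isUnit_iff_ne_zero, Ne,
      PowerSeries.constantCoeff_divXPowOrder_eq_zero_iff]
    exact hf0
  obtain ⟨v, hv⟩ := h2
  refine ⟨(↑v⁻¹ : PowerSeries k), ?_⟩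
  rw [← h1, ← hv, mul_assoc, Units.mul_inv, mul_one]

/-- A power series of order exactly `l` divides every power series of order at least `l + c`, with a
quotient of order at least `c`. -/
theorem exists_mul_of_order {f g : PowerSeries k} {l c : ℕ} (hf : f.order = (l : ℕ∞))
    (hg : ((l + c : ℕ) : ℕ∞) ≤ g.order) :
    ∃ h : PowerSeries k, g = h * f ∧ (c : ℕ∞) ≤ h.order := by
  obtain ⟨u, hu⟩ := exists_mul_eq_X_pow hf
  obtain ⟨w, hw⟩ := X_pow_dvd_iff_le_order.2 hg
  refine ⟨u * PowerSeries.X ^ c * w, ?_, ?_⟩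
  · rw [hw, pow_add, ← hu]; ring
  · rw [← X_pow_dvd_iff_le_order]
    exact ⟨u * w, by ring⟩

/-- An ideal of `k[[x]]` spanned by a set is `(x^a)` iff all the elements have order at least `a` with
equality for one of them. -/
theorem span_eq_X_pow_iff {S : Set (PowerSeries k)} {a : ℕ} :
    Ideal.span S = Ideal.span {PowerSeries.X ^ a} ↔
      (∀ f ∈ S, (a : ℕ∞) ≤ f.order) ∧ ∃ f ∈ S, f.order = (a : ℕ∞) := by
  constructor
  · intro h
    have h1 : ∀ f ∈ S, (a : ℕ∞) ≤ f.order := by
      intro f hf
      rw [← X_pow_dvd_iff_le_order, ← Ideal.mem_span_singleton, ← h]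
      exact Ideal.subset_span hf
    refine ⟨h1, ?_⟩
    by_contra hcon
    push Not at hcon
    have h2 : Ideal.span S ≤ Ideal.span {PowerSeries.X ^ (a + 1)} := by
      rw [Ideal.span_le]
      intro f hf
      rw [SetLike.mem_coe, Ideal.mem_span_singleton, X_pow_dvd_iff_le_order]
      have h3 := lt_of_le_of_ne (h1 f hf) (hcon f hf).symm
      have := Order.add_one_le_of_lt h3
      exact_mod_cast this
    rw [h, Ideal.span_singleton_le_span_singleton, X_pow_dvd_iff_le_order,
      PowerSeries.order_X_pow] at h2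
    have h4 : a + 1 ≤ a := by exact_mod_cast h2
    omega
  · rintro ⟨h1, f, hf, hfa⟩
    apply le_antisymm
    · rw [Ideal.span_le]
      intro g hg
      rw [SetLike.mem_coe, Ideal.mem_span_singleton, X_pow_dvd_iff_le_order]
      exact h1 g hg
    · rw [Ideal.span_singleton_le_iff_mem]
      obtain ⟨u, hu⟩ := exists_mul_eq_X_pow hfa
      rw [← hu]
      exact Ideal.mul_mem_right _ _ (Ideal.subset_span hf)

variable {s : ℕ}

/-- The condition on the branch length, elementwise. -/
theorem map_eval_eq_iff (R : Subalgebra k (Fin s → PowerSeries k)) (I : Ideal ↥R) (i : Fin s) (a : ℕ) :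
    Ideal.map ((Pi.evalAlgHom k (fun _ : Fin s => PowerSeries k) i).comp R.val) I =
        Ideal.span {PowerSeries.X ^ a} ↔
      (∀ f ∈ I, (a : ℕ∞) ≤ ((f : Fin s → PowerSeries k) i).order) ∧
        ∃ f ∈ I, ((f : Fin s → PowerSeries k) i).order = (a : ℕ∞) := by
  unfold Ideal.map
  rw [span_eq_X_pow_iff]
  constructor
  · rintro ⟨h1, h2⟩
    refine ⟨fun f hf => h1 _ ⟨f, hf, rfl⟩, ?_⟩
    obtain ⟨_, ⟨f, hf, rfl⟩, h⟩ := h2
    exact ⟨f, hf, h⟩
  · rintro ⟨h1, f, hf, h2⟩
    refine ⟨?_, _, ⟨f, hf, rfl⟩, h2⟩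
    rintro _ ⟨g, hg, rfl⟩
    exact h1 g hg

theorem pi_eq_sum_single (g : Fin s → PowerSeries k) : g = ∑ i, Pi.single i (g i) := by
  classical
  rw [Finset.univ_sum_single]

/-- The main divisibility statement. -/
theorem mem_of_order (R : Subalgebra k (Fin s → PowerSeries k))
    (c : Fin s → ℕ)
    (hc : ∀ f : Fin s → PowerSeries k,
      (∀ g : Fin s → PowerSeries k, g * f ∈ R) ↔ ∀ i, ((c i : ℕ) : ℕ∞) ≤ (f i).order)
    (J : Ideal ↥R)
    (l : Fin s → ℕ) (hl : ∀ i : Fin s, ∃ f ∈ J, ((f : Fin s → PowerSeries k) i).order = ((l i : ℕ) : ℕ∞))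
    (g : Fin s → PowerSeries k) (hg : ∀ i : Fin s, ((l i + c i : ℕ) : ℕ∞) ≤ (g i).order) :
    ∃ hgR : g ∈ R, (⟨g, hgR⟩ : ↥R) ∈ J := by
  classical
  choose f hfJ hfl using hl
  have hex : ∀ i, ∃ h : PowerSeries k, g i = h * (f i : Fin s → PowerSeries k) i ∧
      (c i : ℕ∞) ≤ h.order := fun i => exists_mul_of_order (hfl i) (hg i)
  choose h hgh hho using hex
  have hR : ∀ i, (Pi.single i (h i) : Fin s → PowerSeries k) ∈ R := by
    intro i
    have : ∀ j, ((c j : ℕ) : ℕ∞) ≤ ((Pi.single i (h i) : Fin s → PowerSeries k) j).order := by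
      intro j
      by_cases hij : j = i
      · subst hij
        simpa using hho j
      · rw [Pi.single_eq_of_ne hij]
        simp
    have h2 := (hc _).2 this 1
    rwa [one_mul] at h2
  have hsum : g = ((∑ i, (⟨Pi.single i (h i), hR i⟩ : ↥R) * f i : ↥R) : Fin s → PowerSeries k) := by
    rw [AddSubmonoidClass.coe_finsetSum]
    conv_lhs => rw [pi_eq_sum_single g]
    apply Finset.sum_congr rfl
    intro i _
    rw [MulMemClass.coe_mul]
    ext1 j
    by_cases hij : j = i
    · subst hij
      simp [hgh j]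
    · simp [Pi.single_eq_of_ne hij]
  have hJ : (∑ i, (⟨Pi.single i (h i), hR i⟩ : ↥R) * f i : ↥R) ∈ J :=
    Ideal.sum_mem _ fun i _ => Ideal.mul_mem_left _ _ (hfJ i)
  refine ⟨by rw [hsum]; exact Subtype.property _, ?_⟩
  convert hJ

end PS

section Dim

variable {k : Type u} [Field k] {V W : Type v} [AddCommGroup V] [Module k V] [AddCommGroup W] [Module k W]

theorem mapQ_injective (φ : W →ₗ[k] V) (hφ : Function.Injective φ) (P : Submodule k W) :
    Function.Injective (Submodule.mapQ P (P.map φ) φ (Submodule.le_comap_map φ P)) := by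
  rw [← LinearMap.ker_eq_bot, Submodule.ker_mapQ, Submodule.comap_map_eq_of_injective hφ]
  exact Submodule.mkQ_map_self P

theorem range_mapQ (φ : W →ₗ[k] V) (P : Submodule k W) :
    LinearMap.range (Submodule.mapQ P (P.map φ) φ (Submodule.le_comap_map φ P)) =
      (LinearMap.range φ).map (P.map φ).mkQ := by
  rw [Submodule.range_mapQ]

theorem finite_quot_map_iff (φ : W →ₗ[k] V) (hφ : Function.Injective φ) (P : Submodule k W) :
    Module.Finite k (V ⧸ P.map φ) ↔ Module.Finite k (V ⧸ LinearMap.range φ) ∧ Module.Finite k (W ⧸ P) := by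
  have hle : P.map φ ≤ LinearMap.range φ := LinearMap.map_le_range
  constructor
  · intro h
    refine ⟨?_, ?_⟩
    · exact Module.Finite.of_surjective (Submodule.factor hle) (Submodule.factor_surjective hle)
    · exact Module.Finite.of_injective _ (mapQ_injective φ hφ P)
  · rintro ⟨h1, h2⟩
    have e := Submodule.quotientQuotientEquivQuotient (P.map φ) (LinearMap.range φ) hle
    have h3 : Module.Finite k ((V ⧸ P.map φ) ⧸ (LinearMap.range φ).map (P.map φ).mkQ) :=
      Module.Finite.equiv e.symm
    have h4 : Module.Finite k ((LinearMap.range φ).map (P.map φ).mkQ) := by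
      rw [← range_mapQ]
      infer_instance
    exact Module.Finite.of_submodule_quotient ((LinearMap.range φ).map (P.map φ).mkQ)

theorem finrank_quot_map (φ : W →ₗ[k] V) (hφ : Function.Injective φ) (P : Submodule k W)
    [Module.Finite k (V ⧸ P.map φ)] :
    Module.finrank k (V ⧸ P.map φ) = Module.finrank k (V ⧸ LinearMap.range φ) + Module.finrank k (W ⧸ P) := by
  have hle : P.map φ ≤ LinearMap.range φ := LinearMap.map_le_range
  have e := Submodule.quotientQuotientEquivQuotient (P.map φ) (LinearMap.range φ) hle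
  have h1 := Submodule.finrank_quotient_add_finrank ((LinearMap.range φ).map (P.map φ).mkQ)
  rw [e.finrank_eq] at h1
  rw [← h1, ← range_mapQ]
  congr 1
  exact LinearMap.finrank_range_of_inj (mapQ_injective φ hφ P)

theorem finrank_quot_le {P Q : Submodule k V} (h : P ≤ Q) [Module.Finite k (V ⧸ P)] :
    Module.finrank k (V ⧸ Q) ≤ Module.finrank k (V ⧸ P) :=
  LinearMap.finrank_le_finrank_of_surjective (f := Submodule.factor h) (Submodule.factor_surjective h)

theorem finrank_quot_lt {P Q : Submodule k V} (h : P ≤ Q) (hne : P ≠ Q) [Module.Finite k (V ⧸ P)] :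
    Module.finrank k (V ⧸ Q) < Module.finrank k (V ⧸ P) := by
  have h1 := (Submodule.factor h).finrank_range_add_finrank_ker
  rw [LinearMap.range_eq_top.2 (Submodule.factor_surjective h), finrank_top] at h1
  have h2 : LinearMap.ker (Submodule.factor h) ≠ ⊥ := by
    intro hk
    apply hne
    apply le_antisymm h
    intro x hx
    have h3 : (Submodule.factor h) (P.mkQ x) = 0 := by
      simpa using hx
    have h4 : P.mkQ x ∈ LinearMap.ker (Submodule.factor h) := h3
    rw [hk, Submodule.mem_bot] at h4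
    simpa using h4
  have h3 : 0 < Module.finrank k (LinearMap.ker (Submodule.factor h)) := by
    rw [Module.finrank_pos_iff]
    exact (Submodule.nontrivial_iff_ne_bot).2 h2
  omega

end Dim

section Fil

variable {k : Type u} [Field k] {s : ℕ}

/-- The coefficients of low order. -/
noncomputable def lowCoeff (b : Fin s → ℕ) : (Fin s → PowerSeries k) →ₗ[k] ((i : Fin s) → (Fin (b i) → k)) :=
  LinearMap.pi fun i => LinearMap.pi fun m =>
    (PowerSeries.coeff (m : ℕ)).comp (LinearMap.proj i)

/-- `F^b`. -/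
noncomputable def Fil (b : Fin s → ℕ) : Submodule k (Fin s → PowerSeries k) :=
  LinearMap.ker (lowCoeff b)

theorem mem_Fil {b : Fin s → ℕ} {f : Fin s → PowerSeries k} :
    f ∈ Fil b ↔ ∀ i, (b i : ℕ∞) ≤ (f i).order := by
  constructor
  · intro h i
    rw [Fil, LinearMap.mem_ker] at h
    apply PowerSeries.nat_le_order
    intro m hm
    have := congrFun (congrFun h i) ⟨m, hm⟩
    simpa [lowCoeff] using this
  · intro h
    rw [Fil, LinearMap.mem_ker]
    ext i m
    simp only [lowCoeff, LinearMap.pi_apply, LinearMap.comp_apply, LinearMap.proj_apply, Pi.zero_apply]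
    apply PowerSeries.coeff_of_lt_order
    exact lt_of_lt_of_le (by exact_mod_cast m.2) (h i)

theorem lowCoeff_surjective (b : Fin s → ℕ) : Function.Surjective (lowCoeff (k := k) b) := by
  intro g
  refine ⟨fun i => PowerSeries.mk fun n => if h : n < b i then g i ⟨n, h⟩ else 0, ?_⟩
  ext i m
  simp [lowCoeff]

theorem finite_finrank_quot_ker {V W : Type u} [AddCommGroup V] [Module k V] [AddCommGroup W] [Module k W]
    [Module.Finite k W] (f : V →ₗ[k] W) (hf : Function.Surjective f) :
    Module.Finite k (V ⧸ LinearMap.ker f) ∧ Module.finrank k (V ⧸ LinearMap.ker f) = Module.finrank k W :=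
  ⟨Module.Finite.equiv (f.quotKerEquivOfSurjective hf).symm, (f.quotKerEquivOfSurjective hf).finrank_eq⟩

instance finite_quotFil (b : Fin s → ℕ) : Module.Finite k ((Fin s → PowerSeries k) ⧸ Fil (k := k) b) :=
  (finite_finrank_quot_ker (k := k) (V := Fin s → PowerSeries k) (W := (i : Fin s) → (Fin (b i) → k))
    (lowCoeff b) (lowCoeff_surjective b)).1

theorem finrank_quotFil (b : Fin s → ℕ) :
    Module.finrank k ((Fin s → PowerSeries k) ⧸ Fil (k := k) b) = ∑ i, b i := by
  refine (finite_finrank_quot_ker (k := k) (V := Fin s → PowerSeries k) (W := (i : Fin s) → (Fin (b i) → k))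
    (lowCoeff b) (lowCoeff_surjective b)).2.trans ?_
  rw [Module.finrank_pi_fintype]
  simp

/-- An ideal of `R` seen in the product. -/
noncomputable def toV (R : Subalgebra k (Fin s → PowerSeries k)) (I : Ideal ↥R) :
    Submodule k (Fin s → PowerSeries k) :=
  (I.restrictScalars k).map R.val.toLinearMap

theorem mem_toV {R : Subalgebra k (Fin s → PowerSeries k)} {I : Ideal ↥R} {f : Fin s → PowerSeries k} :
    f ∈ toV R I ↔ ∃ g ∈ I, (g : Fin s → PowerSeries k) = f := by
  simp [toV]

theorem toV_coe {R : Subalgebra k (Fin s → PowerSeries k)} {I : Ideal ↥R} :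
    (toV R I : Set (Fin s → PowerSeries k)) = Subtype.val '' (I : Set ↥R) := by
  ext f
  rw [SetLike.mem_coe, mem_toV]
  rfl

theorem range_val (R : Subalgebra k (Fin s → PowerSeries k)) :
    LinearMap.range R.val.toLinearMap = Subalgebra.toSubmodule R := by
  ext x
  simp

theorem finite_toV_iff (R : Subalgebra k (Fin s → PowerSeries k))
    (hfin : Module.Finite k ((Fin s → PowerSeries k) ⧸ Subalgebra.toSubmodule R)) (I : Ideal ↥R) :
    Module.Finite k ((Fin s → PowerSeries k) ⧸ toV R I) ↔ Module.Finite k (↥R ⧸ I) := by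
  have h := finite_quot_map_iff R.val.toLinearMap Subtype.val_injective (I.restrictScalars k)
  rw [range_val] at h
  unfold toV
  rw [h]
  constructor
  · rintro ⟨_, h2⟩
    exact Module.Finite.equiv (Submodule.Quotient.restrictScalarsEquiv k I)
  · intro h2
    exact ⟨hfin, Module.Finite.equiv (Submodule.Quotient.restrictScalarsEquiv k I).symm⟩

theorem finrank_toV (R : Subalgebra k (Fin s → PowerSeries k))
    (hfin : Module.Finite k ((Fin s → PowerSeries k) ⧸ Subalgebra.toSubmodule R)) (I : Ideal ↥R)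
    (hI : Module.Finite k (↥R ⧸ I)) :
    Module.finrank k ((Fin s → PowerSeries k) ⧸ toV R I) =
      Module.finrank k (↥R ⧸ I) + Module.finrank k ((Fin s → PowerSeries k) ⧸ Subalgebra.toSubmodule R) := by
  have h1 := (finite_toV_iff R hfin I).2 hI
  unfold toV at h1 ⊢
  rw [finrank_quot_map R.val.toLinearMap Subtype.val_injective (I.restrictScalars k), range_val, add_comm,
    (Submodule.Quotient.restrictScalarsEquiv k I).finrank_eq]

end Fil

end K842.Branch
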