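import Mathlib.RingTheory.PowerSeries.Inverse
import Mathlib.RingTheory.PowerSeries.Trunc
import Mathlib.RingTheory.PowerSeries.Basic

/-!
# Rational power series over a commutative ring
-/

set_option autoImplicit false
universe u

namespace K842.RatSer

variable {R : Type u} [CommRing R]

/-- Rational power series. -/
def IsRat (F : PowerSeries R) : Prop :=
  ∃ P Q : Polynomial R, Q.coeff 0 = 1 ∧ F * (Q : PowerSeries R) = (P : PowerSeries R)

theorem IsRat.mul {F G : PowerSeries R} (hF : IsRat F) (hG : IsRat G) : IsRat (F * G) := by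
  obtain ⟨P, Q, hQ, h⟩ := hF
  obtain ⟨P', Q', hQ', h'⟩ := hG
  refine ⟨P * P', Q * Q', by rw [Polynomial.mul_coeff_zero, hQ, hQ', mul_one], ?_⟩
  rw [Polynomial.coe_mul, Polynomial.coe_mul, ← h, ← h']
  ring

theorem isRat_one : IsRat (1 : PowerSeries R) :=
  ⟨1, 1, Polynomial.coeff_one_zero, by rw [Polynomial.coe_one, mul_one]⟩

theorem IsRat.prod {ι : Type*} (s : Finset ι) {F : ι → PowerSeries R} (h : ∀ i ∈ s, IsRat (F i)) :
    IsRat (∏ i ∈ s, F i) := by
  classical
  induction s using Finset.induction_on with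
  | empty => rw [Finset.prod_empty]; exact isRat_one
  | @insert a s ha ih =>
    rw [Finset.prod_insert ha]
    exact (h a (Finset.mem_insert_self _ _)).mul (ih fun i hi => h i (Finset.mem_insert_of_mem hi))

/-- Division of rational series by rational series with constant term one. -/
theorem IsRat.of_mul {F G : PowerSeries R} (hFG : IsRat (F * G)) (hG : IsRat G)
    (hG1 : PowerSeries.constantCoeff G = 1) : IsRat F := by
  obtain ⟨P, Q, hQ, h⟩ := hFG
  obtain ⟨P', Q', hQ', h'⟩ := hG
  refine ⟨P * Q', Q * P', ?_, ?_⟩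
  · have h1 := congrArg PowerSeries.constantCoeff h'
    rw [map_mul, hG1, one_mul, ← PowerSeries.coeff_zero_eq_constantCoeff_apply,
      ← PowerSeries.coeff_zero_eq_constantCoeff_apply, Polynomial.coeff_coe, Polynomial.coeff_coe, hQ'] at h1
    rw [Polynomial.mul_coeff_zero, hQ, ← h1, mul_one]
  · rw [Polynomial.coe_mul, Polynomial.coe_mul, ← h, ← h']
    ring

/-- Series with eventually geometric coefficients are rational. -/
theorem isRat_of_geom (F : PowerSeries R) (S L : R) (g d₀ : ℕ) (hg : g ≤ d₀)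
    (h : ∀ d, d₀ ≤ d → PowerSeries.coeff d F = S * L ^ (d - g)) : IsRat F := by
  let Q : Polynomial R := 1 - Polynomial.C L * Polynomial.X
  have hQ : (Q : PowerSeries R) = 1 - PowerSeries.C L * PowerSeries.X := by
    simp [Q]
  refine ⟨PowerSeries.trunc (d₀ + 1) (F * Q), Q, by simp [Q], ?_⟩
  ext d
  rw [Polynomial.coeff_coe, PowerSeries.coeff_trunc]
  split_ifs with hd
  · rfl
  · obtain ⟨e, rfl⟩ : ∃ e, d = e + 1 := ⟨d - 1, by omega⟩
    rw [hQ, mul_sub, mul_one, map_sub, ← mul_assoc, PowerSeries.coeff_succ_mul_X, mul_comm F,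
      PowerSeries.coeff_C_mul, h (e + 1) (by omega), h e (by omega)]
    have : e + 1 - g = (e - g) + 1 := by omega
    rw [this, pow_succ]
    ring

end K842.RatSer
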