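import Groth.Agent.HilbZeta.K842.Strata
import Groth.Agent.HilbZeta.K842.RatSer

/-!
# The zeta function of an affine chart does not depend on the ambient scheme; degree zero
-/

set_option autoImplicit false
set_option backward.isDefEq.respectTransparency false
universe u v w

open TensorProduct CategoryTheory CategoryTheory.Limits AlgebraicGeometry TopologicalSpace

namespace K842.Compare

open K842.QFam K842.Strata K842.QClass K842.AffCl Groth.Agent.Picfga.HilbPull
  Groth.Agent.Picfga.HilbRep K842.Split K842.ProdPoints K842.RatSer K842.K0Basic K842.ProdFormula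

theorem bc_id {k R B : Type u} [Field k] [CommRing R] [Algebra k R] [CommRing B] [Algebra k B]
    (x : B ⊗[k] R) : bc (AlgHom.id k B) x = x := by
  rw [bc, Algebra.TensorProduct.map_id]; rfl

section

variable {k R : Type u} [Field k] [CommRing R] [Algebra k R]
  {X : Scheme.{u}} (f : X ⟶ Spec (CommRingCat.of k)) [IsSeparated f]
  (j : Spec (CommRingCat.of R) ⟶ X) [IsOpenImmersion j]
  (hj : j ≫ f = Spec.map (CommRingCat.ofHom (algebraMap k R)))
  (H : ℕ → Over (Spec (CommRingCat.of k))) (Z : ∀ d, HilbD.Obj f d (H d))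
  (hZ : ∀ d, HilbD.IsUniversal f d (H d) (Z d))
  [∀ d, LocallyOfFiniteType (H d).hom] [∀ d, QuasiCompact (H d).hom]
  {X' : Scheme.{u}} (f' : X' ⟶ Spec (CommRingCat.of k)) [IsSeparated f']
  (j' : Spec (CommRingCat.of R) ⟶ X') [IsOpenImmersion j']
  (hj' : j' ≫ f' = Spec.map (CommRingCat.ofHom (algebraMap k R)))
  (H' : ℕ → Over (Spec (CommRingCat.of k))) (Z' : ∀ d, HilbD.Obj f' d (H' d))
  (hZ' : ∀ d, HilbD.IsUniversal f' d (H' d) (Z' d))
  [∀ d, LocallyOfFiniteType (H' d).hom] [∀ d, QuasiCompact (H' d).hom]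

include hj hj' hZ hZ' in
/-- The zeta function of a chart is intrinsic. -/
theorem zetaOpen_congr : zetaOpen H Z j.opensRange = zetaOpen H' Z' j'.opensRange := by
  have hN := fun d => isNoetherian_of_ft (H d).hom
  have hN' := fun d => isNoetherian_of_ft (H' d).hom
  ext d
  rw [zetaOpen, zetaOpen, PowerSeries.coeff_mk, PowerSeries.coeff_mk]
  obtain ⟨ι, hι, Q, -, hQ⟩ := exists_strata f j hj (hZ d) (fun _ => True) (fun Q => ⟨Q, AlgHom.id k Q.B, by
    have : (AlgHom.id k Q.B).toRingHom = RingHom.id Q.B := rfl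
    rw [this, CommRingCat.ofHom_id, Spec.map_id]; infer_instance, by
    have h1 : (bc (R := R) (AlgHom.id k Q.B)).toRingHom = RingHom.id _ := RingHom.ext fun x => bc_id x
    have h2 := Ideal.map_id Q.I
    rw [← h1] at h2
    exact h2.symm, trivial⟩)
  rw [cl_eq_sum_ac (fun i => (Q i).B) (fun i => (Q i).I) (fun i => (Q i).isIdl) f j hj (hZ d)
    (good j.opensRange (Z d)).ι (by rw [Scheme.Opens.range_ι, mem_good_iff_locus]; rfl) hQ,
    cl_eq_sum_ac (fun i => (Q i).B) (fun i => (Q i).I) (fun i => (Q i).isIdl) f' j' hj' (hZ' d)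
    (good j'.opensRange (Z' d)).ι (by rw [Scheme.Opens.range_ι, mem_good_iff_locus]; rfl) hQ]

end

section zero

variable {X S : Scheme.{u}} {f : X ⟶ S}

theorem isEmpty_obj_zero {T : Over S} (x : HilbD.Obj f 0 T) : IsEmpty x.1.subscheme :=
  Groth.Agent.Picfga.HilbZero.isEmpty_of_isFinLocFreeOfDeg_zero _ x.2

theorem locus_zero (A : Set X) {T : Over S} (x : HilbD.Obj f 0 T) : locus A x = Set.univ := by
  have := isEmpty_obj_zero x
  ext t
  simp only [mem_locus, Set.mem_univ, iff_true]
  intro z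
  exact isEmptyElim z

end zero

end K842.Compare
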