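import Groth.Agent.HilbZeta.K842.PoleField
import Groth.Agent.CurvesB.SmoothCurveFacts

/-!
# Dedekind coordinate rings of smooth curves, over all fields
-/

set_option autoImplicit false
universe u

open TensorProduct CategoryTheory CategoryTheory.Limits AlgebraicGeometry

namespace K842.SmoothDed

theorem isDedekindDomain_of_ringEquiv {R S : Type*} [CommRing R] [CommRing S] (e : R ≃+* S)
    [IsDedekindDomain R] : IsDedekindDomain S := by
  have : IsDomain S := e.symm.toMulEquiv.isDomain _
  have : IsIntegrallyClosed S := IsIntegrallyClosed.of_equiv e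
  have : IsNoetherianRing S := isNoetherianRing_of_ringEquiv R e
  have : Ring.DimensionLEOne S := Ring.DimensionLEOne.of_ringEquiv e.symm
  exact { }

/-- A one-dimensional smooth domain over a field is Dedekind. -/
theorem isDedekindDomain_of_smooth (K R : Type u) [Field K] [CommRing R] [Algebra K R]
    [Algebra.Smooth K R] [IsDomain R] [Ring.DimensionLEOne R] : IsDedekindDomain R := by
  let X : Scheme.{u} := Spec (CommRingCat.of R)
  let f : X ⟶ Spec (CommRingCat.of K) := Spec.map (CommRingCat.ofHom (algebraMap K R))
  have hf : Smooth f := by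
    rw [HasRingHomProperty.Spec_iff (P := @Smooth)]
    exact RingHom.smooth_algebraMap.2 inferInstance
  have hX : IsIntegral X := inferInstance
  have hdim : topologicalKrullDim X ≤ 1 := by
    have h1 : Ring.KrullDimLE 1 R := inferInstance
    have h2 : topologicalKrullDim X = ringKrullDim R := PrimeSpectrum.topologicalKrullDim_eq_ringKrullDim R
    rw [h2]
    exact_mod_cast (Ring.krullDimLE_iff (n := 1) (R := R)).mp h1
  have hne : Nonempty (⊤ : X.Opens) := ⟨⟨genericPoint X, trivial⟩⟩
  have h3 : IsDedekindDomain Γ(X, ⊤) :=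
    Groth.Agent.CurvesB.SmoothCurveFacts.isDedekindDomain_sec f hdim (isAffineOpen_top X)
  exact isDedekindDomain_of_ringEquiv (Scheme.ΓSpecIso (CommRingCat.of R)).commRingCatIsoToRingEquiv

open K842.Pole K842.PoleField in
/-- The coordinate ring of a smooth curve with one place at infinity stays Dedekind. -/
theorem isDedekindDomain_tensor {k A : Type u} [Field k] [CommRing A] [Algebra k A] (P : PD k A)
    [Algebra.Smooth k A] (K : Type u) [Field K] [Algebra k K] : IsDedekindDomain (K ⊗[k] A) := by
  have hdom : IsDomain (K ⊗[k] A) := isDomain_tensor P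
  have hd : Ring.DimensionLEOne (K ⊗[k] A) := by
    refine ⟨fun {I} hI hI' => ?_⟩
    obtain ⟨x, hx, hx0⟩ := Submodule.exists_mem_ne_zero_of_ne_bot hI
    obtain ⟨n, hn, h1, h2⟩ := exists_lead P hx0
    have h3 : n ∈ dl P I := mem_dl_of_lead P hx h1 h2
    have h4 : Module.Finite K ((K ⊗[k] A) ⧸ I) := finite_of_mem_dl P I h3
    have h5 : IsDomain ((K ⊗[k] A) ⧸ I) := Ideal.Quotient.isDomain I
    have h6 : IsField ((K ⊗[k] A) ⧸ I) := isField_of_isIntegral_of_isField' (Field.toIsField K)
    exact Ideal.Quotient.maximal_of_isField _ h6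
  have hs : Algebra.Smooth K (K ⊗[k] A) := inferInstance
  exact isDedekindDomain_of_smooth K _

end K842.SmoothDed
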