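import Groth.Agent.HilbZeta.K842.PoleDvr
import Groth.Agent.HilbZeta.K842.SmoothDed
import Groth.Agent.Etcore.CurveAffine
import Groth.Agent.CurvesC.ReducedConnField

/-!
# The complement of a point on a smooth proper curve
-/

set_option autoImplicit false
set_option linter.style.haveILetI false
universe u

open TensorProduct CategoryTheory CategoryTheory.Limits AlgebraicGeometry

namespace K842.CurvePole

open K842.Pole K842.PoleDvr Groth.Agent.CurvesB.OmegaStalkDict Groth.Agent.CurvesB.SmoothCurveFacts
  Groth.Agent.Picfga.RegLocus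

variable {k : Type u} [Field k] [IsAlgClosed k]

/-- Global functions on a proper integral scheme over an algebraically closed field are constant. -/
theorem surjective_secHom_top {X : Scheme.{u}} (f : X ⟶ Spec (CommRingCat.of k)) [IsProper f]
    [IsIntegral X] : Function.Surjective (secHom f ⊤) := by
  have h1 : Function.Bijective ((Scheme.ΓSpecIso (CommRingCat.of k)).inv ≫ f.appTop).hom := by
    have hfield := Groth.Agent.CurvesC.ReducedConnField.isField_of_universallyClosed f
    have hdom : IsDomain Γ(X, ⊤) := hfield.isDomain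
    have hF : ((Scheme.ΓSpecIso (CommRingCat.of k)).inv ≫ f.appTop).hom.IsIntegral := by
      apply RingHom.isIntegral_respectsIso.2 (e := (Scheme.ΓSpecIso _).symm.commRingCatIsoToRingEquiv)
      exact isIntegral_appTop_of_universallyClosed f
    exact IsAlgClosed.ringHom_bijective_of_isIntegral _ hF
  intro s
  obtain ⟨c, hc⟩ := h1.2 s
  refine ⟨c, ?_⟩
  have h2 : secHom f ⊤ c = X.presheaf.map (𝟙 _) (Coh.toGlobal f c) := rfl
  rw [h2, X.presheaf.map_id]
  exact hc

theorem spec_secHom {X : Scheme.{u}} (f : X ⟶ Spec (CommRingCat.of k)) {W : X.Opens} (hW : IsAffineOpen W) :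
    Spec.map (CommRingCat.ofHom (secHom f W)) = hW.fromSpec ≫ f := by
  rw [← IsAffineOpen.SpecMap_appLE_fromSpec f (isAffineOpen_top _) hW le_top,
    IsAffineOpen.fromSpec_top, Scheme.isoSpec_Spec_inv, ← Spec.map_comp]
  rfl

theorem ne_genericPoint {X : Scheme.{u}} [IsIntegral X] (hdim : topologicalKrullDim X = 1) {p : X}
    (hp : IsClosed ({p} : Set X)) : p ≠ genericPoint X := by
  rintro rfl
  have h1 : ({genericPoint X} : Set X) = Set.univ := by
    rw [← hp.closure_eq, genericPoint_closure]
  have h2 : Subsingleton X := Set.subsingleton_univ_iff.1 (h1 ▸ Set.subsingleton_singleton)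
  have h3 : topologicalKrullDim X ≤ 0 := by
    have : Subsingleton (TopologicalSpace.IrreducibleCloseds X) := ⟨fun a b => by
      ext x
      have ha := a.isIrreducible.nonempty
      have hb := b.isIrreducible.nonempty
      obtain ⟨y, hy⟩ := ha
      obtain ⟨z, hz⟩ := hb
      rw [Subsingleton.elim y x] at hy
      rw [Subsingleton.elim z x] at hz
      exact ⟨fun _ => hz, fun _ => hy⟩⟩
    exact Order.krullDim_nonpos_of_subsingleton
  rw [hdim] at h3
  exact absurd h3 (by decide)

theorem exists_pd {C : Scheme.{u}} (f : C ⟶ Spec (CommRingCat.of k))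
    (hC : Curve.IsSmoothProperCurve k C f) (p : C) (hp : IsClosed ({p} : Set C)) (V : C.Opens)
    (hV : (V : Set C) = {p}ᶜ) (hVa : IsAffineOpen V) :
    letI := secAlg f V
    Nonempty (PD k Γ(C, V)) := by
  obtain ⟨h1, h2, h3, hdim⟩ := hC
  letI := secAlg f V
  letI := stAlg f p
  letI := stAlg f (genericPoint C)
  have hpg : p ≠ genericPoint C := ne_genericPoint hdim hp
  have hVn : Nonempty V := ⟨⟨genericPoint C, by
    rw [← SetLike.mem_coe, hV]
    exact hpg.symm⟩⟩
  have hdvr : IsDiscreteValuationRing (C.presheaf.stalk p) := isDiscreteValuationRing_stalk f hdim.le hpg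
  have hfr : IsFractionRing Γ(C, V) C.functionField := functionField_isFractionRing_of_isAffineOpen C V hVa
  have t1 := tower_sec f V
  have t2 := tower_st f p
  refine nonempty_pd (O := C.presheaf.stalk p) (K := C.functionField) ?_ ?_
  · intro o
    have hfin := finite_residue_stalk f hp
    have hfld : IsField (C.presheaf.stalk p ⧸ IsLocalRing.maximalIdeal (C.presheaf.stalk p)) :=
      (Ideal.Quotient.field _).toIsField
    have hdom : IsDomain (C.presheaf.stalk p ⧸ IsLocalRing.maximalIdeal (C.presheaf.stalk p)) := hfld.isDomain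
    obtain ⟨c, hc⟩ := (IsAlgClosed.algebraMap_bijective_of_isIntegral (k := k)
      (K := C.presheaf.stalk p ⧸ IsLocalRing.maximalIdeal (C.presheaf.stalk p))).2 (Ideal.Quotient.mk _ o)
    refine ⟨c, ?_⟩
    rw [← Ideal.Quotient.mk_eq_mk_iff_sub_mem, ← hc]
    rfl
  · intro a o hao
    let z : C.functionField := algebraMap Γ(C, V) C.functionField a
    have hreg : reg z = ⊤ := by
      rw [eq_top_iff]
      intro x _
      by_cases hx : x = p
      · subst hx
        exact mem_reg.2 ⟨o, hao.symm⟩
      · have hxV : x ∈ V := by rw [← SetLike.mem_coe, hV]; exact hx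
        exact mem_reg_iff_exists.2 ⟨V, hxV, a, rfl⟩
    obtain ⟨s, hs⟩ := exists_section z
    have hle : (⊤ : C.Opens) ≤ reg z := hreg.ge
    obtain ⟨c, hc⟩ := surjective_secHom_top f (C.presheaf.map (homOfLE hle).op s)
    refine ⟨c, injAK (A := Γ(C, V)) (K := C.functionField) ?_⟩
    change C.presheaf.germ V (genericPoint C) _ (secHom f V c) = z
    rw [germ_secHom, ← germ_secHom f ⊤ (genericPoint C) trivial c, hc]
    refine Eq.trans ?_ hs
    exact C.presheaf.germ_res_apply _ _ _ _

end K842.CurvePole
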