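import Groth.Agent.HilbZeta.K842.PoleMain
import Groth.Agent.HilbZeta.K842.RatSer

/-!
# Rationality for an open subscheme with one place at infinity
-/

set_option autoImplicit false
set_option backward.isDefEq.respectTransparency false
universe u v w

open TensorProduct CategoryTheory CategoryTheory.Limits AlgebraicGeometry

namespace K842.PoleFinal

open K842.QFam K842.Pole K842.PoleField K842.Strata K842.PoleGen K842.PoleGood K842.PoleFam K842.QClass
  K842.AffCl Groth.Agent.Picfga.HilbPull Groth.Agent.Picfga.HilbRep K842.Split K842.PoleMain K842.ProdPoints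
  K842.RatSer K842.K0Basic

variable {k A : Type u} [Field k] [CommRing A] [Algebra k A] (P : PD k A)
  (hded : ∀ (K : Type u) [Field K] [Algebra k K], IsDedekindDomain (K ⊗[k] A))
  {X : Scheme.{u}} (f : X ⟶ Spec (CommRingCat.of k)) [IsSeparated f]
  (j : Spec (CommRingCat.of A) ⟶ X) [IsOpenImmersion j]
  (hj : j ≫ f = Spec.map (CommRingCat.ofHom (algebraMap k A)))
  (H : ℕ → Over (Spec (CommRingCat.of k))) (Z : ∀ d, HilbD.Obj f d (H d))
  (hZ : ∀ d, HilbD.IsUniversal f d (H d) (Z d))
  [∀ d, LocallyOfFiniteType (H d).hom] [∀ d, QuasiCompact (H d).hom]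

include P hded hj hZ in
theorem isRat_zetaOpen : IsRat (zetaOpen H Z j.opensRange) := by
  obtain ⟨c, hc⟩ := exists_conductor P
  have hex := fun n : Fin (gap P + 1) => exists_strata f j hj (hZ n)
    (fun Q => Nonempty (GoodData P c Q)) (fun Q => exists_good P hded c hc Q)
  choose ι hι Q hG hQ using hex
  let G : ∀ n i, GoodData P c (Q n i) := fun n i => (hG n i).some
  have hN := fun d => isNoetherian_of_ft (H d).hom
  apply isRat_of_geom _ (∑ x : RI G, ac k (Q x.1.1 x.1.2).B) (K0Var.L (Spec (CommRingCat.of k)))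
    (gap P) (gap P + c) (by omega)
  intro d hd
  rw [zetaOpen, PowerSeries.coeff_mk]
  exact cl_eq hded hc G f j hj hQ hd (hZ d) (good j.opensRange (Z d)).ι (by
    rw [Scheme.Opens.range_ι, mem_good_iff_locus]; rfl)

end K842.PoleFinal
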