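import Groth.Agent.HilbZeta.K842.Compare
import Groth.Agent.S15636
import Groth.Agent.HilbZeta.K537.GlueDim

/-!
# Removing closed points from a curve
-/

set_option autoImplicit false
set_option backward.isDefEq.respectTransparency false
universe u v w

open CategoryTheory CategoryTheory.Limits AlgebraicGeometry TopologicalSpace

namespace K842.Removal

open Groth.Agent.Picfga.HilbPull
  Groth.Agent.Picfga.HilbRep K842.Split K842.ProdPoints K842.RatSer K842.K0Basic K842.ProdFormula K842.Compare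

theorem cl_of_isIso {S Y : Scheme.{u}} (g : Y ⟶ S) [IsIso g] [LocallyOfFiniteType g] [QuasiCompact g] :
    K0Var.cl g = 1 := by
  rw [← K0Var.cl_one]
  exact K0Var.cl_congr _ _ (asIso g) (by rw [asIso_hom, Category.comp_id])

section zero

variable {X S : Scheme.{u}} {f : X ⟶ S} [IsNoetherian S]

theorem cl_zero {H : Over S} {Z : HilbD.Obj f 0 H} (hZ : HilbD.IsUniversal f 0 H Z)
    [LocallyOfFiniteType H.hom] [QuasiCompact H.hom] : K0Var.cl H.hom = 1 := by
  have := Groth.Agent.Picfga.HilbZero.isIso_hom_of_isUniversal_zero f hZ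
  exact cl_of_isIso H.hom

theorem cl_zero_locus {H : Over S} {Z : HilbD.Obj f 0 H} (hZ : HilbD.IsUniversal f 0 H Z)
    [LocallyOfFiniteType H.hom] [QuasiCompact H.hom] (A : Set X) {P : Scheme.{u}} (j : P ⟶ H.left)
    [IsImmersion j] [LocallyOfFiniteType j] [QuasiCompact j] (hj : Set.range j = locus A Z) :
    K0Var.cl (j ≫ H.hom) = 1 := by
  have h1 : K0Var.cl (𝟙 _ ≫ H.hom) = K0Var.cl H.hom := cl_congr_hom (Category.id_comp _)
  rw [cl_eq_of_range_eq H.hom j (𝟙 _) (by
    rw [hj, locus_zero, Set.range_eq_univ.2 (fun x => ⟨x, by simp⟩)]), h1, cl_zero hZ]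

/-- The locus of subschemes supported in a closed subset is closed. -/
theorem isClosed_locus {d : ℕ} {T : Over S} (x : HilbD.Obj f d T) {A : Set X} (hA : IsClosed A) :
    IsClosed (locus A x) := by
  have h1 : Flat (sm x) := x.2.1.2.1
  have h2 : LocallyOfFinitePresentation (sm x) := x.2.1.2.2
  have h3 : IsOpenMap (sm x) := (sm x).isOpenMap
  have h4 : IsOpen ((pr x) ⁻¹' Aᶜ) := hA.isOpen_compl.preimage (pr x).continuous
  have h5 : locus A x = (sm x '' ((pr x) ⁻¹' Aᶜ))ᶜ := by
    ext t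
    rw [mem_locus, Set.mem_compl_iff, Set.mem_image]
    constructor
    · rintro h ⟨z, hz, hz'⟩
      exact hz (h z hz')
    · intro h z hz
      by_contra h'
      exact h ⟨z, h', hz⟩
  rw [h5]
  exact (h3 _ h4).isClosed_compl

theorem exists_closed {d : ℕ} {T : Over S} (x : HilbD.Obj f d T) {A : Set X} (hA : IsClosed A) :
    ∃ (P : Scheme.{u}) (i : P ⟶ T.left), IsClosedImmersion i ∧ Set.range i = locus A x := by
  let C : Closeds T.left := ⟨locus A x, isClosed_locus x hA⟩
  refine ⟨_, (Scheme.IdealSheafData.vanishingIdeal C).subschemeι, inferInstance, ?_⟩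
  rw [Scheme.IdealSheafData.range_subschemeι, Scheme.IdealSheafData.coe_support_vanishingIdeal]
  rfl

theorem constantCoeff_zetaOpen {H : ℕ → Over S} {Z : ∀ d, HilbD.Obj f d (H d)}
    (hZ : ∀ d, HilbD.IsUniversal f d (H d) (Z d)) [∀ d, LocallyOfFiniteType (H d).hom]
    [∀ d, QuasiCompact (H d).hom] (U : X.Opens) :
    PowerSeries.constantCoeff (zetaOpen H Z U) = 1 := by
  have hN := fun d => isNoetherian_of_ft (H d).hom
  rw [zetaOpen, ← PowerSeries.coeff_zero_eq_constantCoeff_apply, PowerSeries.coeff_mk]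
  exact cl_zero_locus (hZ 0) (U : Set X) (good U (Z 0)).ι (by
    rw [Scheme.Opens.range_ι, mem_good_iff_locus])

end zero

section

variable {k : Type u} [Field k] [IsAlgClosed k] {X : Scheme.{u}}
  {f : X ⟶ Spec (CommRingCat.of k)} [LocallyOfFiniteType f] [QuasiCompact f] [IsSeparated f] [IsReduced X]
  {H : ℕ → Over (Spec (CommRingCat.of k))} {Z : ∀ d, HilbD.Obj f d (H d)}
  (hZ : ∀ d, HilbD.IsUniversal f d (H d) (Z d))
  [∀ d, LocallyOfFiniteType (H d).hom] [∀ d, QuasiCompact (H d).hom]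

include hZ in
theorem isRat_punctual (x₀ : X) (hx₀ : IsClosed ({x₀} : Set X))
    (hdim : ringKrullDim (X.presheaf.stalk x₀) = 1)
    (HP : ℕ → Scheme.{u}) (ι : ∀ d, HP d ⟶ (H d).left) [∀ d, IsClosedImmersion (ι d)]
    (hι : ∀ d, Set.range (ι d) = locus {x₀} (Z d)) :
    IsRat (PowerSeries.mk fun d => K0Var.cl (ι d ≫ (H d).hom)) := by
  obtain ⟨s, hs⟩ := K537.HZ.exists_numBranchesAt k X f x₀
  obtain ⟨P, hP⟩ := Groth.Agent.S15636.result k X f x₀ hx₀ hdim s hs H Z hZ HP ι
    (fun d => by rw [hι]; rfl)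
  refine ⟨P, (1 - Polynomial.X) ^ s, ?_, ?_⟩
  · rw [Polynomial.coeff_zero_eq_eval_zero]; simp
  · rw [← hP]
    congr 1
    simp

include hZ in
/-- Removing finitely many closed points does not change rationality. -/
theorem isRat_iff (T : Set X) (hT : T.Finite) (hTc : ∀ x ∈ T, IsClosed ({x} : Set X))
    (hdim : ∀ x ∈ T, ringKrullDim (X.presheaf.stalk x) = 1) (U : X.Opens) (hU : (U : Set X) = Tᶜ) :
    IsRat (zetaOpen H Z U) ↔ IsRat (zetaOpen H Z ⊤) := by
  have hN := fun d => isNoetherian_of_ft (H d).hom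
  have hfin : Finite T := hT
  obtain ⟨l, ⟨e⟩⟩ := Finite.exists_equiv_fin T
  let p : Fin l → X := fun i => (e.symm i : X)
  have hp : Function.Injective p := Subtype.val_injective.comp e.symm.injective
  have hr : Set.range p = T := by
    ext x
    constructor
    · rintro ⟨i, rfl⟩; exact (e.symm i).2
    · intro hx; exact ⟨e ⟨x, hx⟩, by simp [p]⟩
  have hpc : ∀ i, IsClosed ({p i} : Set X) := fun i => hTc _ (e.symm i).2
  have hex := fun (i : Fin l) (d : ℕ) => exists_closed (Z d) (hpc i)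
  choose HP ι hcl hι using hex
  have h1 := zetaOpen_prod (H := H) (Z := Z) hZ l p hp hpc U (by rw [hU, hr]) HP ι hι
  have h2 : IsRat (∏ i, PowerSeries.mk fun d => K0Var.cl (ι i d ≫ (H d).hom)) :=
    IsRat.prod _ fun i _ => isRat_punctual hZ (p i) (hpc i) (hdim _ (e.symm i).2) (HP i) (ι i) (hι i)
  have h3 : PowerSeries.constantCoeff (∏ i, PowerSeries.mk fun d => K0Var.cl (ι i d ≫ (H d).hom)) = 1 := by
    rw [map_prod]
    refine Finset.prod_eq_one fun i _ => ?_
    rw [← PowerSeries.coeff_zero_eq_constantCoeff_apply, PowerSeries.coeff_mk]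
    exact cl_zero_locus (hZ 0) _ (ι i 0) (hι i 0)
  rw [h1]
  exact ⟨fun h => h.mul h2, fun h => h.of_mul h2 h3⟩

end

end K842.Removal
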