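import Groth.Agent.HilbZeta.K842.CurvePole
import Groth.Agent.HilbZeta.K842.Removal
import Groth.Agent.HilbZeta.K842.PoleFinal
import Groth.Agent.Localalg.GrpSchComp
import Groth.Agent.Dix.ProjProper
import Groth.Agent.S1170
import Groth.Agent.S19463
import Groth.Agent.S17178

/-!
# Rationality of the Hilbert zeta function of a smooth curve
-/

set_option autoImplicit false
set_option linter.style.haveILetI false
universe u

open TensorProduct CategoryTheory CategoryTheory.Limits AlgebraicGeometry

namespace K842.CurveRat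

open K842.Pole K842.PoleDvr Groth.Agent.CurvesB.OmegaStalkDict Groth.Agent.CurvesB.SmoothCurveFacts
  K842.CurvePole K842.Removal K842.PoleFinal K842.RatSer K842.ProdPoints Groth.Agent.Picfga.HilbPull
  Groth.Agent.Picfga.HilbRep K842.Compare

variable {k : Type u} [Field k] [IsAlgClosed k]

/-- The Hilbert zeta function of a smooth proper curve is rational. -/
theorem isRat_proper {C : Scheme.{u}} (f : C ⟶ Spec (CommRingCat.of k))
    (hC : Curve.IsSmoothProperCurve k C f)
    (H : ℕ → Over (Spec (CommRingCat.of k))) (Z : ∀ d, HilbD.Obj f d (H d))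
    (hZ : ∀ d, HilbD.IsUniversal f d (H d) (Z d))
    [∀ d, LocallyOfFiniteType (H d).hom] [∀ d, QuasiCompact (H d).hom] :
    IsRat (zetaOpen H Z ⊤) := by
  obtain ⟨h1, h2, h3, hdim⟩ := id hC
  have hcs : CompactSpace C := QuasiCompact.compactSpace_of_compactSpace f
  obtain ⟨p, -, hp⟩ := (isClosed_univ (X := C)).exists_closed_singleton ⟨genericPoint C, trivial⟩
  let V : C.Opens := ⟨{p}ᶜ, hp.isOpen_compl⟩
  have hVc : (V : Set C) = {p}ᶜ := rfl
  have hVa' : IsAffine (V : Scheme.{u}) := Groth.Agent.Etcore.CurveAffine.isAffine_open k C f hdim V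
    (by rw [hVc, compl_compl]; exact Set.finite_singleton p) (by rw [hVc, compl_compl]; exact ⟨p, rfl⟩)
  have hVa : IsAffineOpen V := hVa'
  letI := secAlg f V
  obtain ⟨P⟩ := exists_pd f hC p hp V hVc hVa
  have hs : Algebra.Smooth k Γ(C, V) := smooth_secHom f hVa
  have hj : hVa.fromSpec ≫ f = Spec.map (CommRingCat.ofHom (algebraMap k Γ(C, V))) := (spec_secHom f hVa).symm
  have main := isRat_zetaOpen P (fun K _ _ => K842.SmoothDed.isDedekindDomain_tensor P K) f hVa.fromSpec hj H Z hZ
  rw [hVa.opensRange_fromSpec] at main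
  refine (isRat_iff hZ {p} (Set.finite_singleton p) (by rintro x rfl; exact hp) ?_ V hVc).1 main
  rintro x rfl
  have := isDiscreteValuationRing_stalk f hdim.le (ne_genericPoint hdim hp)
  exact IsDiscreteValuationRing.ringKrullDim_eq_one _

/-- The Hilbert zeta function of an affine smooth curve is rational. -/
theorem isRat_affine {X : Scheme.{u}} (f : X ⟶ Spec (CommRingCat.of k)) [IsSeparated f]
    {R : Type u} [CommRing R] [Algebra k R] [IsDomain R] [Algebra.Smooth k R]
    (hR : ringKrullDim R = 1)
    (j : Spec (CommRingCat.of R) ⟶ X) [IsOpenImmersion j]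
    (hj : j ≫ f = Spec.map (CommRingCat.ofHom (algebraMap k R)))
    (H : ℕ → Over (Spec (CommRingCat.of k))) (Z : ∀ d, HilbD.Obj f d (H d))
    (hZ : ∀ d, HilbD.IsUniversal f d (H d) (Z d))
    [∀ d, LocallyOfFiniteType (H d).hom] [∀ d, QuasiCompact (H d).hom] :
    IsRat (zetaOpen H Z j.opensRange) := by
  let W : Scheme.{u} := Spec (CommRingCat.of R)
  let q : W ⟶ Spec (CommRingCat.of k) := Spec.map (CommRingCat.ofHom (algebraMap k R))
  letI : W.Over (Spec (CommRingCat.of k)) := ⟨q⟩
  have hq : W ↘ (Spec (CommRingCat.of k)) = q := rfl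
  have hsm : Smooth q := by
    rw [HasRingHomProperty.Spec_iff (P := @Smooth)]
    exact RingHom.smooth_algebraMap.2 inferInstance
  have i1 : IsIntegral W := inferInstance
  have i2 : IsSeparated (W ↘ (Spec (CommRingCat.of k))) := by rw [hq]; infer_instance
  have i3 : LocallyOfFiniteType (W ↘ (Spec (CommRingCat.of k))) := by rw [hq]; infer_instance
  have i4 : QuasiCompact (W ↘ (Spec (CommRingCat.of k))) := by rw [hq]; infer_instance
  have i5 : Smooth (W ↘ (Spec (CommRingCat.of k))) := by rw [hq]; infer_instance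
  have hdimW : topologicalKrullDim W = 1 := by
    rw [← hR]
    exact PrimeSpectrum.topologicalKrullDim_eq_ringKrullDim R
  obtain ⟨Y, _, j', hjo, hj', hYi, hYs, hYd, n, i, hi, hiY⟩ := Groth.Agent.S19463.result k W hdimW
  let g : Y ⟶ Spec (CommRingCat.of k) := Y ↘ (Spec (CommRingCat.of k))
  have hg : IsProper g := by
    have : IsProper i := inferInstance
    have h1 : IsProper (CohB1.ProjSpace.toSpec n k) := Groth.Agent.Dix.ProjProper.isProper_toSpec n k
    change IsProper (Y ↘ (Spec (CommRingCat.of k)))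
    rw [← hiY]
    infer_instance
  have hC : Curve.IsSmoothProperCurve k Y g := ⟨hg, hYs, hYi, hYd⟩
  have hgi : GeometricallyIrreducible g := Groth.Agent.Localalg.GrpSchComp.geometricallyIrreducible_of_irreducibleSpace g
  choose H' Z' hZ' hpr hsm' using fun d => Groth.Agent.S1170.result k Y g hC d
  have hl1 : ∀ d, LocallyOfFiniteType (H' d).hom := fun d => inferInstance
  have hl2 : ∀ d, QuasiCompact (H' d).hom := fun d => inferInstance
  have hY1 := isRat_proper g hC H' Z' hZ'
  have hj2 : j' ≫ g = Spec.map (CommRingCat.ofHom (algebraMap k R)) := hj'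
  rw [zetaOpen_congr f j hj H Z hZ g j' hj2 H' Z' hZ']
  have hN : IsLocallyNoetherian Y := LocallyOfFiniteType.isLocallyNoetherian g
  have hcs : CompactSpace Y := QuasiCompact.compactSpace_of_compactSpace g
  have hNY : IsNoetherian Y := {}
  let T : Set Y := (j'.opensRange : Set Y)ᶜ
  have hTc : IsClosed T := j'.opensRange.2.isClosed_compl
  have hgen : ∀ x ∈ T, x ≠ genericPoint Y := by
    rintro x hx rfl
    apply hx
    have hne : Nonempty W := ⟨genericPoint W⟩
    exact ((genericPoint_spec Y).mem_open_set_iff j'.opensRange.2).2 ⟨j' (genericPoint W), trivial, ⟨_, rfl⟩⟩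
  have hTp : ∀ x ∈ T, IsClosed ({x} : Set Y) := fun x hx =>
    Groth.Agent.Picfga.CurvePts.isClosed_singleton_of_dim_le_one hYd.le (hgen x hx)
  have hTf : T.Finite := Groth.Agent.S17178.finite_of_closedPoints T hTc hTp
  refine (isRat_iff hZ' T hTf hTp ?_ j'.opensRange (compl_compl _).symm).2 hY1
  intro x hx
  have := isDiscreteValuationRing_stalk g hYd.le (hgen x hx)
  exact IsDiscreteValuationRing.ringKrullDim_eq_one _

end K842.CurveRat
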