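import Mathlib.RingTheory.DedekindDomain.Factorization
import Mathlib.LinearAlgebra.FiniteDimensional.Lemmas
import Mathlib.LinearAlgebra.Dimension.Finite
import Mathlib.RingTheory.Ideal.Quotient.Operations

/-!
# Colengths of products of ideals in Dedekind domains
-/

set_option autoImplicit false
universe u v

namespace K842.DedDim

variable {K : Type u} {O : Type v} [Field K] [CommRing O] [Algebra K O] [IsDedekindDomain O]

theorem finite_and_finrank_mul (I J : Ideal O) (hI : I ≠ ⊥) (hJ : J ≠ ⊥) (h1 : Module.Finite K (O ⧸ I))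
    (h2 : Module.Finite K (O ⧸ J)) : Module.Finite K (O ⧸ (I * J)) ∧
      Module.finrank K (O ⧸ (I * J)) = Module.finrank K (O ⧸ I) + Module.finrank K (O ⧸ J) := by
  have hIJ : I * J ≤ I := Ideal.mul_le_left
  have hIJ0 : I * J ≠ ⊥ := mul_ne_zero hI hJ
  obtain ⟨a, ha⟩ := IsDedekindDomain.exists_sup_span_eq hIJ hIJ0
  let π : (O ⧸ (I * J)) →ₗ[K] (O ⧸ I) := (Ideal.Quotient.factorₐ K hIJ).toLinearMap
  have hπ : ∀ x, π (Ideal.Quotient.mk _ x) = Ideal.Quotient.mk _ x := fun x => rfl
  have hπs : Function.Surjective π := by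
    intro x
    obtain ⟨x, rfl⟩ := Ideal.Quotient.mk_surjective x
    exact ⟨Ideal.Quotient.mk _ x, rfl⟩
  let g : O →ₗ[K] (O ⧸ (I * J)) := (Ideal.Quotient.mkₐ K (I * J)).toLinearMap ∘ₗ LinearMap.mulRight K a
  have hg : ∀ x, g x = Ideal.Quotient.mk _ (x * a) := fun x => rfl
  have haI : a ∈ I := by rw [← ha]; exact Ideal.mem_sup_right (Ideal.mem_span_singleton_self a)
  have hker : LinearMap.ker g = J.restrictScalars K := by
    ext x
    rw [LinearMap.mem_ker, hg, Ideal.Quotient.eq_zero_iff_mem, Submodule.restrictScalars_mem]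
    constructor
    · intro hx
      have h3 : Ideal.span {x} * I ≤ I * J := by
        have e0 : Ideal.span {x} * I = Ideal.span {x} * (I * J) ⊔ Ideal.span {x} * Ideal.span {a} := by
          rw [← Ideal.mul_sup, ha]
        rw [e0, Ideal.span_singleton_mul_span_singleton]
        exact sup_le Ideal.mul_le_right (by rw [Ideal.span_singleton_le_iff_mem]; exact hx)
      rw [mul_comm] at h3
      have h4 : Ideal.span {x} ≤ J := by
        have := Ideal.dvd_iff_le.2 h3
        rw [mul_dvd_mul_iff_left hI] at this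
        exact Ideal.dvd_iff_le.1 this
      exact h4 (Ideal.mem_span_singleton_self x)
    · intro hx
      rw [mul_comm x a]
      exact Ideal.mul_mem_mul haI hx
  have hrange : LinearMap.range g = LinearMap.ker π := by
    ext y
    obtain ⟨y, rfl⟩ := Ideal.Quotient.mk_surjective y
    rw [LinearMap.mem_ker, hπ, Ideal.Quotient.eq_zero_iff_mem]
    constructor
    · rintro ⟨x, hx⟩
      rw [hg, Ideal.Quotient.eq] at hx
      have h3 : x * a ∈ I := I.mul_mem_left _ haI
      have := I.sub_mem h3 (hIJ hx)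
      rwa [sub_sub_cancel] at this
    · intro hy
      rw [← ha] at hy
      obtain ⟨z, hz, w, hw, rfl⟩ := Submodule.mem_sup.1 hy
      obtain ⟨c, rfl⟩ := Ideal.mem_span_singleton'.1 hw
      refine ⟨c, ?_⟩
      rw [hg, Ideal.Quotient.eq]
      have : c * a - (z + c * a) = -z := by ring
      rw [this]
      exact Submodule.neg_mem _ hz
  have e1 : (O ⧸ J) ≃ₗ[K] LinearMap.ker π :=
    ((Submodule.Quotient.restrictScalarsEquiv K J).symm.trans (Submodule.quotEquivOfEq _ _ hker.symm)).trans
      (g.quotKerEquivRange.trans (LinearEquiv.ofEq _ _ hrange))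
  have hfk : Module.Finite K (LinearMap.ker π) := Module.Finite.equiv e1
  have hfq : Module.Finite K ((O ⧸ (I * J)) ⧸ LinearMap.ker π) :=
    Module.Finite.equiv (π.quotKerEquivOfSurjective hπs).symm
  have hfin : Module.Finite K (O ⧸ (I * J)) := Module.Finite.of_submodule_quotient (LinearMap.ker π)
  refine ⟨hfin, ?_⟩
  rw [← LinearMap.finrank_range_add_finrank_ker π, LinearMap.range_eq_top.2 hπs, finrank_top,
    e1.finrank_eq]

end K842.DedDim
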