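import Mathlib.AlgebraicGeometry.Morphisms.Flat
import Mathlib.AlgebraicGeometry.IdealSheaf.Subscheme
import Mathlib.RingTheory.Flat.TorsionFree
import Mathlib.RingTheory.PrincipalIdealDomain

set_option autoImplicit false
universe u

open CategoryTheory AlgebraicGeometry Opposite

namespace K842.FlatImg

theorem flat_of_ker_eq_bot {X Y Z : Scheme.{u}} (f : X ⟶ Y) (g : Y ⟶ Z) [IsAffine Z]
    [IsDomain Γ(Z, ⊤)] [IsPrincipalIdealRing Γ(Z, ⊤)]
    [QuasiCompact f] (hker : f.ker = ⊥) [Flat (f ≫ g)] : Flat g := by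
  rw [HasRingHomProperty.iff_of_iSup_eq_top (P := @Flat) (fun U : Y.affineOpens => U)
    (iSup_affineOpens_eq_top Y)]
  intro U
  -- the section ring is torsion free
  algebraize [(g.appLE ⊤ U.1 le_top).hom]
  change Module.Flat Γ(Z, ⊤) Γ(Y, U.1)
  rw [IsDedekindDomain.flat_iff_torsion_eq_bot, eq_bot_iff]
  intro y hy
  obtain ⟨⟨r, hr⟩, hry⟩ := hy
  have hry' : (g.appLE ⊤ U.1 le_top).hom r * y = 0 := hry
  have hinj : Function.Injective (f.app U.1).hom := by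
    rw [RingHom.injective_iff_ker_eq_bot, ← Scheme.Hom.ker_apply, hker]
    rfl
  rw [Submodule.mem_bot]
  apply hinj
  rw [map_zero]
  -- local check
  refine X.IsSheaf.section_ext ?_
  intro x hx
  obtain ⟨W, hW, hxW, hWU'⟩ := exists_isAffineOpen_mem_and_subset hx
  have hWU : W ≤ f ⁻¹ᵁ U.1 := hWU'
  refine ⟨W, hWU, hxW, ?_⟩
  have hflat : ((f ≫ g).appLE ⊤ W le_top).hom.Flat :=
    HasRingHomProperty.appLE (P := @Flat) (f ≫ g) inferInstance ⟨⊤, isAffineOpen_top Z⟩ ⟨W, hW⟩ le_top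
  have hcomp : g.appLE ⊤ U.1 le_top ≫ f.app U.1 ≫ X.presheaf.map (homOfLE hWU).op =
      (f ≫ g).appLE ⊤ W le_top := by
    rw [← Scheme.Hom.appLE_comp_appLE f g ⊤ U.1 W le_top hWU]
    rfl
  algebraize [((f ≫ g).appLE ⊤ W le_top).hom]
  have hfl : Module.Flat Γ(Z, ⊤) Γ(X, W) := hflat
  have hreg := Module.Flat.isSMulRegular_of_nonZeroDivisors (M := Γ(X, W)) hr
  rw [map_zero]
  apply hreg
  change r • _ = r • (0 : Γ(X, W))
  rw [smul_zero]
  have h1 := congrArg (f.app U.1 ≫ X.presheaf.map (homOfLE hWU).op).hom hry'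
  rw [map_mul, map_zero] at h1
  have h2 : (f.app U.1 ≫ X.presheaf.map (homOfLE hWU).op).hom ((g.appLE ⊤ U.1 le_top).hom r) =
      ((f ≫ g).appLE ⊤ W le_top).hom r := by
    rw [← hcomp]
    rfl
  rw [h2] at h1
  exact h1

theorem flat_of_ker_eq_bot_spec {X Y : Scheme.{u}} (R : CommRingCat.{u}) [IsDomain R] [IsPrincipalIdealRing R]
    (f : X ⟶ Y) (g : Y ⟶ Spec R)
    [QuasiCompact f] (hker : f.ker = ⊥) [Flat (f ≫ g)] : Flat g := by
  let e : Γ(Spec R, ⊤) ≃+* R := (Scheme.ΓSpecIso R).commRingCatIsoToRingEquiv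
  have : IsDomain Γ(Spec R, ⊤) := e.toMulEquiv.isDomain R
  have : IsPrincipalIdealRing Γ(Spec R, ⊤) := IsPrincipalIdealRing.of_surjective e.symm.toRingHom e.symm.surjective
  exact flat_of_ker_eq_bot f g hker

end K842.FlatImg
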