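import Groth.Prelude.Def_K0Var
import Mathlib.AlgebraicGeometry.SpreadingOut
import Mathlib.AlgebraicGeometry.Morphisms.Immersion
import Mathlib.AlgebraicGeometry.IdealSheaf.Subscheme
import Mathlib.AlgebraicGeometry.Noetherian
import Mathlib.AlgebraicGeometry.ResidueField
import Mathlib.AlgebraicGeometry.Morphisms.QuasiCompact
import Mathlib.AlgebraicGeometry.Limits
import Groth.Agent.Ega1.ReducedSub

/-!
# Classes in the Grothendieck ring: invariance under maps bijective on field-valued points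
-/

set_option autoImplicit false
universe u

open CategoryTheory CategoryTheory.Limits AlgebraicGeometry K0Var

namespace K842.K0Basic

/-- A morphism bijective on field-valued points. -/
def BijPts {X Y : Scheme.{u}} (f : X ⟶ Y) : Prop :=
  ∀ (K : CommRingCat.{u}) (_ : IsField K) (y : Spec K ⟶ Y), ∃! x : Spec K ⟶ X, x ≫ f = y

/-- A morphism injective on field-valued points. -/
def InjPts {X Y : Scheme.{u}} (f : X ⟶ Y) : Prop :=
  ∀ (K : CommRingCat.{u}) (_ : IsField K) (x x' : Spec K ⟶ X), x ≫ f = x' ≫ f → x = x'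

theorem BijPts.injPts {X Y : Scheme.{u}} {f : X ⟶ Y} (h : BijPts f) : InjPts f :=
  fun K hK x x' hx => (h K hK (x' ≫ f)).unique hx rfl

theorem InjPts.of_mono {X Y : Scheme.{u}} (f : X ⟶ Y) [Mono f] : InjPts f :=
  fun K hK x x' hx => (cancel_mono f).1 hx

theorem BijPts.pullback_snd {X Y Z : Scheme.{u}} {f : X ⟶ Y} (h : BijPts f) (g : Z ⟶ Y) :
    BijPts (pullback.snd f g) := by
  intro K hK z
  obtain ⟨x, hx, hx'⟩ := h K hK (z ≫ g)
  refine ⟨pullback.lift x z hx, pullback.lift_snd _ _ _, fun w hw => ?_⟩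
  apply pullback.hom_ext
  · rw [pullback.lift_fst]
    apply hx'
    rw [Category.assoc, pullback.condition, ← Category.assoc, hw]
  · rw [pullback.lift_snd, hw]

theorem BijPts.comp {X Y Z : Scheme.{u}} {f : X ⟶ Y} {g : Y ⟶ Z} (hf : BijPts f) (hg : BijPts g) :
    BijPts (f ≫ g) := by
  intro K hK z
  obtain ⟨y, hy, hy'⟩ := hg K hK z
  obtain ⟨x, hx, hx'⟩ := hf K hK y
  refine ⟨x, by dsimp only at hx hy ⊢; rw [← Category.assoc, hx, hy], fun w hw => ?_⟩
  apply hx'
  apply hy'
  rw [Category.assoc, hw]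

theorem BijPts.surjective {X Y : Scheme.{u}} {f : X ⟶ Y} (h : BijPts f) : Function.Surjective f := by
  intro y
  obtain ⟨x, hx, -⟩ := h (.of (Y.residueField y)) (Field.toIsField _) (Y.fromSpecResidueField y)
  refine ⟨x (default : Spec (Y.residueField y)), ?_⟩
  rw [← Scheme.Hom.comp_apply, hx]
  exact Scheme.fromSpecResidueField_apply _ _

section cl

variable {S : Scheme.{u}}

theorem cl_of_isEmpty {X : Scheme.{u}} [IsEmpty X] (f : X ⟶ S) [LocallyOfFiniteType f] [QuasiCompact f] :
    cl f = 0 :=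
  Gen.cl_eq_zero_of_isEmpty (Gen.mk X f)

/-- A surjective closed immersion does not change the class. -/
theorem cl_closed_surj {X Z : Scheme.{u}} (f : X ⟶ S) [LocallyOfFiniteType f] [QuasiCompact f]
    (i : Z ⟶ X) [IsClosedImmersion i] (hi : Function.Surjective i) : cl (i ≫ f) = cl f := by
  have : QuasiCompact (Scheme.emptyTo X) := inferInstance
  have h := cl_scissor f i (Scheme.emptyTo X) (by
    rw [hi.range_eq, Set.range_eq_empty (Scheme.emptyTo X), Set.compl_empty])
  rw [h, cl_of_isEmpty (Scheme.emptyTo X ≫ f), add_zero]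

theorem cl_congr_hom {X : Scheme.{u}} {f g : X ⟶ S} [LocallyOfFiniteType f] [QuasiCompact f]
    [LocallyOfFiniteType g] [QuasiCompact g] (h : f = g) : cl f = cl g := by
  subst h; rfl


/-- Additivity for an open subscheme and a closed subscheme with complementary ranges, Noetherian case. -/
theorem cl_open_closed {X Z U : Scheme.{u}} [IsLocallyNoetherian X] (f : X ⟶ S) [LocallyOfFiniteType f] [QuasiCompact f]
    (i : Z ⟶ X) [IsClosedImmersion i] (j : U ⟶ X) [IsOpenImmersion j]
    (h : Set.range i = (Set.range j)ᶜ) [LocallyOfFiniteType (i ≫ f)] [QuasiCompact (i ≫ f)]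
    [LocallyOfFiniteType (j ≫ f)] [QuasiCompact (j ≫ f)] :
    cl f = cl (i ≫ f) + cl (j ≫ f) :=
  cl_scissor f i j h

/-- A surjective immersion does not change the class. -/
theorem cl_immersion_surj {X Z : Scheme.{u}} (f : X ⟶ S) [LocallyOfFiniteType f] [QuasiCompact f]
    (i : Z ⟶ X) [IsImmersion i] (hi : Function.Surjective i)
    [LocallyOfFiniteType (i ≫ f)] [QuasiCompact (i ≫ f)] : cl (i ≫ f) = cl f := by
  have : IsClosedImmersion i := IsClosedImmersion.of_isPreimmersion i (by
    rw [Set.range_eq_univ.mpr hi]; exact isClosed_univ)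
  exact cl_closed_surj f i hi

end cl

section main

variable {S : Scheme.{u}} [IsNoetherian S]

theorem isNoetherian_of_ft {X : Scheme.{u}} (f : X ⟶ S) [LocallyOfFiniteType f] [QuasiCompact f] :
    IsNoetherian X := by
  have h1 : IsLocallyNoetherian X := LocallyOfFiniteType.isLocallyNoetherian f
  have h2 : CompactSpace X := QuasiCompact.compactSpace_of_compactSpace f
  exact {}

/-- The spreading-out step. -/
theorem exists_open_cl_eq {Z W : Scheme.{u}} [IsReduced Z] [Nonempty Z] (g : Z ⟶ S) [LocallyOfFiniteType g]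
    [QuasiCompact g] (p : W ⟶ Z) [LocallyOfFiniteType p] [QuasiCompact p] (hp : BijPts p) :
    ∃ V : Z.Opens, (V : Set Z).Nonempty ∧ ∀ (W' : Scheme.{u}) (j : W' ⟶ W) [IsOpenImmersion j]
      [QuasiCompact (j ≫ p ≫ g)], Set.range j = p ⁻¹' (V : Set Z) →
      ∀ [QuasiCompact (V.ι ≫ g)], cl (j ≫ p ≫ g) = cl (V.ι ≫ g) := by
  have hZ := isNoetherian_of_ft g
  obtain ⟨C, hC⟩ : (irreducibleComponents Z).Nonempty := by
    obtain ⟨z⟩ := (inferInstance : Nonempty Z)
    exact ⟨irreducibleComponent z, irreducibleComponent_mem_irreducibleComponents z⟩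
  have hCirr : IsIrreducible C := hC.1
  have hCcl : IsClosed C := isClosed_of_mem_irreducibleComponents C hC
  obtain ⟨η, hη⟩ := QuasiSober.sober hCirr hCcl
  have hηC : closure {η} ∈ irreducibleComponents Z := by rw [hη.def]; exact hC
  have hfield := isField_stalk_of_closure_mem_irreducibleComponents Z η hηC
  obtain ⟨x, hx, -⟩ := hp _ hfield (Z.fromSpecStalk η)
  obtain ⟨V, hηV, σ, hσ1, hσ2⟩ := spread_out_of_isGermInjective' (𝟙 Z) p x (by
    rw [Category.comp_id]; exact hx)
  rw [Category.comp_id] at hσ2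
  refine ⟨V, ⟨η, hηV⟩, ?_⟩
  intro W' j _ _ hj _
  -- the section lands in `W'`
  have hrange : Set.range σ ⊆ Set.range j := by
    rintro _ ⟨v, rfl⟩
    rw [hj, Set.mem_preimage, ← Scheme.Hom.comp_apply, hσ2]
    exact v.2
  let τ : (V : Scheme.{u}) ⟶ W' := IsOpenImmersion.lift j σ hrange
  have hτ : τ ≫ j = σ := IsOpenImmersion.lift_fac _ _ _
  have hτ2 : τ ≫ j ≫ p = V.ι := by rw [← Category.assoc, hτ, hσ2]
  have himm : IsImmersion (τ ≫ (j ≫ p)) := by rw [hτ2]; infer_instance
  have himm' : IsImmersion τ := IsImmersion.of_comp τ (j ≫ p)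
  have hsurj : Function.Surjective τ := by
    intro w
    have hw : p (j w) ∈ V := by
      have : j w ∈ Set.range j := ⟨w, rfl⟩
      rw [hj] at this
      exact this
    -- the point as a field-valued point
    let y : Spec (W'.residueField w) ⟶ Z := W'.fromSpecResidueField w ≫ j ≫ p
    have hyV : Set.range y ⊆ Set.range V.ι := by
      rintro _ ⟨t, rfl⟩
      rw [Scheme.Opens.range_ι]
      change (W'.fromSpecResidueField w ≫ j ≫ p) t ∈ V
      rw [Scheme.Hom.comp_apply, Scheme.fromSpecResidueField_apply, Scheme.Hom.comp_apply]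
      exact hw
    let v : Spec (W'.residueField w) ⟶ (V : Scheme.{u}) := IsOpenImmersion.lift V.ι y hyV
    have hv : v ≫ V.ι = y := IsOpenImmersion.lift_fac _ _ _
    have huniq := (hp _ (Field.toIsField (W'.residueField w)) y).unique
      (y₁ := W'.fromSpecResidueField w ≫ j) (y₂ := v ≫ σ) (by rw [Category.assoc])
      (by rw [Category.assoc, hσ2, hv])
    have h2 : W'.fromSpecResidueField w = v ≫ τ := by
      rw [← cancel_mono j, huniq, Category.assoc, hτ]
    refine ⟨v (default : Spec (W'.residueField w)), ?_⟩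
    rw [← Scheme.Hom.comp_apply, ← h2, Scheme.fromSpecResidueField_apply]
  have h4 : τ ≫ j ≫ p ≫ g = V.ι ≫ g := by
    rw [← Category.assoc j, ← Category.assoc τ, hτ2]
  have h5 : QuasiCompact (τ ≫ j ≫ p ≫ g) := by rw [h4]; infer_instance
  have h6 : LocallyOfFiniteType (τ ≫ j ≫ p ≫ g) := by rw [h4]; infer_instance
  rw [← cl_immersion_surj (j ≫ p ≫ g) τ hsurj]
  exact cl_congr_hom h4


/-- **Invariance of the class under morphisms bijective on field-valued points.** -/
theorem cl_eq_of_bijPts {X Y : Scheme.{u}} (f : X ⟶ Y) (g : Y ⟶ S) [LocallyOfFiniteType g] [QuasiCompact g]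
    [LocallyOfFiniteType f] [QuasiCompact f] (h : BijPts f) : cl (f ≫ g) = cl g := by
  have hY := isNoetherian_of_ft g
  suffices H : ∀ (C : TopologicalSpace.Closeds Y) (Z : Scheme.{u}) (i : Z ⟶ Y) [IsClosedImmersion i],
      Set.range i = C → ∀ (W : Scheme.{u}) (p : W ⟶ Z) [LocallyOfFiniteType p] [QuasiCompact p],
      BijPts p → cl (p ≫ i ≫ g) = cl (i ≫ g) by
    have h1 := H ⊤ Y (𝟙 Y) (by rw [Set.range_eq_univ.mpr]; rfl; exact fun y => ⟨y, by simp⟩) X f h
    have e1 : cl (f ≫ 𝟙 Y ≫ g) = cl (f ≫ g) := cl_congr_hom (by simp)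
    have e2 : cl (𝟙 Y ≫ g) = cl g := cl_congr_hom (by simp)
    rw [← e1, h1, e2]
  intro C
  induction C using WellFoundedLT.induction with
  | ind C IH =>
  intro Z i _ hi W p _ _ hp
  -- reduce to `Z` reduced
  suffices H : ∀ (Z : Scheme.{u}) (i : Z ⟶ Y) [IsClosedImmersion i] [IsReduced Z],
      Set.range i = C → ∀ (W : Scheme.{u}) (p : W ⟶ Z) [LocallyOfFiniteType p] [QuasiCompact p],
      BijPts p → cl (p ≫ i ≫ g) = cl (i ≫ g) by
    have hred : IsReduced Z.nilradical.subscheme :=
      Groth.Agent.Ega1.ReducedSub.isReduced_subscheme_radical ⊥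
    have hsurj : Function.Surjective Z.nilradical.subschemeι := by
      rw [← Set.range_eq_univ, Scheme.IdealSheafData.range_subschemeι, Scheme.support_nilradical]
      rfl
    have h1 := H Z.nilradical.subscheme (Z.nilradical.subschemeι ≫ i)
      (by rw [← hi, Scheme.Hom.comp_base, TopCat.coe_comp, Set.range_comp, hsurj.range_eq, Set.image_univ])
      _ (pullback.snd p Z.nilradical.subschemeι) (hp.pullback_snd _)
    have h2 : Function.Surjective (pullback.fst p Z.nilradical.subschemeι) := by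
      rw [← Set.range_eq_univ, Scheme.Pullback.range_fst, hsurj.range_eq, Set.preimage_univ]
    rw [← cl_closed_surj (p ≫ i ≫ g) (pullback.fst p Z.nilradical.subschemeι) h2,
      ← cl_closed_surj (i ≫ g) Z.nilradical.subschemeι hsurj]
    have e1 : cl (pullback.fst p Z.nilradical.subschemeι ≫ p ≫ i ≫ g) =
        cl (pullback.snd p Z.nilradical.subschemeι ≫ (Z.nilradical.subschemeι ≫ i) ≫ g) := by
      apply cl_congr_hom
      rw [← Category.assoc, pullback.condition]
      simp only [Category.assoc]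
    have e2 : cl (Z.nilradical.subschemeι ≫ i ≫ g) = cl ((Z.nilradical.subschemeι ≫ i) ≫ g) :=
      cl_congr_hom (by simp only [Category.assoc])
    rw [e1, h1, e2]
  clear! Z W
  intro Z i _ _ hi W p _ _ hp
  rcases isEmpty_or_nonempty Z with hZ | hZ
  · have : IsEmpty W := Function.isEmpty p
    rw [cl_of_isEmpty, cl_of_isEmpty]
  have hZN := isNoetherian_of_ft (i ≫ g)
  have hWN := isNoetherian_of_ft (p ≫ i ≫ g)
  obtain ⟨V, hVne, hV⟩ := exists_open_cl_eq (i ≫ g) p hp
  let D : TopologicalSpace.Closeds Z := ⟨(V : Set Z)ᶜ, V.2.isClosed_compl⟩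
  let I := Scheme.IdealSheafData.vanishingIdeal D
  have hrI : Set.range I.subschemeι = (V : Set Z)ᶜ := by
    rw [Scheme.IdealSheafData.range_subschemeι, Scheme.IdealSheafData.coe_support_vanishingIdeal]
    rfl
  have hlt : (⟨Set.range (I.subschemeι ≫ i), (I.subschemeι ≫ i).isClosedEmbedding.isClosed_range⟩ :
      TopologicalSpace.Closeds Y) < C := by
    rw [lt_iff_le_and_ne]
    constructor
    · intro y hy
      obtain ⟨z, rfl⟩ := hy
      change _ ∈ (C : Set Y)
      rw [← hi]
      exact ⟨I.subschemeι z, by rw [Scheme.Hom.comp_apply]⟩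
    · intro he
      obtain ⟨z, hz⟩ := hVne
      have h1 : i z ∈ (C : Set Y) := by rw [← hi]; exact ⟨z, rfl⟩
      rw [← he] at h1
      obtain ⟨w, hw⟩ := h1
      rw [Scheme.Hom.comp_apply] at hw
      have h2 := i.isClosedEmbedding.injective hw
      have h3 : z ∈ Set.range I.subschemeι := ⟨w, h2⟩
      rw [hrI] at h3
      exact h3 hz
  have h1 := IH _ hlt I.subscheme (I.subschemeι ≫ i) rfl _ (pullback.snd p I.subschemeι) (hp.pullback_snd _)
  have h2 := hV _ (p ⁻¹ᵁ V).ι (by rw [Scheme.Opens.range_ι]; rfl)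
  rw [cl_open_closed (p ≫ i ≫ g) (pullback.fst p I.subschemeι) (p ⁻¹ᵁ V).ι (by
      rw [Scheme.Pullback.range_fst, hrI, Scheme.Opens.range_ι]; rfl),
    cl_open_closed (i ≫ g) I.subschemeι V.ι (by rw [hrI, Scheme.Opens.range_ι]), h2]
  congr 1
  have e1 : cl (pullback.fst p I.subschemeι ≫ p ≫ i ≫ g) =
      cl (pullback.snd p I.subschemeι ≫ (I.subschemeι ≫ i) ≫ g) := by
    apply cl_congr_hom
    rw [← Category.assoc, pullback.condition]
    simp only [Category.assoc]
  have e2 : cl (I.subschemeι ≫ i ≫ g) = cl ((I.subschemeι ≫ i) ≫ g) :=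
    cl_congr_hom (by simp only [Category.assoc])
  rw [e1, h1, e2]

end main

end K842.K0Basic
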