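import Groth.Agent.HilbZeta.K842.QFam

/-!
# Coordinate rings with one place at infinity
-/

set_option autoImplicit false
set_option backward.isDefEq.respectTransparency false
universe u v w

open TensorProduct

namespace K842.Pole

open K842.QFam

/-- A basis of the coordinate ring indexed by pole orders. -/
structure PD (k A : Type u) [Field k] [CommRing A] [Algebra k A] where
  /-- the pole orders -/
  Γ : Set ℕ
  fin : Γᶜ.Finite
  add : ∀ m ∈ Γ, ∀ n ∈ Γ, m + n ∈ Γ
  /-- the basis -/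
  b : Module.Basis Γ k A
  mul_lt : ∀ m n l : Γ, (m : ℕ) + n < l → b.repr (b m * b n) l = 0
  mul_eq : ∀ m n l : Γ, (m : ℕ) + n = l → b.repr (b m * b n) l = 1

section

variable {k A : Type u} [Field k] [CommRing A] [Algebra k A] (P : PD k A)
  {B C : Type u} [CommRing B] [Algebra k B] [CommRing C] [Algebra k C]

/-- the basis over `B`. -/
noncomputable def bas (B : Type u) [CommRing B] [Algebra k B] : Module.Basis P.Γ B (B ⊗[k] A) :=
  Algebra.TensorProduct.basis B P.b

open Classical in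
/-- coordinates. -/
noncomputable def co (n : ℕ) : B ⊗[k] A →ₗ[B] B := if h : n ∈ P.Γ then (bas P B).coord ⟨n, h⟩ else 0

open Classical in
/-- basis elements. -/
noncomputable def e (B : Type u) [CommRing B] [Algebra k B] (n : ℕ) : B ⊗[k] A :=
  if h : n ∈ P.Γ then bas P B ⟨n, h⟩ else 0

theorem co_of_mem {n : ℕ} (h : n ∈ P.Γ) (x : B ⊗[k] A) : co P n x = (bas P B).repr x ⟨n, h⟩ := by
  rw [co, dif_pos h]; rfl

theorem co_of_notMem {n : ℕ} (h : n ∉ P.Γ) (x : B ⊗[k] A) : co P n x = 0 := by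
  rw [co, dif_neg h]; rfl

theorem e_of_mem {n : ℕ} (h : n ∈ P.Γ) : e P B n = (1 : B) ⊗ₜ P.b ⟨n, h⟩ := by
  rw [e, dif_pos h, bas, Algebra.TensorProduct.basis_apply]

theorem e_of_notMem {n : ℕ} (h : n ∉ P.Γ) : e P B n = 0 := by rw [e, dif_neg h]

theorem bas_eq (n : P.Γ) : bas P B n = e P B n := by rw [e, dif_pos n.2]

open Classical in
theorem co_e (m n : ℕ) : co P m (e P B n) = if m = n ∧ n ∈ P.Γ then 1 else 0 := by
  by_cases hm : m ∈ P.Γ
  · by_cases hn : n ∈ P.Γ
    · rw [co_of_mem P hm, e, dif_pos hn, Module.Basis.repr_self, Finsupp.single_apply]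
      simp [hn, eq_comm]
    · rw [e_of_notMem P hn, map_zero]; simp [hn]
  · rw [co_of_notMem P hm]
    split_ifs with h
    · exact absurd (h.1 ▸ h.2) hm
    · rfl

theorem ext_co {x y : B ⊗[k] A} (h : ∀ n, co P n x = co P n y) : x = y := by
  apply (bas P B).repr.injective
  ext ⟨n, hn⟩
  rw [← co_of_mem, ← co_of_mem, h]

theorem co_tmul {n : ℕ} (h : n ∈ P.Γ) (c : B) (a : A) :
    co P n (c ⊗ₜ[k] a) = c * algebraMap k B (P.b.repr a ⟨n, h⟩) := by
  rw [co_of_mem P h, bas, Algebra.TensorProduct.basis_repr_tmul]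
  simp

theorem co_bc (φ : B →ₐ[k] C) (n : ℕ) (x : B ⊗[k] A) : co P n (bc φ x) = φ (co P n x) := by
  by_cases h : n ∈ P.Γ
  · induction x using TensorProduct.induction_on with
    | zero => simp
    | add x y hx hy => rw [map_add, map_add, map_add, map_add, hx, hy]
    | tmul c a => rw [bc_tmul, co_tmul P h, co_tmul P h, map_mul, AlgHom.commutes]
  · rw [co_of_notMem P h, co_of_notMem P h, map_zero]

theorem bc_e (φ : B →ₐ[k] C) (n : ℕ) : bc φ (e P B n) = e P C n := by
  classical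
  apply ext_co P
  intro m
  rw [co_bc, co_e, co_e]
  split_ifs <;> simp

theorem finite_co (x : B ⊗[k] A) : ∃ N, ∀ n, N ≤ n → co P n x = 0 := by
  refine ⟨((bas P B).repr x).support.sup (fun l => (l : ℕ) + 1), fun n hn => ?_⟩
  by_cases h : n ∈ P.Γ
  · rw [co_of_mem P h]
    by_contra hne
    have h1 : (⟨n, h⟩ : P.Γ) ∈ ((bas P B).repr x).support := Finsupp.mem_support_iff.2 hne
    have h2 := Finset.le_sup (f := fun l : P.Γ => (l : ℕ) + 1) h1
    simp only at h2
    omega
  · exact co_of_notMem P h _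

/-- elements of pole order `< n`. -/
noncomputable def fil (B : Type u) [CommRing B] [Algebra k B] (n : ℕ) : Submodule B (B ⊗[k] A) where
  carrier := {x | ∀ m, n ≤ m → co P m x = 0}
  add_mem' := by
    intro x y hx hy m hm
    rw [map_add, hx m hm, hy m hm, add_zero]
  zero_mem' := fun m _ => map_zero _
  smul_mem' := by
    intro c x hx m hm
    rw [map_smul, hx m hm, smul_zero]

theorem mem_fil {n : ℕ} {x : B ⊗[k] A} : x ∈ fil P B n ↔ ∀ m, n ≤ m → co P m x = 0 := Iff.rfl

theorem fil_mono {m n : ℕ} (h : m ≤ n) : fil P B m ≤ fil P B n :=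
  fun _ hx l hl => hx l (h.trans hl)

theorem mem_fil_of_co {n : ℕ} {x : B ⊗[k] A} (h : x ∈ fil P B (n + 1)) (h' : co P n x = 0) :
    x ∈ fil P B n := by
  intro m hm
  rcases hm.eq_or_lt with rfl | hm
  · exact h'
  · exact h m hm

theorem fil_zero : fil P B 0 = ⊥ := by
  rw [eq_bot_iff]
  intro x hx
  rw [Submodule.mem_bot]
  exact ext_co P fun n => by rw [hx n (Nat.zero_le _), map_zero]

theorem exists_mem_fil (x : B ⊗[k] A) : ∃ n, x ∈ fil P B n := finite_co P x

theorem e_mem (n : ℕ) : e P B n ∈ fil P B (n + 1) := by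
  classical
  intro m hm
  rw [co_e, if_neg]
  rintro ⟨rfl, -⟩
  omega

/-- Subtracting the leading term. -/
theorem sub_mem {n : ℕ} {x : B ⊗[k] A} (h : x ∈ fil P B (n + 1)) : x - co P n x • e P B n ∈ fil P B n := by
  classical
  apply mem_fil_of_co P
  · exact Submodule.sub_mem _ h (Submodule.smul_mem _ _ (e_mem P n))
  · rw [map_sub, map_smul, co_e]
    by_cases hn : n ∈ P.Γ
    · simp [hn]
    · simp [hn, co_of_notMem P hn]

theorem fil_le_of {n : ℕ} (S : Submodule B (B ⊗[k] A)) (h : ∀ m < n, e P B m ∈ S) : fil P B n ≤ S := by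
  induction n with
  | zero => rw [fil_zero]; exact bot_le
  | succ n ih =>
    intro x hx
    have h1 := ih (fun m hm => h m (by omega)) (sub_mem P hx)
    have h2 : co P n x • e P B n ∈ S := S.smul_mem _ (h n (by omega))
    have := S.add_mem h1 h2
    rwa [sub_add_cancel] at this

theorem co_e_mul_e_of_lt {m n l : ℕ} (h : m + n < l) : co P l (e P B m * e P B n) = 0 := by
  by_cases hm : m ∈ P.Γ
  · by_cases hn : n ∈ P.Γ
    · by_cases hl : l ∈ P.Γ
      · rw [e_of_mem P hm, e_of_mem P hn, Algebra.TensorProduct.tmul_mul_tmul, co_tmul P hl,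
          P.mul_lt ⟨m, hm⟩ ⟨n, hn⟩ ⟨l, hl⟩ h, map_zero, mul_zero]
      · exact co_of_notMem P hl _
    · rw [e_of_notMem P hn, mul_zero, map_zero]
  · rw [e_of_notMem P hm, zero_mul, map_zero]

theorem co_e_mul_e (m n : ℕ) : co P (m + n) (e P B m * e P B n) = co P m (e P B m) * co P n (e P B n) := by
  classical
  by_cases hm : m ∈ P.Γ
  · by_cases hn : n ∈ P.Γ
    · have hl := P.add m hm n hn
      rw [co_e, co_e, if_pos ⟨rfl, hm⟩, if_pos ⟨rfl, hn⟩, e_of_mem P hm, e_of_mem P hn,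
        Algebra.TensorProduct.tmul_mul_tmul, co_tmul P hl,
        P.mul_eq ⟨m, hm⟩ ⟨n, hn⟩ ⟨m + n, hl⟩ rfl, map_one, mul_one]
    · rw [e_of_notMem P hn, mul_zero, map_zero, map_zero, mul_zero]
  · rw [e_of_notMem P hm, zero_mul, map_zero, map_zero, zero_mul]

theorem e_mul_e_mem (m n : ℕ) : e P B m * e P B n ∈ fil P B (m + n + 1) :=
  fun l hl => co_e_mul_e_of_lt P (by omega)

theorem mul_mem_fil {a b : ℕ} {x y : B ⊗[k] A} (hx : x ∈ fil P B (a + 1)) (hy : y ∈ fil P B b) :
    x * y ∈ fil P B (a + b) := by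
  -- first for `x` a basis element
  have h1 : ∀ m ≤ a, e P B m * y ∈ fil P B (a + b) := by
    intro m hm
    have h2 : fil P B b ≤ (fil P B (a + b)).comap (LinearMap.mulLeft B (e P B m)) := by
      apply fil_le_of P
      intro l hl
      exact fil_mono P (by omega) (e_mul_e_mem P m l)
    exact h2 hy
  have h2 : fil P B (a + 1) ≤ (fil P B (a + b)).comap (LinearMap.mulRight B y) := by
    apply fil_le_of P
    intro l hl
    exact h1 l (by omega)
  exact h2 hx

theorem mul_mem_fil' {a b : ℕ} {x y : B ⊗[k] A} (hx : x ∈ fil P B a) (hy : y ∈ fil P B (b + 1)) :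
    x * y ∈ fil P B (a + b) := by
  rw [mul_comm, add_comm a b]
  exact mul_mem_fil P hy hx

theorem mul_mem_fil_succ {a b : ℕ} {x y : B ⊗[k] A} (hx : x ∈ fil P B (a + 1)) (hy : y ∈ fil P B (b + 1)) :
    x * y ∈ fil P B (a + b + 1) := mul_mem_fil (a := a) (b := b + 1) P hx hy

/-- The leading coefficient of a product. -/
theorem co_mul {a b : ℕ} {x y : B ⊗[k] A} (hx : x ∈ fil P B (a + 1)) (hy : y ∈ fil P B (b + 1)) :
    co P (a + b) (x * y) = co P a x * co P b y := by
  have hx' := sub_mem P hx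
  have hy' := sub_mem P hy
  have h1 : x * y = (co P a x * co P b y) • (e P B a * e P B b) + ((x - co P a x • e P B a) * y +
      (co P a x • e P B a) * (y - co P b y • e P B b)) := by
    rw [sub_mul, mul_sub, smul_mul_smul_comm]
    ring
  have h2 : co P (a + b) ((x - co P a x • e P B a) * y) = 0 := mul_mem_fil' P hx' hy _ le_rfl
  have h3 : co P (a + b) ((co P a x • e P B a) * (y - co P b y • e P B b)) = 0 :=
    mul_mem_fil P (Submodule.smul_mem _ _ (e_mem P a)) hy' _ le_rfl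
  rw [h1, map_add, map_add, h2, h3, add_zero, add_zero, map_smul, co_e_mul_e, smul_eq_mul]
  by_cases ha : a ∈ P.Γ
  · by_cases hb : b ∈ P.Γ
    · classical
      rw [co_e, co_e, if_pos ⟨rfl, ha⟩, if_pos ⟨rfl, hb⟩, mul_one, mul_one]
    · rw [co_of_notMem P hb]; ring
  · rw [co_of_notMem P ha]; ring

/-- monic elements of a given pole order. -/
def Mon (n : ℕ) (x : B ⊗[k] A) : Prop := n ∈ P.Γ ∧ co P n x = 1 ∧ x ∈ fil P B (n + 1)

theorem mon_e {n : ℕ} (h : n ∈ P.Γ) : Mon P n (e P B n) := by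
  classical
  exact ⟨h, by rw [co_e, if_pos ⟨rfl, h⟩], e_mem P n⟩

variable {P}

theorem Mon.mul {m n : ℕ} {x y : B ⊗[k] A} (hx : Mon P m x) (hy : Mon P n y) : Mon P (m + n) (x * y) :=
  ⟨P.add m hx.1 n hy.1, by rw [co_mul P hx.2.2 hy.2.2, hx.2.1, hy.2.1, mul_one],
    mul_mem_fil_succ P hx.2.2 hy.2.2⟩

theorem Mon.bc {n : ℕ} {x : B ⊗[k] A} (hx : Mon P n x) (φ : B →ₐ[k] C) : Mon P n (QFam.bc φ x) :=
  ⟨hx.1, by rw [co_bc, hx.2.1, map_one], fun m hm => by rw [co_bc, hx.2.2 m hm, map_zero]⟩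

theorem Mon.add_fil {n : ℕ} {x y : B ⊗[k] A} (hx : Mon P n x) (hy : y ∈ fil P B n) : Mon P n (x + y) :=
  ⟨hx.1, by rw [map_add, hx.2.1, hy n le_rfl, add_zero],
    Submodule.add_mem _ hx.2.2 (fil_mono P (Nat.le_succ n) hy)⟩

theorem Mon.sub_mem_fil {n : ℕ} {x y : B ⊗[k] A} (hx : Mon P n x) (hy : Mon P n y) : x - y ∈ fil P B n := by
  apply mem_fil_of_co P
  · exact Submodule.sub_mem _ hx.2.2 hy.2.2
  · rw [map_sub, hx.2.1, hy.2.1, sub_self]

theorem Mon.eq_of {m n : ℕ} [Nontrivial B] {x : B ⊗[k] A} (hx : Mon P m x) (hy : Mon P n x) : m = n := by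
  rcases lt_trichotomy m n with h | h | h
  · exact absurd (hx.2.2 n h) (by rw [hy.2.1]; exact one_ne_zero)
  · exact h
  · exact absurd (hy.2.2 m h) (by rw [hx.2.1]; exact one_ne_zero)

theorem Mon.ne_zero {n : ℕ} [Nontrivial B] {x : B ⊗[k] A} (hx : Mon P n x) : x ≠ 0 := by
  rintro rfl
  have := hx.2.1
  rw [map_zero] at this
  exact zero_ne_one this

variable (P)

/-- leading terms of nonzero elements. -/
theorem exists_lead {x : B ⊗[k] A} (hx : x ≠ 0) : ∃ n ∈ P.Γ, co P n x ≠ 0 ∧ x ∈ fil P B (n + 1) := by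
  classical
  obtain ⟨N, hN⟩ := exists_mem_fil P x
  induction N with
  | zero =>
    rw [fil_zero, Submodule.mem_bot] at hN
    exact absurd hN hx
  | succ N ih =>
    by_cases h : co P N x = 0
    · exact ih (mem_fil_of_co P hN h)
    · refine ⟨N, ?_, h, hN⟩
      by_contra h'
      exact h (co_of_notMem P h' _)

/-- Cancellation by monic elements. -/
theorem mul_eq_zero_of_mon {n : ℕ} {x y : B ⊗[k] A} (hx : Mon P n x) (h : x * y = 0) : y = 0 := by
  by_contra hy
  obtain ⟨m, -, h1, h2⟩ := exists_lead P hy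
  apply h1
  have := co_mul P hx.2.2 h2
  rwa [h, map_zero, hx.2.1, one_mul, eq_comm] at this

theorem mem_nonZeroDivisors_of_mon {n : ℕ} {x : B ⊗[k] A} (hx : Mon P n x) :
    x ∈ nonZeroDivisors (B ⊗[k] A) := by
  rw [mem_nonZeroDivisors_iff]
  exact ⟨fun y hy => mul_eq_zero_of_mon P hx hy, fun y hy => mul_eq_zero_of_mon P hx (by rwa [mul_comm])⟩

include P in
theorem isDomain_tensor [IsDomain B] : IsDomain (B ⊗[k] A) := by
  have : Nontrivial (B ⊗[k] A) := by
    by_contra h
    rw [not_nontrivial_iff_subsingleton] at h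
    obtain ⟨n, hn⟩ : ∃ n, n ∈ P.Γ := by
      by_contra h'
      push_neg at h'
      have h2 : P.Γᶜ = Set.univ := by ext n; simp [h' n]
      exact Set.infinite_univ (α := ℕ) (h2 ▸ P.fin)
    exact (mon_e (B := B) P hn).ne_zero (Subsingleton.elim _ _)
  have : NoZeroDivisors (B ⊗[k] A) := by
    constructor
    intro x y hxy
    by_contra h
    push_neg at h
    obtain ⟨m, -, h1, h2⟩ := exists_lead P h.1
    obtain ⟨n, -, h3, h4⟩ := exists_lead P h.2
    have := co_mul P h2 h4
    rw [hxy, map_zero] at this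
    exact mul_ne_zero h1 h3 this.symm
  exact NoZeroDivisors.to_isDomain _

/-- conductor -/
theorem exists_conductor : ∃ c, ∀ n, c ≤ n → n ∈ P.Γ := by
  obtain ⟨c, hc⟩ := P.fin.bddAbove
  refine ⟨c + 1, fun n hn => ?_⟩
  by_contra h
  have := hc h
  omega

/-- Division with remainder by a monic element. -/
theorem exists_div {c : ℕ} (hc : ∀ n, c ≤ n → n ∈ P.Γ) {m : ℕ} {v : B ⊗[k] A} (hv : Mon P m v)
    (x : B ⊗[k] A) : ∃ y, x - y * v ∈ fil P B (m + c) := by
  obtain ⟨N, hN⟩ := exists_mem_fil P x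
  induction N generalizing x with
  | zero => exact ⟨0, by rw [zero_mul, sub_zero]; exact fil_mono P (Nat.zero_le _) hN⟩
  | succ N ih =>
    by_cases h : N < m + c
    · exact ⟨0, by rw [zero_mul, sub_zero]; exact fil_mono P (by omega) hN⟩
    · have hΓ : N - m ∈ P.Γ := hc _ (by omega)
      have h1 : Mon P N (e P B (N - m) * v) := by
        have := (mon_e (B := B) P hΓ).mul hv
        rwa [Nat.sub_add_cancel (by omega)] at this
      have h2 : x - co P N x • (e P B (N - m) * v) ∈ fil P B N := by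
        apply mem_fil_of_co P
        · exact Submodule.sub_mem _ hN (Submodule.smul_mem _ _ h1.2.2)
        · rw [map_sub, map_smul, h1.2.1, smul_eq_mul, mul_one, sub_self]
      obtain ⟨y, hy⟩ := ih _ h2
      refine ⟨y + co P N x • e P B (N - m), ?_⟩
      have h3 : x - (y + co P N x • e P B (N - m)) * v =
          x - co P N x • (e P B (N - m) * v) - y * v := by
        rw [add_mul, smul_mul_assoc]; ring
      rw [h3]; exact hy

/-- The quotient by an ideal containing a monic element is a finite module. -/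
theorem finite_quot {m : ℕ} {v : B ⊗[k] A} (hv : Mon P m v) (J : Ideal (B ⊗[k] A)) (hJ : v ∈ J) :
    Module.Finite B ((B ⊗[k] A) ⧸ J) := by
  obtain ⟨c, hc⟩ := exists_conductor P
  refine ⟨(Submodule.fg_def).2 ⟨(fun n => Ideal.Quotient.mk J (e P B n)) '' (Set.Iio (m + c)),
    (Set.finite_Iio _).image _, ?_⟩⟩
  rw [eq_top_iff]
  rintro x -
  obtain ⟨x, rfl⟩ := Ideal.Quotient.mk_surjective x
  obtain ⟨y, hy⟩ := exists_div P hc hv x
  have h1 : Ideal.Quotient.mk J x = Ideal.Quotient.mk J (x - y * v) := by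
    rw [Ideal.Quotient.eq, sub_sub_cancel]
    exact J.mul_mem_left _ hJ
  rw [h1]
  have h2 : fil P B (m + c) ≤ (Submodule.span B ((fun n => Ideal.Quotient.mk J (e P B n)) ''
      (Set.Iio (m + c)))).comap (Ideal.Quotient.mkₐ B J).toLinearMap := by
    apply fil_le_of P
    intro l hl
    exact Submodule.subset_span ⟨l, hl, rfl⟩
  exact h2 hy

end

end K842.Pole
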