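import Groth.Agent.HilbZeta.K842.PoleLC
import Mathlib.RingTheory.DiscreteValuationRing.Basic

/-!
# The leading coefficient relation attached to a discrete valuation ring
-/

set_option autoImplicit false
set_option backward.isDefEq.respectTransparency false
universe u v w

namespace K842.PoleDvr

open K842.Pole K842.PoleLC IsLocalRing

section

variable {k A O K : Type u} [Field k] [CommRing A] [Algebra k A] [CommRing O] [IsDomain O]
  [IsDiscreteValuationRing O] [Algebra k O] [Field K] [Algebra k K] [Algebra A K] [Algebra O K]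
  [IsScalarTower k A K] [IsScalarTower k O K] [IsFractionRing O K] [IsFractionRing A K]

/-- `k` is the residue field. -/
def ResK (k O : Type u) [Field k] [CommRing O] [IsDomain O] [IsDiscreteValuationRing O] [Algebra k O] : Prop :=
  ∀ o : O, ∃ c : k, o - algebraMap k O c ∈ maximalIdeal O

theorem injOK {x y : O} (h : algebraMap O K x = algebraMap O K y) : x = y :=
  IsFractionRing.injective O K h

theorem injAK {x y : A} (h : algebraMap A K x = algebraMap A K y) : x = y :=
  IsFractionRing.injective A K h

theorem res_unique {o : O} {c d : k} (hc : o - algebraMap k O c ∈ maximalIdeal O)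
    (hd : o - algebraMap k O d ∈ maximalIdeal O) : c = d := by
  by_contra hne
  have h1 : algebraMap k O (c - d) ∈ maximalIdeal O := by
    have := (maximalIdeal O).sub_mem hd hc
    rw [map_sub]
    convert this using 1
    ring
  have h2 : IsUnit (algebraMap k O (c - d)) := (IsUnit.mk0 _ (sub_ne_zero.2 hne)).map _
  exact (mem_maximalIdeal _).1 h1 h2

variable (A K) in
/-- The relation. -/
def Rel (t : O) (n : ℕ) (a : A) (c : k) : Prop :=
  ∃ o : O, algebraMap O K o = (algebraMap O K t) ^ n * algebraMap A K a ∧
    o - algebraMap k O c ∈ maximalIdeal O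

/-- The relation with all its properties. -/
def lc (hres : ResK k O) (hconst : ∀ (a : A) (o : O), algebraMap A K a = algebraMap O K o →
    ∃ c : k, algebraMap k A c = a) (t : O) (ht : Irreducible t) : LC k A where
  R := Rel A K t
  uniq := by
    rintro n a c c' ⟨o, ho, hc⟩ ⟨o', ho', hc'⟩
    have : o = o' := injOK (K := K) (ho.trans ho'.symm)
    subst this
    exact res_unique hc hc'
  add := by
    rintro n a b c d ⟨o, ho, hc⟩ ⟨o', ho', hc'⟩
    refine ⟨o + o', ?_, ?_⟩
    · rw [map_add, ho, ho', map_add]; ring
    · rw [map_add]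
      have := (maximalIdeal O).add_mem hc hc'
      convert this using 1
      ring
  smul := by
    rintro n a c r ⟨o, ho, hc⟩
    refine ⟨algebraMap k O r * o, ?_, ?_⟩
    · rw [map_mul, ho, Algebra.smul_def, map_mul, ← IsScalarTower.algebraMap_apply,
        ← IsScalarTower.algebraMap_apply]
      ring
    · have := (maximalIdeal O).mul_mem_left (algebraMap k O r) hc
      rw [map_mul]
      convert this using 1
      ring
  mul := by
    rintro m n a b c d ⟨o, ho, hc⟩ ⟨o', ho', hc'⟩
    refine ⟨o * o', ?_, ?_⟩
    · rw [map_mul, ho, ho', map_mul, pow_add]; ring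
    · rw [map_mul]
      have h1 := (maximalIdeal O).mul_mem_left o hc'
      have h2 := (maximalIdeal O).mul_mem_left (algebraMap k O d) hc
      have := (maximalIdeal O).add_mem h1 h2
      convert this using 1
      ring
  up := by
    rintro n a c ⟨o, ho, hc⟩
    refine ⟨t * o, ?_, ?_⟩
    · rw [map_mul, ho, pow_succ]; ring
    · rw [map_zero, sub_zero]
      exact (maximalIdeal O).mul_mem_right _ ((mem_maximalIdeal _).2 ht.not_isUnit)
  down := by
    rintro n a ⟨o, ho, hc⟩
    rw [map_zero, sub_zero, (IsDiscreteValuationRing.irreducible_iff_uniformizer t).1 ht,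
      Ideal.mem_span_singleton'] at hc
    obtain ⟨o', ho'⟩ := hc
    obtain ⟨c, hc⟩ := hres o'
    refine ⟨c, o', ?_, hc⟩
    have h0 : algebraMap O K t ≠ 0 := by
      intro h
      apply ht.ne_zero
      exact injOK (K := K) (by rw [h, map_zero])
    apply mul_left_cancel₀ h0
    rw [← map_mul, mul_comm t o', ho', ho, pow_succ]
    ring
  zero_const := by
    rintro a c ⟨o, ho, hc⟩
    rw [pow_zero, one_mul] at ho
    obtain ⟨c', hc'⟩ := hconst a o ho.symm
    have h1 : o = algebraMap k O c' := injOK (K := K) (by
      rw [ho, ← hc', ← IsScalarTower.algebraMap_apply, ← IsScalarTower.algebraMap_apply])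
    have h2 : c = c' := res_unique hc (by rw [h1, sub_self]; exact Submodule.zero_mem _)
    rw [h2, hc']
  one := ⟨1, by rw [map_one, map_one, pow_zero, one_mul], by
    rw [map_one, sub_self]; exact Submodule.zero_mem _⟩
  ex := by
    intro a
    obtain ⟨x, y, hy, hxy⟩ := IsFractionRing.div_surjective O (algebraMap A K a)
    have hy0 : y ≠ 0 := nonZeroDivisors.ne_zero hy
    obtain ⟨n, v, hv⟩ := IsDiscreteValuationRing.eq_unit_mul_pow_irreducible hy0 ht
    let o : O := (v⁻¹ : Oˣ) * x
    obtain ⟨c, hc⟩ := hres o
    refine ⟨n, c, o, ?_, hc⟩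
    have hyK : algebraMap O K y ≠ 0 := by
      intro h
      exact hy0 (injOK (K := K) (by rw [h, map_zero]))
    rw [← hxy, mul_div_assoc', eq_div_iff hyK, ← map_mul, ← map_pow, ← map_mul]
    congr 1
    rw [hv]
    have : ((v⁻¹ : Oˣ) : O) * (v : O) = 1 := by simp
    linear_combination (x * t ^ n) * this
  consec := by
    have hR0 : ∀ {n : ℕ} {a : A} {c c' : k}, Rel A K t n a c → Rel A K t n a c' → c = c' := by
      rintro n a c c' ⟨o, ho, hc⟩ ⟨o', ho', hc'⟩
      have : o = o' := injOK (K := K) (ho.trans ho'.symm)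
      subst this
      exact res_unique hc hc'
    obtain ⟨x, y, hy, hxy⟩ := IsFractionRing.div_surjective A (algebraMap O K t)
    have htK : algebraMap O K t ≠ 0 := by
      intro h
      exact ht.ne_zero (injOK (K := K) (by rw [h, map_zero]))
    have hyK : algebraMap A K y ≠ 0 := by
      intro h
      rw [h, div_zero] at hxy
      exact htK hxy.symm
    have hxK : algebraMap A K x = algebraMap O K t * algebraMap A K y := by
      rw [← hxy, div_mul_cancel₀ _ hyK]
    -- the pole order of `y`
    have hdown : ∀ {n : ℕ}, Rel A K t (n + 1) y (0 : k) → ∃ c : k, Rel A K t n y c := by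
      rintro n ⟨o, ho, hc⟩
      rw [map_zero, sub_zero, (IsDiscreteValuationRing.irreducible_iff_uniformizer t).1 ht,
        Ideal.mem_span_singleton'] at hc
      obtain ⟨o', ho'⟩ := hc
      obtain ⟨c, hc⟩ := hres o'
      refine ⟨c, o', ?_, hc⟩
      apply mul_left_cancel₀ htK
      rw [← map_mul, mul_comm t o', ho', ho, pow_succ]
      ring
    have hex : ∃ n, ∃ c : k, Rel A K t n y c := by
      obtain ⟨x', y', hy', hxy'⟩ := IsFractionRing.div_surjective O (algebraMap A K y)
      have hy0 : y' ≠ 0 := nonZeroDivisors.ne_zero hy'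
      obtain ⟨n, v, hv⟩ := IsDiscreteValuationRing.eq_unit_mul_pow_irreducible hy0 ht
      let o : O := (v⁻¹ : Oˣ) * x'
      obtain ⟨c, hc⟩ := hres o
      refine ⟨n, c, o, ?_, hc⟩
      have hyK : algebraMap O K y' ≠ 0 := by
        intro h
        exact hy0 (injOK (K := K) (by rw [h, map_zero]))
      rw [← hxy', mul_div_assoc', eq_div_iff hyK, ← map_mul, ← map_pow, ← map_mul]
      congr 1
      rw [hv]
      have : ((v⁻¹ : Oˣ) : O) * (v : O) = 1 := by simp
      linear_combination (x' * t ^ n) * this
    classical
    let N := Nat.find hex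
    obtain ⟨c, hc⟩ : ∃ c : k, Rel A K t N y c := Nat.find_spec hex
    have hmin : ∀ m < N, ¬ ∃ c : k, Rel A K t m y c := fun m hm => Nat.find_min hex hm
    rcases Nat.eq_zero_or_pos N with h0 | h0
    · exfalso
      rw [h0] at hc
      obtain ⟨o, ho, hc⟩ := hc
      rw [pow_zero, one_mul] at ho
      obtain ⟨e, he⟩ := hconst x (t * o) (by rw [hxK, map_mul, ho])
      have h1 : t * o = algebraMap k O e := injOK (K := K) (by
        rw [map_mul, ho, ← hxK, ← he, ← IsScalarTower.algebraMap_apply, ← IsScalarTower.algebraMap_apply])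
      have h2 : t * o ∈ maximalIdeal O :=
        (maximalIdeal O).mul_mem_right _ ((mem_maximalIdeal _).2 ht.not_isUnit)
      have h3 : (0 : k) = e := res_unique (o := t * o) (by rw [map_zero, sub_zero]; exact h2)
        (by rw [h1, sub_self]; exact Submodule.zero_mem _)
      rw [← h3, map_zero] at he
      rw [← he, map_zero] at hxK
      exact (mul_ne_zero htK hyK) hxK.symm
    · obtain ⟨m, hm⟩ := Nat.exists_eq_succ_of_ne_zero h0.ne'
      rw [Nat.succ_eq_add_one] at hm
      rw [hm] at hc
      have hc0 : c ≠ 0 := by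
        rintro rfl
        exact hmin m (by omega) (hdown hc)
      have hx : Rel A K t m x c := by
        obtain ⟨o, ho, hc⟩ := hc
        refine ⟨o, ?_, hc⟩
        rw [ho, hxK, pow_succ]; ring
      have hsm : ∀ {n : ℕ} {a : A}, Rel A K t n a c → Rel A K t n (c⁻¹ • a) (1 : k) := by
        rintro n a ⟨o, ho, hc⟩
        refine ⟨algebraMap k O c⁻¹ * o, ?_, ?_⟩
        · rw [map_mul, ho, Algebra.smul_def, map_mul, ← IsScalarTower.algebraMap_apply,
            ← IsScalarTower.algebraMap_apply]
          ring
        · have := (maximalIdeal O).mul_mem_left (algebraMap k O c⁻¹) hc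
          have h1 : algebraMap k O c⁻¹ * algebraMap k O c = 1 := by
            rw [← map_mul, inv_mul_cancel₀ hc0, map_one]
          rw [mul_sub, h1] at this
          rwa [map_one]
      exact ⟨m, c⁻¹ • x, c⁻¹ • y, hsm hx, hsm hc⟩

/-- The pole data of a ring with one place at infinity. -/
theorem nonempty_pd (hres : ResK k O) (hconst : ∀ (a : A) (o : O), algebraMap A K a = algebraMap O K o →
    ∃ c : k, algebraMap k A c = a) : Nonempty (PD k A) := by
  obtain ⟨t, ht⟩ := IsDiscreteValuationRing.exists_irreducible O
  exact ⟨pd (lc (K := K) hres hconst t ht)⟩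

end

end K842.PoleDvr
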