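import Groth.Agent.HilbZeta.K842.PoleGood

/-!
# The residual families
-/

set_option autoImplicit false
set_option backward.isDefEq.respectTransparency false
universe u v w

open TensorProduct CategoryTheory AlgebraicGeometry

namespace K842.PoleFam

open K842.QFam K842.Pole K842.PoleField K842.Strata K842.PoleGen K842.PoleGood

variable {k A : Type u} [Field k] [CommRing A] [Algebra k A] {P : PD k A} {c n : ℕ} {Q : Piece k A n}
  (G : GoodData P c Q)

section fld

variable {K : Type u} [Field K] [Algebra k K] (φ : Q.B →ₐ[k] K)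

theorem finite_finrank : Module.Finite K ((K ⊗[k] A) ⧸ Q.I.map (bc φ)) ∧
    Module.finrank K ((K ⊗[k] A) ⧸ Q.I.map (bc φ)) = n :=
  (isIdl_iff_of_field _).1 (Q.isIdl.map φ)

theorem eq_of_card {Γ S T : Set ℕ} (hS : S ⊆ Γ) (hT : T ⊆ Γ) (hST : S ⊆ T)
    (hf : (Γ \ S).Finite) (h : (Γ \ S).ncard = (Γ \ T).ncard) : T = S := by
  have h1 : Γ \ T = Γ \ S := Set.eq_of_subset_of_ncard_le (Set.diff_subset_diff_right hST) h.le hf
  apply Set.Subset.antisymm _ hST
  intro x hx
  by_contra hxS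
  have h2 : x ∈ Γ \ S := ⟨hT hx, hxS⟩
  rw [← h1] at h2
  exact h2.2 hx

include G in
theorem dl_eq : dl P (Q.I.map (bc φ)) = G.Δ := by
  apply eq_of_card G.sub (dl_subset P _)
  · intro m hm
    obtain ⟨w, hw, hw'⟩ := G.ex m hm
    exact ⟨bc φ w, Ideal.mem_map_of_mem _ hw, hw'.bc φ⟩
  · exact G.fin
  · rw [G.card, ← finrank_eq P, (finite_finrank φ).2]

theorem mul_map : G.J.map (bc φ) * Q.I.map (bc φ) = Ideal.span {bc φ G.v} := by
  rw [← Ideal.map_mul, G.mul, Ideal.map_span, Set.image_singleton]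

variable [IsDedekindDomain (K ⊗[k] A)]

theorem dl_eq' : dl P (G.J.map (bc φ)) = G.Δ' := by
  apply eq_of_card G.sub' (dl_subset P _)
  · intro m hm
    obtain ⟨w, hw, hw'⟩ := G.ex' m hm
    exact ⟨bc φ w, Ideal.mem_map_of_mem _ hw, hw'.bc φ⟩
  · exact G.fin'
  · rw [G.card', ← finrank_eq P]
    have h1 := (finrank_of_mul_eq P (G.mon.bc φ) (mul_map G φ)).2.2
    rw [(finite_finrank φ).2] at h1
    omega

end fld

/-- index type of the coefficients. -/
def Idx (d : ℕ) : Type := {l : ℕ // l ∈ G.Δ ∧ l < n + d}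

instance (d : ℕ) : Finite (Idx G d) :=
  Finite.of_injective (fun x : Idx G d => (⟨x.1, x.2.2⟩ : Fin (n + d))) (fun x y h => by
    have h1 := congrArg Fin.val h
    exact Subtype.ext h1)

noncomputable instance (d : ℕ) : Fintype (Idx G d) := Fintype.ofFinite _

theorem mem_Δ (hc : ∀ n, c ≤ n → n ∈ P.Γ) {m : ℕ} (hm : gap P + n + c ≤ m) : m ∈ G.Δ := by
  rw [← dl_eq G (toL Q.B)]
  exact mem_dl_of_le P hc _ (finite_finrank _).1 (by rw [(finite_finrank _).2]; exact hm)

theorem card_idx (hc : ∀ n, c ≤ n → n ∈ P.Γ) {d : ℕ} (hd : gap P + c ≤ d) :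
    Fintype.card (Idx G d) = d - gap P := by
  have h1 := ncard_dl_inter P hc (Q.I.map (bc (toL Q.B))) (finite_finrank _).1
    (m := n + d) (by rw [(finite_finrank _).2]; omega)
  rw [dl_eq G, (finite_finrank _).2] at h1
  have h2 : Fintype.card (Idx G d) = (G.Δ ∩ Set.Iio (n + d)).ncard := by
    rw [← Nat.card_eq_fintype_card]
    rfl
  rw [h2, h1]
  omega

open Classical in
/-- chosen monic elements. -/
noncomputable def wt (m : ℕ) : Q.B ⊗[k] A := if h : m ∈ G.Δ then (G.ex m h).choose else 0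

theorem wt_mem {m : ℕ} (h : m ∈ G.Δ) : wt G m ∈ Q.I := by
  rw [wt, dif_pos h]; exact (G.ex m h).choose_spec.1

theorem wt_mon {m : ℕ} (h : m ∈ G.Δ) : Mon P m (wt G m) := by
  rw [wt, dif_pos h]; exact (G.ex m h).choose_spec.2

/-- the base of the residual family. -/
abbrev TT (d : ℕ) : Type u := MvPolynomial (Idx G d) Q.B

/-- the structure map. -/
noncomputable abbrev CC (d : ℕ) : Q.B →ₐ[k] TT G d := IsScalarTower.toAlgHom k Q.B (TT G d)

/-- the monic element. -/
noncomputable def fT (d : ℕ) : TT G d ⊗[k] A :=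
  bc (CC G d) (wt G (n + d)) + ∑ l : Idx G d, (MvPolynomial.X l : TT G d) • bc (CC G d) (wt G l.1)

theorem bc_fT {d : ℕ} {K : Type u} [CommRing K] [Algebra k K] (Φ : TT G d →ₐ[k] K) :
    bc Φ (fT G d) = bc (Φ.comp (CC G d)) (wt G (n + d)) +
      ∑ l : Idx G d, Φ (MvPolynomial.X l) • bc (Φ.comp (CC G d)) (wt G l.1) := by
  rw [fT, map_add, bc_comp', map_sum]
  congr 1
  refine Finset.sum_congr rfl fun l _ => ?_
  rw [bc_smul, bc_comp']

theorem mon_fT (hc : ∀ n, c ≤ n → n ∈ P.Γ) {d : ℕ} (hd : gap P + c ≤ d) : Mon P (n + d) (fT G d) := by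
  apply Mon.add_fil ((wt_mon G (mem_Δ G hc (by omega))).bc _)
  apply Submodule.sum_mem
  intro l _
  apply Submodule.smul_mem
  exact fil_mono P (by have := l.2.2; omega) ((wt_mon G l.2.1).bc _).2.2

theorem fT_mem (hc : ∀ n, c ≤ n → n ∈ P.Γ) {d : ℕ} (hd : gap P + c ≤ d) :
    fT G d ∈ Q.I.map (bc (CC G d)) := by
  apply Ideal.add_mem _ (Ideal.mem_map_of_mem _ (wt_mem G (mem_Δ G hc (by omega))))
  apply Submodule.sum_mem
  intro l _
  exact Submodule.smul_of_tower_mem _ _ (Ideal.mem_map_of_mem _ (wt_mem G l.2.1))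

/-- the residual ideal. -/
noncomputable def JT (d : ℕ) : Ideal (TT G d ⊗[k] A) where
  carrier := {x | x * bc (CC G d) G.v ∈ Ideal.span {fT G d} * G.J.map (bc (CC G d))}
  add_mem' := by
    intro x y hx hy
    rw [Set.mem_setOf_eq, add_mul]
    exact Ideal.add_mem _ hx hy
  zero_mem' := by rw [Set.mem_setOf_eq, zero_mul]; exact Ideal.zero_mem _
  smul_mem' := by
    intro r x hx
    rw [Set.mem_setOf_eq, smul_eq_mul, mul_assoc]
    exact Ideal.mul_mem_left _ _ hx

theorem mem_JT {d : ℕ} {x : TT G d ⊗[k] A} :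
    x ∈ JT G d ↔ x * bc (CC G d) G.v ∈ Ideal.span {fT G d} * G.J.map (bc (CC G d)) := Iff.rfl

theorem span_mul_JT (hc : ∀ n, c ≤ n → n ∈ P.Γ) {d : ℕ} (hd : gap P + c ≤ d) :
    Ideal.span {bc (CC G d) G.v} * JT G d = Ideal.span {fT G d} * G.J.map (bc (CC G d)) := by
  apply le_antisymm
  · rw [Ideal.mul_le]
    intro y hy x hx
    obtain ⟨a, rfl⟩ := Ideal.mem_span_singleton'.1 hy
    rw [mem_JT] at hx
    have : a * bc (CC G d) G.v * x = a * (x * bc (CC G d) G.v) := by ring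
    rw [this]
    exact Ideal.mul_mem_left _ _ hx
  · intro y hy
    have h1 : y ∈ Ideal.span {bc (CC G d) G.v} := by
      have h2 : Ideal.span {fT G d} * G.J.map (bc (CC G d)) ≤ Ideal.span {bc (CC G d) G.v} := by
        rw [Ideal.mul_comm, ← Set.image_singleton, ← Ideal.map_span, ← G.mul, Ideal.map_mul]
        apply Ideal.mul_mono le_rfl
        rw [Ideal.span_singleton_le_iff_mem]
        exact fT_mem G hc hd
      exact h2 hy
    obtain ⟨x, rfl⟩ := Ideal.mem_span_singleton'.1 h1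
    rw [mul_comm x]
    exact Ideal.mul_mem_mul (Ideal.mem_span_singleton_self _) ((mem_JT G).2 hy)

theorem span_mul_map_JT (hc : ∀ n, c ≤ n → n ∈ P.Γ) {d : ℕ} (hd : gap P + c ≤ d) {K : Type u} [CommRing K]
    [Algebra k K] (Φ : TT G d →ₐ[k] K) :
    Ideal.span {bc (Φ.comp (CC G d)) G.v} * (JT G d).map (bc Φ) =
      Ideal.span {bc Φ (fT G d)} * G.J.map (bc (Φ.comp (CC G d))) := by
  have h1 := congrArg (Ideal.map (bc Φ)) (span_mul_JT G hc hd)
  rw [Ideal.map_mul, Ideal.map_mul, Ideal.map_span, Ideal.map_span, Set.image_singleton,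
    Set.image_singleton, bc_comp', map_map_bc] at h1
  exact h1

section fld

variable {K : Type u} [Field K] [Algebra k K] [IsDedekindDomain (K ⊗[k] A)]

theorem map_JT_mul (hc : ∀ n, c ≤ n → n ∈ P.Γ) {d : ℕ} (hd : gap P + c ≤ d) (Φ : TT G d →ₐ[k] K) :
    (JT G d).map (bc Φ) * Q.I.map (bc (Φ.comp (CC G d))) = Ideal.span {bc Φ (fT G d)} := by
  have hv := ne_bot_of_mon P (G.mon.bc (Φ.comp (CC G d))) (Ideal.mem_span_singleton_self _)
  apply cancel_left hv
  rw [← mul_assoc, span_mul_map_JT G hc hd Φ, mul_assoc, mul_map, mul_comm]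

theorem finrank_map_JT (hc : ∀ n, c ≤ n → n ∈ P.Γ) {d : ℕ} (hd : gap P + c ≤ d) (Φ : TT G d →ₐ[k] K) :
    Module.finrank K ((K ⊗[k] A) ⧸ (JT G d).map (bc Φ)) = d := by
  have h1 := (finrank_of_mul_eq P ((mon_fT G hc hd).bc Φ) (map_JT_mul G hc hd Φ)).2.2
  rw [(finite_finrank _).2] at h1
  omega

end fld

theorem fT_mem_JT {d : ℕ} : fT G d ∈ JT G d := by
  rw [mem_JT]
  apply Ideal.mul_mem_mul (Ideal.mem_span_singleton_self _)
  apply Ideal.mem_map_of_mem
  have : G.v ∈ G.J * Q.I := by rw [G.mul]; exact Ideal.mem_span_singleton_self _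
  exact Ideal.mul_le_left this

theorem isIdl_JT (hded : ∀ (K : Type u) [Field K] [Algebra k K], IsDedekindDomain (K ⊗[k] A))
    (hc : ∀ n, c ≤ n → n ∈ P.Γ) {d : ℕ} (hd : gap P + c ≤ d) : IsIdl d (JT G d) := by
  have hN : IsNoetherianRing Q.B := Algebra.FiniteType.isNoetherianRing k Q.B
  have hN' : IsNoetherianRing (TT G d) := inferInstance
  apply isIdl_of_reduced
  · exact finite_quot P (mon_fT G hc hd) _ (fT_mem_JT G)
  · intro K _ _ Φ
    have := hded K
    exact finrank_map_JT G hc hd Φ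

section ext

variable {K : Type u} [Field K] [Algebra k K]

/-- Linear independence of monic elements of distinct orders. -/
theorem linInd_wt (φ : Q.B →ₐ[k] K) (d : ℕ) :
    LinearIndependent K (fun l : Idx G d => bc φ (wt G l.1)) := by
  classical
  rw [Fintype.linearIndependent_iff]
  intro g hg
  by_contra hne
  push_neg at hne
  obtain ⟨i, hi⟩ := hne
  -- the maximal index with nonzero coefficient
  obtain ⟨j, hj, hmax⟩ := Finset.exists_max_image (Finset.univ.filter fun l : Idx G d => g l ≠ 0)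
    (fun l => l.1) ⟨i, by simp [hi]⟩
  rw [Finset.mem_filter] at hj
  have h1 := congrArg (co P j.1) hg
  rw [map_sum, map_zero, Finset.sum_eq_single j] at h1
  · rw [map_smul, ((wt_mon G j.2.1).bc φ).2.1, smul_eq_mul, mul_one] at h1
    exact hj.2 h1
  · intro l _ hl
    by_cases hgl : g l = 0
    · rw [hgl, zero_smul, map_zero]
    · have h2 := hmax l (by simp [hgl])
      have h3 : l.1 < j.1 := lt_of_le_of_ne h2 (fun h => hl (Subtype.ext h))
      rw [map_smul, ((wt_mon G l.2.1).bc φ).2.2 j.1 h3, smul_zero]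
  · intro h; exact absurd (Finset.mem_univ j) h

theorem mem_span_wt (φ : Q.B →ₐ[k] K) (d : ℕ) (x : K ⊗[k] A) (hx : x ∈ Q.I.map (bc φ))
    (N : ℕ) (hN : N ≤ n + d) (hx' : x ∈ fil P K N) :
    x ∈ Submodule.span K (Set.range fun l : Idx G d => bc φ (wt G l.1)) := by
  induction N generalizing x with
  | zero =>
    rw [fil_zero, Submodule.mem_bot] at hx'
    rw [hx']; exact Submodule.zero_mem _
  | succ N ih =>
    by_cases h : co P N x = 0
    · exact ih x hx (by omega) (mem_fil_of_co P hx' h)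
    · have h1 : N ∈ G.Δ := by
        rw [← dl_eq G φ]
        exact mem_dl_of_lead P hx h hx'
      have h2 : Mon P N (bc φ (wt G N)) := (wt_mon G h1).bc φ
      have h3 := ih (x - co P N x • bc φ (wt G N)) (Ideal.sub_mem _ hx
        (Submodule.smul_of_tower_mem _ _ (Ideal.mem_map_of_mem _ (wt_mem G h1)))) (by omega) (by
          apply mem_fil_of_co P
          · exact Submodule.sub_mem _ hx' (Submodule.smul_mem _ _ h2.2.2)
          · rw [map_sub, map_smul, h2.2.1, smul_eq_mul, mul_one, sub_self])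
      have h4 : co P N x • bc φ (wt G N) ∈
          Submodule.span K (Set.range fun l : Idx G d => bc φ (wt G l.1)) :=
        Submodule.smul_mem _ _ (Submodule.subset_span ⟨⟨N, h1, by omega⟩, rfl⟩)
      have := Submodule.add_mem _ h3 h4
      rwa [sub_add_cancel] at this

/-- extension of homomorphisms. -/
theorem exists_hom (φ : Q.B →ₐ[k] K) {d : ℕ} (a : Idx G d → K) :
    ∃ Φ : TT G d →ₐ[k] K, Φ.comp (CC G d) = φ ∧ ∀ l, Φ (MvPolynomial.X l) = a l := by
  refine ⟨{ MvPolynomial.eval₂Hom φ.toRingHom a with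
    commutes' := fun r => ?_ }, ?_, fun l => ?_⟩
  · change MvPolynomial.eval₂Hom φ.toRingHom a (algebraMap k (TT G d) r) = _
    rw [IsScalarTower.algebraMap_apply k Q.B (TT G d), MvPolynomial.algebraMap_eq,
      MvPolynomial.eval₂Hom_C]
    exact φ.commutes r
  · ext b
    change MvPolynomial.eval₂Hom φ.toRingHom a (MvPolynomial.C b) = _
    rw [MvPolynomial.eval₂Hom_C]
    rfl
  · change MvPolynomial.eval₂Hom φ.toRingHom a (MvPolynomial.X l) = _
    rw [MvPolynomial.eval₂Hom_X']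

theorem exists_hom_of_mem (hc : ∀ n, c ≤ n → n ∈ P.Γ) {d : ℕ} (hd : gap P + c ≤ d) (φ : Q.B →ₐ[k] K)
    {f : K ⊗[k] A} (hf : f ∈ Q.I.map (bc φ)) (hf' : Mon P (n + d) f) :
    ∃ Φ : TT G d →ₐ[k] K, Φ.comp (CC G d) = φ ∧ bc Φ (fT G d) = f := by
  have hΔ : n + d ∈ G.Δ := mem_Δ G hc (by omega)
  have h1 : f - bc φ (wt G (n + d)) ∈ Q.I.map (bc φ) :=
    Ideal.sub_mem _ hf (Ideal.mem_map_of_mem _ (wt_mem G hΔ))
  have h2 := mem_span_wt G φ d _ h1 (n + d) le_rfl (hf'.sub_mem_fil ((wt_mon G hΔ).bc φ))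
  obtain ⟨a, ha⟩ := (Submodule.mem_span_range_iff_exists_fun K).1 h2
  obtain ⟨Φ, hΦ, hX⟩ := exists_hom G φ a
  refine ⟨Φ, hΦ, ?_⟩
  rw [bc_fT, hΦ, Finset.sum_congr rfl fun l _ => by rw [hX l], ha, add_sub_cancel]

theorem hom_ext_of_fT {d : ℕ} {Φ Φ' : TT G d →ₐ[k] K} (h : Φ.comp (CC G d) = Φ'.comp (CC G d))
    (h' : bc Φ (fT G d) = bc Φ' (fT G d)) : Φ = Φ' := by
  rw [bc_fT, bc_fT, h] at h'
  have h1 := add_left_cancel h'
  have h2 : ∀ l, Φ (MvPolynomial.X l) = Φ' (MvPolynomial.X l) := by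
    intro l
    have h3 := Fintype.linearIndependent_iff.1 (linInd_wt G (Φ'.comp (CC G d)) d)
      (fun l => Φ (MvPolynomial.X l) - Φ' (MvPolynomial.X l)) (by
        simp only [sub_smul, Finset.sum_sub_distrib]
        rw [h1, sub_self]) l
    exact sub_eq_zero.1 h3
  apply AlgHom.coe_ringHom_injective
  apply MvPolynomial.ringHom_ext
  · intro b
    exact congr($h b)
  · exact h2

end ext

end K842.PoleFam
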