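import Groth.Agent.HilbZeta.K842.Pole
import Groth.Agent.HilbZeta.K842.DedDim
import Mathlib.Data.Set.Card

/-!
# Ideals in coordinate rings with one place at infinity, over a field
-/

set_option autoImplicit false
set_option backward.isDefEq.respectTransparency false
universe u v w

open TensorProduct

namespace K842.PoleField

open K842.QFam K842.Pole

section comb

/-- shifts -/
def shift (m : ℕ) (S : Set ℕ) : Set ℕ := {l | ∃ n ∈ S, l = n + m}

theorem compl_shift (m : ℕ) (S : Set ℕ) : (shift m S)ᶜ = Set.Iio m ∪ (fun n => n + m) '' Sᶜ := by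
  ext l
  constructor
  · intro hl
    by_cases h : l < m
    · exact Or.inl h
    · refine Or.inr ⟨l - m, fun h' => hl ⟨l - m, h', by omega⟩, by simp; omega⟩
  · rintro (h | ⟨n, hn, rfl⟩) ⟨n', hn', he⟩
    · simp only [Set.mem_Iio] at h
      omega
    · have : n = n' := by simp only at he; omega
      exact hn (this ▸ hn')

theorem ncard_compl_shift (m : ℕ) (S : Set ℕ) (hS : Sᶜ.Finite) :
    (shift m S)ᶜ.ncard = m + Sᶜ.ncard := by
  rw [compl_shift, Set.ncard_union_eq _ (Set.finite_Iio m) (hS.image _),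
    Set.ncard_image_of_injective _ (add_left_injective m)]
  · congr 1
    rw [← Finset.coe_Iio, Set.ncard_coe_finset, Nat.card_Iio]
  · rw [Set.disjoint_left]
    rintro _ h ⟨n, -, rfl⟩
    simp only [Set.mem_Iio] at h
    omega

theorem finite_compl_shift (m : ℕ) (S : Set ℕ) (hS : Sᶜ.Finite) : (shift m S)ᶜ.Finite := by
  rw [compl_shift]
  exact (Set.finite_Iio m).union (hS.image _)

theorem ncard_compl_of_subset {Γ S : Set ℕ} (hΓ : Γᶜ.Finite) (hS : S ⊆ Γ) (h : (Γ \ S).Finite) :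
    Sᶜ.Finite ∧ Sᶜ.ncard = Γᶜ.ncard + (Γ \ S).ncard := by
  have h1 : Sᶜ = Γᶜ ∪ (Γ \ S) := by
    ext l
    by_cases hl : l ∈ Γ
    · simp [hl]
    · simp only [Set.mem_compl_iff, Set.mem_union, hl, not_false_eq_true, true_or, iff_true]
      exact fun h' => hl (hS h')
  rw [h1]
  refine ⟨hΓ.union h, Set.ncard_union_eq ?_ hΓ h⟩
  rw [Set.disjoint_left]
  rintro l h1 ⟨h2, -⟩
  exact h1 h2

end comb

variable {k A : Type u} [Field k] [CommRing A] [Algebra k A] (P : PD k A)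

theorem finite_diff_shift {m : ℕ} : (P.Γ \ shift m P.Γ).Finite :=
  (finite_compl_shift m P.Γ P.fin).subset (fun _ h => h.2)

theorem ncard_diff_shift {m : ℕ} (hm : m ∈ P.Γ) : (P.Γ \ shift m P.Γ).ncard = m := by
  have h1 : shift m P.Γ ⊆ P.Γ := by
    rintro _ ⟨n, hn, rfl⟩
    exact P.add n hn m hm
  have h2 := (ncard_compl_of_subset P.fin h1 (finite_diff_shift P)).2
  rw [ncard_compl_shift m P.Γ P.fin] at h2
  omega

section field

variable {K : Type u} [Field K] [Algebra k K]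

/-- the pole orders of the elements of an ideal. -/
def dl (J : Ideal (K ⊗[k] A)) : Set ℕ := {n | ∃ x ∈ J, Mon P n x}

theorem dl_subset (J : Ideal (K ⊗[k] A)) : dl P J ⊆ P.Γ := fun _ ⟨_, _, h⟩ => h.1

theorem dl_mono {J J' : Ideal (K ⊗[k] A)} (h : J ≤ J') : dl P J ⊆ dl P J' :=
  fun _ ⟨x, hx, hx'⟩ => ⟨x, h hx, hx'⟩

theorem mon_inv_smul {n : ℕ} {x : K ⊗[k] A} (h : co P n x ≠ 0) (h' : x ∈ fil P K (n + 1)) :
    Mon P n ((co P n x)⁻¹ • x) := by
  refine ⟨?_, ?_, Submodule.smul_mem _ _ h'⟩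
  · by_contra hn
    exact h (co_of_notMem P hn _)
  · rw [map_smul, smul_eq_mul, inv_mul_cancel₀ h]

theorem mem_dl_of_lead {J : Ideal (K ⊗[k] A)} {x : K ⊗[k] A} (hx : x ∈ J) {n : ℕ} (h : co P n x ≠ 0)
    (h' : x ∈ fil P K (n + 1)) : n ∈ dl P J :=
  ⟨(co P n x)⁻¹ • x, J.smul_of_tower_mem _ hx, mon_inv_smul P h h'⟩

theorem lead_unique {x : K ⊗[k] A} {m n : ℕ} (hm : co P m x ≠ 0) (hm' : x ∈ fil P K (m + 1))
    (hn : co P n x ≠ 0) (hn' : x ∈ fil P K (n + 1)) : m = n := by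
  rcases lt_trichotomy m n with h | h | h
  · exact absurd (hm' n h) hn
  · exact h
  · exact absurd (hn' m h) hm

theorem dl_add {J : Ideal (K ⊗[k] A)} {m n : ℕ} (hm : m ∈ dl P J) (hn : n ∈ P.Γ) : n + m ∈ dl P J := by
  obtain ⟨x, hx, hx'⟩ := hm
  exact ⟨e P K n * x, J.mul_mem_left _ hx, (mon_e P hn).mul hx'⟩

theorem shift_subset_dl {J : Ideal (K ⊗[k] A)} {m : ℕ} (hm : m ∈ dl P J) : shift m P.Γ ⊆ dl P J := by
  rintro _ ⟨n, hn, rfl⟩
  exact dl_add P hm hn

theorem span_aux (J : Ideal (K ⊗[k] A)) (n : ℕ) : ∀ x ∈ fil P K n, Ideal.Quotient.mk J x ∈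
    Submodule.span K (Set.range fun l : ↥(P.Γ \ dl P J) => Ideal.Quotient.mk J (e P K l)) := by
  induction n with
  | zero =>
    intro x hx
    rw [fil_zero, Submodule.mem_bot] at hx
    rw [hx, map_zero]; exact Submodule.zero_mem _
  | succ n ih =>
    intro x hx
    by_cases hn : n ∈ dl P J
    · obtain ⟨v, hv, hv'⟩ := hn
      have h1 : x - co P n x • v ∈ fil P K n := by
        apply mem_fil_of_co P
        · exact Submodule.sub_mem _ hx (Submodule.smul_mem _ _ hv'.2.2)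
        · rw [map_sub, map_smul, hv'.2.1, smul_eq_mul, mul_one, sub_self]
      have h2 : Ideal.Quotient.mk J x = Ideal.Quotient.mk J (x - co P n x • v) := by
        rw [Ideal.Quotient.eq, sub_sub_cancel]
        exact J.smul_of_tower_mem _ hv
      rw [h2]
      exact ih _ h1
    · have h1 := ih _ (sub_mem P hx)
      have h2 : Ideal.Quotient.mk J x = Ideal.Quotient.mk J (x - co P n x • e P K n) +
          co P n x • Ideal.Quotient.mk J (e P K n) := by
        have : Ideal.Quotient.mk J (co P n x • e P K n) = co P n x • Ideal.Quotient.mk J (e P K n) := rfl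
        rw [← this, ← map_add, sub_add_cancel]
      rw [h2]
      refine Submodule.add_mem _ h1 ?_
      by_cases hnΓ : n ∈ P.Γ
      · exact Submodule.smul_mem _ _ (Submodule.subset_span ⟨⟨n, hnΓ, hn⟩, rfl⟩)
      · rw [e_of_notMem P hnΓ, map_zero, smul_zero]; exact Submodule.zero_mem _

theorem linInd (J : Ideal (K ⊗[k] A)) :
    LinearIndependent K (fun l : ↥(P.Γ \ dl P J) => Ideal.Quotient.mk J (e P K l)) := by
  classical
  rw [linearIndependent_iff']
  intro s g hg i hi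
  let x : K ⊗[k] A := ∑ l ∈ s, g l • e P K l
  have hco : ∀ n, co P n x = ∑ l ∈ s, g l * (if n = (l : ℕ) ∧ (l : ℕ) ∈ P.Γ then 1 else 0) := by
    intro n
    rw [map_sum]
    refine Finset.sum_congr rfl fun l _ => ?_
    rw [map_smul, co_e, smul_eq_mul]
  have hxJ : x ∈ J := by
    rw [← Ideal.Quotient.eq_zero_iff_mem, map_sum]
    exact hg
  have hx0 : x = 0 := by
    by_contra hx
    obtain ⟨n, hn, h1, h2⟩ := exists_lead P hx
    have h3 := mem_dl_of_lead P hxJ h1 h2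
    apply h1
    rw [hco]
    refine Finset.sum_eq_zero fun l _ => ?_
    rw [if_neg, mul_zero]
    rintro ⟨rfl, -⟩
    exact l.2.2 h3
  have h4 := hco i
  rw [hx0, map_zero, Finset.sum_eq_single i, if_pos ⟨rfl, i.2.1⟩, mul_one] at h4
  · exact h4.symm
  · intro l _ hl
    rw [if_neg, mul_zero]
    rintro ⟨h, -⟩
    exact hl (Subtype.ext h.symm)
  · intro h; exact absurd hi h

/-- the basis of the quotient. -/
noncomputable def qbas (J : Ideal (K ⊗[k] A)) :
    Module.Basis ↥(P.Γ \ dl P J) K ((K ⊗[k] A) ⧸ J) :=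
  Module.Basis.mk (linInd P J) (by
    rintro x -
    obtain ⟨x, rfl⟩ := Ideal.Quotient.mk_surjective x
    obtain ⟨n, hn⟩ := exists_mem_fil P x
    exact span_aux P J n x hn)

theorem finite_iff (J : Ideal (K ⊗[k] A)) :
    Module.Finite K ((K ⊗[k] A) ⧸ J) ↔ (P.Γ \ dl P J).Finite := by
  constructor
  · intro h
    have h1 : Finite ↥(P.Γ \ dl P J) := Module.Finite.finite_basis (qbas P J)
    exact Set.toFinite _
  · intro h
    have : Finite ↥(P.Γ \ dl P J) := h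
    exact Module.Finite.of_basis (qbas P J)

theorem finrank_eq (J : Ideal (K ⊗[k] A)) :
    Module.finrank K ((K ⊗[k] A) ⧸ J) = (P.Γ \ dl P J).ncard := by
  rw [Module.finrank_eq_nat_card_basis (qbas P J)]
  rfl

/-- the number of gaps. -/
noncomputable def gap : ℕ := P.Γᶜ.ncard

theorem compl_dl (J : Ideal (K ⊗[k] A)) (h : Module.Finite K ((K ⊗[k] A) ⧸ J)) :
    (dl P J)ᶜ.Finite ∧ (dl P J)ᶜ.ncard = gap P + Module.finrank K ((K ⊗[k] A) ⧸ J) := by
  rw [finrank_eq P]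
  exact ncard_compl_of_subset P.fin (dl_subset P J) ((finite_iff P J).1 h)

theorem exists_mem_dl_le (J : Ideal (K ⊗[k] A)) (h : Module.Finite K ((K ⊗[k] A) ⧸ J)) :
    ∃ m ∈ dl P J, m ≤ gap P + Module.finrank K ((K ⊗[k] A) ⧸ J) := by
  by_contra hne
  push_neg at hne
  obtain ⟨h1, h2⟩ := compl_dl P J h
  have h3 : Set.Iic (gap P + Module.finrank K ((K ⊗[k] A) ⧸ J)) ⊆ (dl P J)ᶜ := by
    intro l hl hl'
    have := hne l hl'
    simp only [Set.mem_Iic] at hl
    omega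
  have h4 := Set.ncard_le_ncard h3 h1
  rw [h2, ← Finset.coe_Iic, Set.ncard_coe_finset, Nat.card_Iic] at h4
  omega

theorem mem_dl_of_le {c : ℕ} (hc : ∀ n, c ≤ n → n ∈ P.Γ) (J : Ideal (K ⊗[k] A))
    (h : Module.Finite K ((K ⊗[k] A) ⧸ J)) {m : ℕ}
    (hm : gap P + Module.finrank K ((K ⊗[k] A) ⧸ J) + c ≤ m) : m ∈ dl P J := by
  obtain ⟨l, hl, hl'⟩ := exists_mem_dl_le P J h
  have := dl_add P hl (hc (m - l) (by omega))
  rwa [Nat.sub_add_cancel (by omega)] at this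

theorem ncard_dl_inter {c : ℕ} (hc : ∀ n, c ≤ n → n ∈ P.Γ) (J : Ideal (K ⊗[k] A))
    (h : Module.Finite K ((K ⊗[k] A) ⧸ J)) {m : ℕ}
    (hm : gap P + Module.finrank K ((K ⊗[k] A) ⧸ J) + c ≤ m) :
    (dl P J ∩ Set.Iio m).ncard = m - (gap P + Module.finrank K ((K ⊗[k] A) ⧸ J)) := by
  obtain ⟨h1, h2⟩ := compl_dl P J h
  have h3 : Set.Iio m = (dl P J)ᶜ ∪ (dl P J ∩ Set.Iio m) := by
    ext l
    simp only [Set.mem_Iio, Set.mem_union, Set.mem_compl_iff, Set.mem_inter_iff]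
    constructor
    · intro hl
      by_cases hl' : l ∈ dl P J
      · exact Or.inr ⟨hl', hl⟩
      · exact Or.inl hl'
    · rintro (hl | hl)
      · by_contra hl'
        exact hl (mem_dl_of_le P hc J h (by omega))
      · exact hl.2
  have h4 : (Set.Iio m).ncard = (dl P J)ᶜ.ncard + (dl P J ∩ Set.Iio m).ncard := by
    conv_lhs => rw [h3]
    apply Set.ncard_union_eq _ h1 ((Set.finite_Iio m).subset Set.inter_subset_right)
    rw [Set.disjoint_left]
    rintro l h5 ⟨h6, -⟩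
    exact h5 h6
  rw [← Finset.coe_Iio, Set.ncard_coe_finset, Nat.card_Iio, h2] at h4
  rw [Finset.coe_Iio] at h4
  omega

theorem finrank_le_of_mem_dl (J : Ideal (K ⊗[k] A)) {m : ℕ} (hm : m ∈ dl P J) :
    Module.finrank K ((K ⊗[k] A) ⧸ J) ≤ m := by
  rw [finrank_eq P, ← ncard_diff_shift P (dl_subset P J hm)]
  exact Set.ncard_le_ncard (Set.diff_subset_diff_right (shift_subset_dl P hm)) (finite_diff_shift P)

theorem finite_of_mem_dl (J : Ideal (K ⊗[k] A)) {m : ℕ} (hm : m ∈ dl P J) :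
    Module.Finite K ((K ⊗[k] A) ⧸ J) := by
  obtain ⟨x, hx, hx'⟩ := hm
  exact finite_quot P hx' J hx

/-- pole orders in a multiple of an ideal by a monic element. -/
theorem dl_span_mul {m : ℕ} {v : K ⊗[k] A} (hv : Mon P m v) (J : Ideal (K ⊗[k] A)) :
    dl P (Ideal.span {v} * J) = shift m (dl P J) := by
  ext l
  constructor
  · rintro ⟨x, hx, hx'⟩
    obtain ⟨y, hy, rfl⟩ := Ideal.mem_span_singleton_mul.1 hx
    have hy0 : y ≠ 0 := by
      rintro rfl
      rw [mul_zero] at hx'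
      exact hx'.ne_zero rfl
    obtain ⟨n, hn, h1, h2⟩ := exists_lead P hy0
    refine ⟨n, mem_dl_of_lead P hy h1 h2, ?_⟩
    have h3 : co P (m + n) (v * y) = co P n y := by rw [co_mul P hv.2.2 h2, hv.2.1, one_mul]
    rw [add_comm n m]
    exact lead_unique P (by rw [hx'.2.1]; exact one_ne_zero) hx'.2.2 (by rw [h3]; exact h1)
      (mul_mem_fil_succ P hv.2.2 h2)
  · rintro ⟨n, ⟨y, hy, hy'⟩, rfl⟩
    refine ⟨v * y, Ideal.mem_span_singleton_mul.2 ⟨y, hy, rfl⟩, ?_⟩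
    rw [add_comm]
    exact hv.mul hy'

theorem dl_span {m : ℕ} {v : K ⊗[k] A} (hv : Mon P m v) : dl P (Ideal.span {v}) = shift m P.Γ := by
  have h1 : dl P (⊤ : Ideal (K ⊗[k] A)) = P.Γ := by
    ext n
    exact ⟨fun h => dl_subset P _ h, fun h => ⟨e P K n, trivial, mon_e P h⟩⟩
  rw [← h1, ← dl_span_mul P hv, Ideal.mul_top]

theorem finrank_span {m : ℕ} {v : K ⊗[k] A} (hv : Mon P m v) :
    Module.finrank K ((K ⊗[k] A) ⧸ Ideal.span {v}) = m := by
  rw [finrank_eq P, dl_span P hv, ncard_diff_shift P hv.1]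

theorem ne_bot_of_mon {m : ℕ} {v : K ⊗[k] A} (hv : Mon P m v) {J : Ideal (K ⊗[k] A)} (h : v ∈ J) : J ≠ ⊥ := by
  rintro rfl
  exact hv.ne_zero ((Submodule.mem_bot _).1 h)

/-- elements of minimal pole order are unique. -/
theorem mon_unique {J : Ideal (K ⊗[k] A)} {m : ℕ} (hmin : ∀ l ∈ dl P J, m ≤ l) {x y : K ⊗[k] A}
    (hx : x ∈ J) (hx' : Mon P m x) (hy : y ∈ J) (hy' : Mon P m y) : x = y := by
  by_contra h
  have h0 : x - y ≠ 0 := sub_ne_zero.2 h
  obtain ⟨n, hn, h1, h2⟩ := exists_lead P h0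
  have h3 := hmin n (mem_dl_of_lead P (J.sub_mem hx hy) h1 h2)
  exact h1 (hx'.sub_mem_fil hy' n h3)

section ded

variable [IsDedekindDomain (K ⊗[k] A)]

theorem finrank_of_mul_eq {I J : Ideal (K ⊗[k] A)} {m : ℕ} {v : K ⊗[k] A} (hv : Mon P m v)
    (h : J * I = Ideal.span {v}) : Module.Finite K ((K ⊗[k] A) ⧸ J) ∧ Module.Finite K ((K ⊗[k] A) ⧸ I) ∧
      Module.finrank K ((K ⊗[k] A) ⧸ J) + Module.finrank K ((K ⊗[k] A) ⧸ I) = m := by
  have hv' : v ∈ J * I := by rw [h]; exact Ideal.mem_span_singleton_self v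
  have h1 : v ∈ J := Ideal.mul_le_left hv'
  have h2 : v ∈ I := Ideal.mul_le_right hv'
  have hf1 := finite_quot P hv J h1
  have hf2 := finite_quot P hv I h2
  refine ⟨hf1, hf2, ?_⟩
  rw [← (DedDim.finite_and_finrank_mul J I (ne_bot_of_mon P hv h1) (ne_bot_of_mon P hv h2) hf1 hf2).2, h,
    finrank_span P hv]

theorem exists_compl {I : Ideal (K ⊗[k] A)} {v : K ⊗[k] A} (hv : v ∈ I) :
    ∃ J : Ideal (K ⊗[k] A), J * I = Ideal.span {v} := by
  obtain ⟨J, hJ⟩ := Ideal.dvd_span_singleton.2 hv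
  exact ⟨J, by rw [hJ, mul_comm]⟩

theorem cancel_left {I J J' : Ideal (K ⊗[k] A)} (hI : I ≠ ⊥) (h : I * J = I * J') : J = J' :=
  mul_left_cancel₀ hI h

end ded

end field

end K842.PoleField
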