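import Groth.Agent.HilbZeta.K842.ProdFormula

/-!
# The product formula for finitely many closed points
-/

set_option autoImplicit false
set_option backward.isDefEq.respectTransparency false
universe u

open CategoryTheory CategoryTheory.Limits AlgebraicGeometry

namespace K842.ProdPoints

open Groth.Agent.Picfga.HilbPull Groth.Agent.Picfga.HilbTriple Groth.Agent.Picfga.HilbRep K842.CoprodRank
  K842.Split K842.K0Basic K842.K0Fam K842.SplitField K842.ProdFormula

variable {X S : Scheme.{u}} {f : X ⟶ S} {d : ℕ} {A B C : Set X}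

/-- Immersions with the same range have the same class. -/
theorem cl_eq_of_range_eq [IsNoetherian S] {H P Q : Scheme.{u}} (g : H ⟶ S) [LocallyOfFiniteType g] [QuasiCompact g]
    (j : P ⟶ H) (i : Q ⟶ H) [IsImmersion j] [IsImmersion i] [LocallyOfFiniteType j]
    [LocallyOfFiniteType i] [QuasiCompact j] [QuasiCompact i] (h : Set.range j = Set.range i) :
    K0Var.cl (j ≫ g) = K0Var.cl (i ≫ g) := by
  have main := sum_cl_eq_of_points (fun _ : Unit => j) i g (InjPts.of_mono i) (by
    intro K hK _ x
    have := isReduced_of_isField hK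
    apply Groth.Agent.Ega1.ReducedSub.exists_factor_of_range_subset
    rw [← h]
    rintro _ ⟨p, rfl⟩
    rw [Scheme.Hom.comp_apply]
    exact ⟨_, rfl⟩) (by
    intro K hK y
    have := isReduced_of_isField hK
    obtain ⟨x, hx⟩ := Groth.Agent.Ega1.ReducedSub.exists_factor_of_range_subset (y ≫ i) j (by
      rw [h]
      rintro _ ⟨p, rfl⟩
      rw [Scheme.Hom.comp_apply]
      exact ⟨_, rfl⟩)
    refine ⟨⟨(), x⟩, hx, ?_⟩
    rintro ⟨⟨⟩, x'⟩ hx'
    congr 1
    rw [← cancel_mono j]
    exact hx'.trans hx.symm)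
  rw [← main]
  simp

theorem mem_good_iff_locus (U : X.Opens) {T : Over S} (x : HilbD.Obj f d T) :
    (good U x : Set T.left) = locus (U : Set X) x := by
  ext t
  exact mem_good U x t

section

variable (H : ℕ → Over S) (Z : ∀ d, HilbD.Obj f d (H d))

/-- generating series of the open locus of subschemes supported in an open. -/
noncomputable def zetaOpen [∀ d, LocallyOfFiniteType (H d).hom] [∀ d, QuasiCompact (H d).hom]
    [IsNoetherian S] (U : X.Opens) : PowerSeries (K0Var.K S) :=
  haveI := fun d => isNoetherian_of_ft (H d).hom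
  PowerSeries.mk fun d => K0Var.cl ((good U (Z d)).ι ≫ (H d).hom)

variable {H Z}

theorem zetaOpen_top [∀ d, LocallyOfFiniteType (H d).hom] [∀ d, QuasiCompact (H d).hom]
    [IsNoetherian S] : zetaOpen H Z ⊤ = PowerSeries.mk fun d => K0Var.cl (H d).hom := by
  have := fun d => isNoetherian_of_ft (H d).hom
  ext d
  rw [zetaOpen, PowerSeries.coeff_mk, PowerSeries.coeff_mk]
  have h1 : K0Var.cl (𝟙 _ ≫ (H d).hom) = K0Var.cl (H d).hom := cl_congr_hom (Category.id_comp _)
  rw [← h1]
  apply cl_eq_of_range_eq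
  rw [Scheme.Opens.range_ι, mem_good_iff_locus, Set.range_eq_univ.2 (fun x => ⟨x, by simp⟩)]
  exact (Set.eq_univ_of_forall fun t z _ => Set.mem_univ _)

theorem zetaOpen_eq [∀ d, LocallyOfFiniteType (H d).hom] [∀ d, QuasiCompact (H d).hom]
    [IsNoetherian S] (U : X.Opens) (P : ℕ → Scheme.{u}) (j : ∀ d, P d ⟶ (H d).left)
    [∀ d, IsImmersion (j d)] [∀ d, LocallyOfFiniteType (j d)] [∀ d, QuasiCompact (j d)]
    (hj : ∀ d, Set.range (j d) = locus (U : Set X) (Z d)) :
    zetaOpen H Z U = PowerSeries.mk fun d => K0Var.cl (j d ≫ (H d).hom) := by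
  have := fun d => isNoetherian_of_ft (H d).hom
  ext d
  rw [zetaOpen, PowerSeries.coeff_mk, PowerSeries.coeff_mk]
  apply cl_eq_of_range_eq
  rw [Scheme.Opens.range_ι, mem_good_iff_locus, hj]

theorem zetaOpen_mul [∀ d, LocallyOfFiniteType (H d).hom] [∀ d, QuasiCompact (H d).hom]
    [IsNoetherian S] (hZ : ∀ d, HilbD.IsUniversal f d (H d) (Z d)) (U V : X.Opens) (Y : Set X)
    (hUY : Disjoint (U : Set X) Y) (hV : (U : Set X) ∪ Y = V) (P : ℕ → Scheme.{u})
    (j : ∀ d, P d ⟶ (H d).left)
    [∀ d, IsImmersion (j d)] [∀ d, LocallyOfFiniteType (j d)] [∀ d, QuasiCompact (j d)]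
    (hj : ∀ d, Set.range (j d) = locus Y (Z d)) :
    zetaOpen H Z V = zetaOpen H Z U * PowerSeries.mk fun d => K0Var.cl (j d ≫ (H d).hom) := by
  have := fun d => isNoetherian_of_ft (H d).hom
  ext d
  rw [zetaOpen, zetaOpen, PowerSeries.coeff_mk, PowerSeries.coeff_mul]
  simp only [PowerSeries.coeff_mk]
  exact cl_eq_sum (jA := fun d => (good U (Z d)).ι) (jB := j) hZ
    (fun d => by rw [Scheme.Opens.range_ι, mem_good_iff_locus]) hj hUY hV d (good V (Z d)).ι
    (by rw [Scheme.Opens.range_ι, mem_good_iff_locus])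

/-- Removing finitely many closed points. -/
theorem zetaOpen_prod [∀ d, LocallyOfFiniteType (H d).hom] [∀ d, QuasiCompact (H d).hom]
    [IsNoetherian S] (hZ : ∀ d, HilbD.IsUniversal f d (H d) (Z d))
    (l : ℕ) (p : Fin l → X) (hp : Function.Injective p) (hpc : ∀ i, IsClosed ({p i} : Set X))
    (U : X.Opens) (hU : (U : Set X) = (Set.range p)ᶜ)
    (P : Fin l → ℕ → Scheme.{u}) (j : ∀ i d, P i d ⟶ (H d).left)
    [∀ i d, IsImmersion (j i d)] [∀ i d, LocallyOfFiniteType (j i d)] [∀ i d, QuasiCompact (j i d)]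
    (hj : ∀ i d, Set.range (j i d) = locus {p i} (Z d)) :
    zetaOpen H Z ⊤ = zetaOpen H Z U * ∏ i, PowerSeries.mk fun d => K0Var.cl (j i d ≫ (H d).hom) := by
  induction l generalizing U with
  | zero =>
    have : U = ⊤ := by
      ext1
      rw [hU, Set.range_eq_empty p, Set.compl_empty]
      rfl
    subst this
    simp
  | succ l ih =>
    let V : X.Opens := ⟨(Set.range fun i : Fin l => p i.castSucc)ᶜ, by
      rw [isOpen_compl_iff, ← Set.iUnion_singleton_eq_range]
      exact isClosed_iUnion_of_finite fun i => hpc _⟩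
    have h1 := ih (fun i => p i.castSucc) (fun i i' h => Fin.castSucc_injective _ (hp h))
      (fun i => hpc _) V rfl (fun i d => P i.castSucc d) (fun i d => j i.castSucc d) (fun i d => hj _ _)
    have hr : Set.range p = (Set.range fun i : Fin l => p i.castSucc) ∪ {p (Fin.last l)} := by
      ext x
      constructor
      · rintro ⟨i, rfl⟩
        rcases Fin.eq_castSucc_or_eq_last i with ⟨i, rfl⟩ | rfl
        · exact Or.inl ⟨i, rfl⟩
        · exact Or.inr rfl
      · rintro (⟨i, rfl⟩ | rfl)
        · exact ⟨_, rfl⟩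
        · exact ⟨_, rfl⟩
    have h2 := zetaOpen_mul hZ U V {p (Fin.last l)} (by
      rw [hU, hr, Set.disjoint_singleton_right]
      simp) (by
      change (U : Set X) ∪ _ = (Set.range fun i : Fin l => p i.castSucc)ᶜ
      rw [hU, hr]
      ext x
      simp only [Set.mem_union, Set.mem_compl_iff, Set.mem_singleton_iff]
      constructor
      · rintro (h | rfl)
        · exact fun h' => h (Or.inl h')
        · rintro ⟨i, hi⟩
          exact (Fin.castSucc_lt_last i).ne (hp hi)
      · intro h
        by_cases hx : x = p (Fin.last l)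
        · exact Or.inr hx
        · exact Or.inl (fun h' => h'.elim h hx)) (P (Fin.last l)) (j (Fin.last l)) (hj _)
    rw [h1, h2, Fin.prod_univ_castSucc]
    ring

end

end K842.ProdPoints
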