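import Groth.Agent.HilbZeta.K842.QClass
import Groth.Agent.HilbZeta.K842.ProdPoints

/-!
# Stratification of the Hilbert scheme of points of a chart by spectra of domains
-/

set_option autoImplicit false
set_option backward.isDefEq.respectTransparency false
universe u v w

open CategoryTheory CategoryTheory.Limits AlgebraicGeometry TensorProduct TopologicalSpace

namespace K842.Strata

open Groth.Agent.Picfga.HilbPull Groth.Agent.Picfga.HilbTriple Groth.Agent.Picfga.HilbRep K842.CoprodRank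
  K842.Split K842.K0Basic K842.K0Fam K842.SplitField K842.AffObj K842.ProdFormula K842.ProdPoints
  K842.AffPar K842.AffMain K842.AffCl K842.QFam K842.QObj K842.QClass

/-- A nonempty reduced Noetherian scheme has a nonempty affine open with a domain of sections. -/
theorem exists_affine_isDomain (Z : Scheme.{u}) [IsNoetherian Z] [IsReduced Z] [Nonempty Z] :
    ∃ V : Z.Opens, IsAffineOpen V ∧ (V : Set Z).Nonempty ∧ IsDomain Γ(Z, V) := by
  obtain ⟨z⟩ := (inferInstance : Nonempty Z)
  obtain ⟨o, ho, hne, hsub⟩ :=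
    NoetherianSpace.exists_isOpen_nonempty_subset_irreducibleComponent (α := Z)
      (irreducibleComponent z) (irreducibleComponent_mem_irreducibleComponents z)
  obtain ⟨x, hx⟩ := hne
  obtain ⟨V, hV, hxV, hVo⟩ := exists_isAffineOpen_mem_and_subset (U := ⟨o, ho⟩) hx
  have hVne : (V : Set Z).Nonempty := ⟨x, hxV⟩
  have hirr : IsIrreducible (V : Set Z) := by
    refine ⟨hVne, ?_⟩
    have h1 : IsPreirreducible (irreducibleComponent z) := isIrreducible_irreducibleComponent.2
    exact h1.open_subset V.2 (Set.Subset.trans hVo hsub)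
  have hWi : IrreducibleSpace V := isIrreducible_iff_irreducibleSpace.mp hirr
  have : IsIntegral (V : Scheme.{u}) := by
    have : IrreducibleSpace (V : Scheme.{u}) := hWi
    exact isIntegral_of_irreducibleSpace_of_isReduced _
  refine ⟨V, hV, hVne, ?_⟩
  have hn : Nonempty (⊤ : (V : Scheme.{u}).Opens) := ⟨⟨⟨x, hxV⟩, trivial⟩⟩
  have h2 : IsDomain Γ((V : Scheme.{u}), ⊤) := inferInstance
  exact (V.topIso.commRingCatIsoToRingEquiv.symm.toMulEquiv).isDomain _

/-- a family of ideals over a domain of finite type. -/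
structure Piece (k R : Type u) [Field k] [CommRing R] [Algebra k R] (d : ℕ) where
  /-- the base -/
  B : Type u
  [cr : CommRing B]
  [dom : IsDomain B]
  [alg : Algebra k B]
  [ft : Algebra.FiniteType k B]
  /-- the ideal -/
  I : Ideal (B ⊗[k] R)
  isIdl : IsIdl d I

attribute [instance] Piece.cr Piece.dom Piece.alg Piece.ft

section

variable {k : Type u} [Field k] {X : Scheme.{u}} (f : X ⟶ Spec (CommRingCat.of k)) [IsSeparated f]
  {R : Type u} [CommRing R] [Algebra k R] (j : Spec (CommRingCat.of R) ⟶ X) [IsOpenImmersion j]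
  (hj : j ≫ f = Spec.map (CommRingCat.ofHom (algebraMap k R))) {d : ℕ}
  {H : Over (Spec (CommRingCat.of k))} {Z : HilbD.Obj f d H} (hZ : HilbD.IsUniversal f d H Z)
  [LocallyOfFiniteType H.hom] [QuasiCompact H.hom]
  (P : Piece k R d → Prop)
  (hP : ∀ Q : Piece k R d, ∃ (Q' : Piece k R d) (φ : Q.B →ₐ[k] Q'.B),
    IsOpenImmersion (Spec.map (CommRingCat.ofHom φ.toRingHom)) ∧ Q'.I = Q.I.map (bc φ) ∧ P Q')

include hj hP in
/-- The first stratum. -/
theorem exists_first (C : Closeds H.left) (hne : ((C : Set H.left) ∩ locus (Set.range j) Z).Nonempty) :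
    ∃ (Q : Piece k R d) (g : spk k Q.B ⟶ H) (C' : Closeds H.left), P Q ∧ C' < C ∧
      IsImmersion g.left ∧ pullObj f g Z = iobj f j hj Q.I Q.isIdl ∧
      (C : Set H.left) ∩ locus (Set.range j) Z =
        Set.range g.left ∪ ((C' : Set H.left) ∩ locus (Set.range j) Z) ∧
      Disjoint (Set.range g.left) (C' : Set H.left) := by
  have hHN : IsNoetherian H.left := isNoetherian_of_ft H.hom
  let I := Scheme.IdealSheafData.vanishingIdeal C
  have hrI : Set.range I.subschemeι = (C : Set H.left) := by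
    rw [Scheme.IdealSheafData.range_subschemeι, Scheme.IdealSheafData.coe_support_vanishingIdeal]
  have hredI : IsReduced I.subscheme :=
    Groth.Agent.Ega1.ReducedSub.isReduced_subscheme_vanishingIdeal C
  let W : X.Opens := j.opensRange
  have hW : (good W Z : Set H.left) = locus (Set.range j) Z := by
    rw [mem_good_iff_locus]; rfl
  let U0 : I.subscheme.Opens := I.subschemeι ⁻¹ᵁ (good W Z)
  have hU0ne : Nonempty U0 := by
    obtain ⟨y, hy1, hy2⟩ := hne
    rw [← hrI] at hy1
    obtain ⟨z, rfl⟩ := hy1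
    rw [← hW] at hy2
    exact ⟨⟨z, hy2⟩⟩
  have hNI : IsNoetherian I.subscheme := isNoetherian_of_ft (I.subschemeι ≫ H.hom)
  have hNU : IsNoetherian (U0 : Scheme.{u}) := isNoetherian_of_ft (U0.ι ≫ I.subschemeι ≫ H.hom)
  have hUne' : Nonempty (U0 : Scheme.{u}) := hU0ne
  obtain ⟨V, hVaff, hVne, hVdom⟩ := exists_affine_isDomain (U0 : Scheme.{u})
  let D : Type u := Γ((U0 : Scheme.{u}), V)
  let m : Spec (CommRingCat.of D) ⟶ H.left := hVaff.fromSpec ≫ U0.ι ≫ I.subschemeι
  obtain ⟨a, ha⟩ := Spec.map_surjective (m ≫ H.hom)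
  letI : Algebra k D := a.hom.toAlgebra
  have hm : Spec.map (CommRingCat.ofHom (algebraMap k D)) = m ≫ H.hom := ha
  let mT : spk k D ⟶ H := Over.homMk m hm.symm
  have hft0 : LocallyOfFiniteType (Spec.map (CommRingCat.ofHom (algebraMap k D))) := by
    rw [hm]; infer_instance
  have hft : Algebra.FiniteType k D := by
    rw [HasRingHomProperty.Spec_iff (P := @LocallyOfFiniteType)] at hft0
    exact RingHom.finiteType_algebraMap.mp hft0
  have hsupp : Supp (Set.range j) (pullObj f mT Z) := by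
    rw [supp_pull_iff]
    intro t
    rw [← hW]
    change I.subschemeι (U0.ι (hVaff.fromSpec t)) ∈ good W Z
    exact (hVaff.fromSpec t).2
  obtain ⟨J, hJ, hJ'⟩ := exists_idl f j hj _ hsupp
  obtain ⟨Q', φ, hφ, hQ', hPQ⟩ := hP { B := D, I := J, isIdl := hJ }
  let g : spk k Q'.B ⟶ H := spkMap φ ≫ mT
  have hgl : g.left = (Spec.map (CommRingCat.ofHom φ.toRingHom) ≫ hVaff.fromSpec ≫ U0.ι) ≫ I.subschemeι := by
    change Spec.map _ ≫ hVaff.fromSpec ≫ U0.ι ≫ I.subschemeι = _
    simp only [Category.assoc]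
  let o := Spec.map (CommRingCat.ofHom φ.toRingHom) ≫ hVaff.fromSpec ≫ U0.ι
  have ho : IsOpenImmersion o := inferInstance
  let O : Set I.subscheme := Set.range o
  have hOo : IsOpen O := o.isOpenEmbedding.isOpen_range
  have hrg : Set.range g.left = I.subschemeι '' O := by
    rw [hgl, Scheme.Hom.comp_base, TopCat.coe_comp, Set.range_comp]
    rfl
  let C' : Closeds H.left := ⟨I.subschemeι '' Oᶜ, I.subschemeι.isClosedEmbedding.isClosedMap _ hOo.isClosed_compl⟩
  have hinj := I.subschemeι.isClosedEmbedding.injective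
  refine ⟨Q', g, C', hPQ, ?_, ?_, ?_, ?_, ?_⟩
  · rw [lt_iff_le_and_ne]
    constructor
    · rintro _ ⟨z, -, rfl⟩
      change _ ∈ (C : Set H.left)
      rw [← hrI]; exact ⟨z, rfl⟩
    · intro he
      have hne' : Nonempty (Spec (CommRingCat.of Q'.B)) := inferInstanceAs (Nonempty (PrimeSpectrum Q'.B))
      obtain ⟨t⟩ := hne'
      have h1 : I.subschemeι (o t) ∈ (C : Set H.left) := by rw [← hrI]; exact ⟨_, rfl⟩
      rw [← he] at h1
      obtain ⟨z, hz, hz'⟩ := h1
      exact hz (by rw [hinj hz']; exact ⟨t, rfl⟩)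
  · rw [hgl]; infer_instance
  · rw [pullObj_comp, ← hJ', pullObj_iobj, iobj_eq_iff]
    exact hQ'.symm
  · rw [hrg, ← hrI]
    ext y
    constructor
    · rintro ⟨⟨z, rfl⟩, hy⟩
      by_cases hz : z ∈ O
      · exact Or.inl ⟨z, hz, rfl⟩
      · exact Or.inr ⟨⟨z, hz, rfl⟩, hy⟩
    · rintro (⟨z, ⟨t, rfl⟩, rfl⟩ | ⟨⟨z, -, rfl⟩, hy⟩)
      · refine ⟨⟨_, rfl⟩, ?_⟩
        rw [← hW]
        exact (hVaff.fromSpec (Spec.map (CommRingCat.ofHom φ.toRingHom) t)).2
      · exact ⟨⟨_, rfl⟩, hy⟩
  · rw [hrg, Set.disjoint_left]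
    rintro _ ⟨z, hz, rfl⟩ ⟨z', hz', he⟩
    exact hz' (by rw [hinj he]; exact hz)

include hj hP in
/-- Noetherian induction. -/
theorem strata_aux (C : Closeds H.left) :
    ∃ (ι : Type) (_ : Fintype ι) (Q : ι → Piece k R d) (g : ∀ i, spk k (Q i).B ⟶ H),
      (∀ i, P (Q i)) ∧ (∀ i, pullObj f (g i) Z = iobj f j hj (Q i).I (Q i).isIdl) ∧
      (∀ i, Set.range (g i).left ⊆ (C : Set H.left) ∩ locus (Set.range j) Z) ∧
      ∀ (K : Type u) [Field K] (y : Spec (CommRingCat.of K) ⟶ H.left),
        (∀ p, y p ∈ (C : Set H.left) ∩ locus (Set.range j) Z) →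
        ∃! x : Σ i, (Spec (CommRingCat.of K) ⟶ Spec (CommRingCat.of (Q i).B)), x.2 ≫ (g x.1).left = y := by
  have hHN : IsNoetherian H.left := isNoetherian_of_ft H.hom
  induction C using WellFoundedLT.induction with
  | ind C IH =>
  by_cases hne : ((C : Set H.left) ∩ locus (Set.range j) Z).Nonempty
  · obtain ⟨Q₀, g₀, C', hP₀, hlt, himm, hpull, hU, hdisj⟩ := exists_first f j hj P hP C hne
    obtain ⟨ι, hι, Q, g, h1, h2, h3, h4⟩ := IH C' hlt
    let Q' : Option ι → Piece k R d := fun o => Option.elim o Q₀ Q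
    let g' : ∀ o, spk k (Q' o).B ⟶ H := fun o => match o with
      | none => g₀
      | some i => g i
    refine ⟨Option ι, inferInstance, Q', g', ?_, ?_, ?_, ?_⟩
    · rintro (_ | i)
      · exact hP₀
      · exact h1 i
    · rintro (_ | i)
      · exact hpull
      · exact h2 i
    · rintro (_ | i)
      · rw [hU]; exact Set.subset_union_left
      · rw [hU]; exact (h3 i).trans Set.subset_union_right
    · intro K _ y hy
      let p₀ : Spec (CommRingCat.of K) := (default : Spec (CommRingCat.of K))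
      have hp₀ : ∀ p : Spec (CommRingCat.of K), p = p₀ := fun p => Subsingleton.elim _ _
      by_cases hy0 : y p₀ ∈ Set.range g₀.left
      · obtain ⟨x, hx⟩ := Groth.Agent.Ega1.ReducedSub.exists_factor_of_range_subset y g₀.left (by
          rintro _ ⟨p, rfl⟩
          rw [hp₀ p]; exact hy0)
        refine ⟨⟨none, x⟩, hx, ?_⟩
        rintro ⟨_ | i, x'⟩ hx'
        · have : x' = x := by rw [← cancel_mono g₀.left, hx]; exact hx'
          rw [this]
        · exfalso
          have h5 : y p₀ ∈ Set.range (g i).left := by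
            have hx'' : x' ≫ (g i).left = y := hx'
            rw [← hx'', Scheme.Hom.comp_apply]; exact ⟨_, rfl⟩
          exact Set.disjoint_left.1 hdisj hy0 (h3 i h5).1
      · have hy1 : ∀ p, y p ∈ (C' : Set H.left) ∩ locus (Set.range j) Z := by
          intro p
          have h5 := hy p
          rw [hU] at h5
          rcases h5 with h5 | h5
          · rw [hp₀ p] at h5; exact absurd h5 hy0
          · exact h5
        obtain ⟨⟨i, x⟩, hx, hu⟩ := h4 K y hy1
        refine ⟨⟨some i, x⟩, hx, ?_⟩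
        rintro ⟨_ | i', x'⟩ hx'
        · exfalso
          apply hy0
          have hx'' : x' ≫ g₀.left = y := hx'
          rw [← hx'', Scheme.Hom.comp_apply]; exact ⟨_, rfl⟩
        · have h6 := hu ⟨i', x'⟩ hx'
          obtain ⟨rfl, h7⟩ := Sigma.mk.inj_iff.1 h6
          rw [eq_of_heq h7]
  · refine ⟨Empty, inferInstance, fun i => i.elim, fun i => i.elim, fun i => i.elim, fun i => i.elim,
      fun i => i.elim, ?_⟩
    intro K _ y hy
    exact absurd ⟨_, hy (default : Spec (CommRingCat.of K))⟩ hne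

include hj hZ hP in
/-- **Strata** of the Hilbert scheme of points of a chart. -/
theorem exists_strata :
    ∃ (ι : Type) (_ : Fintype ι) (Q : ι → Piece k R d), (∀ i, P (Q i)) ∧
      JointBij k R d (fun i => (Q i).B) (fun i => (Q i).I) := by
  obtain ⟨ι, hι, Q, g, h1, h2, h3, h4⟩ := strata_aux (Z := Z) f j hj P hP ⊤
  refine ⟨ι, hι, Q, h1, ?_⟩
  intro K _ _ J hJ
  obtain ⟨y, hy, -⟩ := hZ (spk k K) (iobj f j hj J hJ)
  have hy' : pullObj f y Z = iobj f j hj J hJ := Subtype.ext hy
  have hW : ∀ p, y.left p ∈ ((⊤ : Closeds H.left) : Set H.left) ∩ locus (Set.range j) Z := by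
    intro p
    refine ⟨trivial, ?_⟩
    have h5 : Supp (Set.range j) (pullObj f y Z) := by rw [hy']; exact supp_iobj f j hj _
    exact (supp_pull_iff _ _ _).1 h5 p
  obtain ⟨⟨i, x⟩, hx, hu⟩ := h4 K y.left hW
  have key : ∀ (i : ι) (φ : (Q i).B →ₐ[k] K), (spkMap φ).left ≫ (g i).left = y.left ↔
      (Q i).I.map (bc φ) = J := by
    intro i φ
    have e1 : pullObj f (spkMap φ ≫ g i) Z = iobj f j hj ((Q i).I.map (bc φ)) ((Q i).isIdl.map φ) := by
      rw [pullObj_comp, h2, pullObj_iobj]
    constructor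
    · intro h
      have h5 : spkMap φ ≫ g i = y := by ext1; exact h
      rw [h5, hy', iobj_eq_iff] at e1
      exact e1.symm
    · intro h
      have h5 : spkMap φ ≫ g i = y := by
        have h6 : pullObj f (spkMap φ ≫ g i) Z = pullObj f y Z := by
          rw [e1, hy', iobj_eq_iff, h]
        exact hom_ext_of_isUniversal hZ (congrArg Subtype.val h6)
      exact congrArg CommaMorphism.left h5
  have hlift : ∀ (i : ι) (x : Spec (CommRingCat.of K) ⟶ Spec (CommRingCat.of (Q i).B)),
      x ≫ (g i).left = y.left → ∃ φ : (Q i).B →ₐ[k] K, (spkMap φ).left = x := by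
    intro i x hx
    have hw : x ≫ (spk k (Q i).B).hom = (spk k K).hom := by
      rw [← Over.w (g i), ← Category.assoc, hx, Over.w]
    obtain ⟨φ, hφ⟩ := exists_spkMap_eq (Over.homMk x hw : spk k K ⟶ spk k (Q i).B)
    exact ⟨φ, by rw [hφ]; rfl⟩
  obtain ⟨φ, hφ⟩ := hlift i x hx
  refine ⟨⟨i, φ⟩, ?_, ?_⟩
  · dsimp only at hx ⊢
    rw [← key, hφ, hx]
  · rintro ⟨i', φ'⟩ h'
    dsimp only at h'
    have h6 := hu ⟨i', (spkMap φ').left⟩ ((key i' φ').2 h')
    obtain ⟨rfl, h7⟩ := Sigma.mk.inj_iff.1 h6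
    have h8 := eq_of_heq h7
    rw [← hφ] at h8
    congr 1
    have h9 := Spec.map_injective h8
    ext b
    exact congr($(h9).hom b)

end

end K842.Strata
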