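import Groth.Agent.HilbZeta.K842.PoleField
import Groth.Agent.HilbZeta.K842.Strata

/-!
# Spreading out from the generic point
-/

set_option autoImplicit false
set_option backward.isDefEq.respectTransparency false
universe u v w

open TensorProduct CategoryTheory AlgebraicGeometry

namespace K842.PoleGen

open K842.QFam K842.Pole K842.PoleField K842.Strata

section ev

variable {D : Type u} [CommRing D] [IsDomain D]

/-- holds for all sufficiently divisible nonzero elements. -/
def Ev (p : D → Prop) : Prop := ∃ s : D, s ≠ 0 ∧ ∀ h, h ≠ 0 → s ∣ h → p h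

theorem Ev.mono {p q : D → Prop} (h : Ev p) (hpq : ∀ s, s ≠ 0 → p s → q s) : Ev q := by
  obtain ⟨s, hs, h⟩ := h
  exact ⟨s, hs, fun t ht hst => hpq t ht (h t ht hst)⟩

theorem Ev.and {p q : D → Prop} (h : Ev p) (h' : Ev q) : Ev (fun s => p s ∧ q s) := by
  obtain ⟨s, hs, h⟩ := h
  obtain ⟨s', hs', h'⟩ := h'
  exact ⟨s * s', mul_ne_zero hs hs', fun t ht hst =>
    ⟨h t ht ((dvd_mul_right _ _).trans hst), h' t ht ((dvd_mul_left _ _).trans hst)⟩⟩

theorem Ev.forall_finite {T : Set ℕ} (hT : T.Finite) {p : ℕ → D → Prop} (h : ∀ m ∈ T, Ev (p m)) :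
    Ev (fun s => ∀ m ∈ T, p m s) := by
  induction T, hT using Set.Finite.induction_on with
  | empty => exact ⟨1, one_ne_zero, fun _ _ _ m hm => absurd hm (Set.notMem_empty m)⟩
  | @insert a S _ _ ih =>
    refine ((h a (Set.mem_insert _ _)).and (ih fun m hm => h m (Set.mem_insert_of_mem _ hm))).mono ?_
    rintro s - ⟨h1, h2⟩ m hm
    rcases hm with rfl | hm
    · exact h1
    · exact h2 m hm

theorem Ev.exists {p : D → Prop} (h : Ev p) : ∃ s, s ≠ 0 ∧ p s := by
  obtain ⟨s, hs, h⟩ := h
  exact ⟨s, hs, h s hs dvd_rfl⟩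

end ev

section div

variable {k A : Type u} [Field k] [CommRing A] [Algebra k A] (P : PD k A)
  {B C : Type u} [CommRing B] [Algebra k B] [CommRing C] [Algebra k C] (φ : B →ₐ[k] C)

include P in
theorem bc_injective (hφ : Function.Injective φ) : Function.Injective (bc (R := A) φ) := by
  intro x y h
  apply ext_co P
  intro n
  apply hφ
  rw [← co_bc, ← co_bc, h]

theorem mon_of_bc (hφ : Function.Injective φ) {m : ℕ} {x : B ⊗[k] A} (h : Mon P m (bc φ x)) : Mon P m x := by
  refine ⟨h.1, hφ ?_, fun l hl => hφ ?_⟩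
  · rw [← co_bc, h.2.1, map_one]
  · rw [← co_bc, h.2.2 l hl, map_zero]

/-- Divisibility by monic elements descends. -/
theorem exists_div_of_bc (hφ : Function.Injective φ) {m : ℕ} {v : B ⊗[k] A} (hv : Mon P m v)
    (x : B ⊗[k] A) (z : C ⊗[k] A) (h : bc φ x = z * bc φ v) : ∃ z', x = z' * v := by
  obtain ⟨N, hN⟩ := exists_mem_fil P z
  induction N generalizing x z with
  | zero =>
    rw [fil_zero, Submodule.mem_bot] at hN
    rw [hN, zero_mul] at h
    exact ⟨0, by rw [zero_mul]; exact bc_injective P φ hφ (h.trans (map_zero _).symm)⟩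
  | succ N ih =>
    have h1 : co P N z = φ (co P (N + m) x) := by
      rw [← co_bc, h, co_mul P hN (hv.bc φ).2.2, (hv.bc φ).2.1, mul_one]
    obtain ⟨z', hz'⟩ := ih (x - co P (N + m) x • (e P B N * v)) (z - co P N z • e P C N) (by
      rw [map_sub, bc_smul, map_mul, bc_e, h, h1, sub_mul, smul_mul_assoc]) (sub_mem P hN)
    refine ⟨z' + co P (N + m) x • e P B N, ?_⟩
    rw [add_mul, ← hz', smul_mul_assoc, sub_add_cancel]

theorem mem_span_of_bc (hφ : Function.Injective φ) {m : ℕ} {v : B ⊗[k] A} (hv : Mon P m v)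
    {x : B ⊗[k] A} (h : bc φ x ∈ Ideal.span {bc φ v}) : x ∈ Ideal.span {v} := by
  obtain ⟨z, hz⟩ := Ideal.mem_span_singleton'.1 h
  obtain ⟨z', rfl⟩ := exists_div_of_bc P φ hφ hv x z hz.symm
  exact Ideal.mul_mem_left _ _ (Ideal.mem_span_singleton_self v)

end div

section loc

variable {k A : Type u} [Field k] [CommRing A] [Algebra k A] (P : PD k A)
  {D : Type u} [CommRing D] [IsDomain D] [Algebra k D]

/-- to the fraction field. -/
noncomputable abbrev toL (D : Type u) [CommRing D] [IsDomain D] [Algebra k D] : D →ₐ[k] FractionRing D :=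
  IsScalarTower.toAlgHom k D (FractionRing D)

/-- to the localization. -/
noncomputable abbrev toH (h : D) : D →ₐ[k] Localization.Away h :=
  IsScalarTower.toAlgHom k D (Localization.Away h)

/-- from the localization to the fraction field. -/
noncomputable def toHL (h : D) (hh : h ≠ 0) : Localization.Away h →ₐ[k] FractionRing D :=
  { IsLocalization.Away.lift h (S := Localization.Away h) (g := algebraMap D (FractionRing D))
      (IsUnit.mk0 _ (by
        rwa [Ne, IsFractionRing.to_map_eq_zero_iff])) with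
    commutes' := fun r => by
      change IsLocalization.Away.lift h _ (algebraMap k (Localization.Away h) r) = _
      rw [IsScalarTower.algebraMap_apply k D (Localization.Away h), IsLocalization.Away.lift_eq,
        ← IsScalarTower.algebraMap_apply] }

theorem toHL_toH (h : D) (hh : h ≠ 0) (d : D) :
    toHL (k := k) h hh (toH (k := k) h d) = toL (k := k) D d :=
  IsLocalization.Away.lift_eq h (IsUnit.mk0 _ (by
    rwa [Ne, IsFractionRing.to_map_eq_zero_iff])) d

theorem toHL_comp (h : D) (hh : h ≠ 0) : (toHL (k := k) h hh).comp (toH h) = toL D :=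
  AlgHom.ext fun d => toHL_toH h hh d

theorem toHL_injective (h : D) (hh : h ≠ 0) : Function.Injective (toHL (k := k) h hh) := by
  rw [injective_iff_map_eq_zero]
  intro x hx
  obtain ⟨⟨d, s⟩, hs⟩ := IsLocalization.surj (Submonoid.powers h) x
  have h1 : toHL (k := k) h hh (x * algebraMap D (Localization.Away h) s) = toL (k := k) D d := by
    rw [hs]; exact toHL_toH h hh d
  rw [map_mul, hx, zero_mul] at h1
  have h2 : d = 0 := (IsFractionRing.to_map_eq_zero_iff (K := FractionRing D)).1 h1.symm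
  have h3 : x * algebraMap D (Localization.Away h) s = 0 := by rw [hs]; simp [h2]
  have h4 : IsUnit (algebraMap D (Localization.Away h) s) := IsLocalization.map_units _ s
  exact (h4.mul_left_eq_zero).1 h3

theorem bc_comp' {B C E : Type u} [CommRing B] [Algebra k B] [CommRing C] [Algebra k C] [CommRing E]
    [Algebra k E] (φ : B →ₐ[k] C) (ψ : C →ₐ[k] E) (x : B ⊗[k] A) : bc ψ (bc φ x) = bc (ψ.comp φ) x := by
  induction x using TensorProduct.induction_on with
  | zero => simp
  | add x y hx hy => rw [map_add, map_add, map_add, hx, hy]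
  | tmul b a => rw [bc_tmul, bc_tmul, bc_tmul]; rfl

theorem map_map_bc {B C E : Type u} [CommRing B] [Algebra k B] [CommRing C] [Algebra k C] [CommRing E]
    [Algebra k E] (φ : B →ₐ[k] C) (ψ : C →ₐ[k] E) (I : Ideal (B ⊗[k] A)) :
    (I.map (bc φ)).map (bc ψ) = I.map (bc (ψ.comp φ)) := by
  have h1 : (bc (R := A) ψ).toRingHom.comp (bc φ).toRingHom = (bc (ψ.comp φ)).toRingHom :=
    RingHom.ext fun x => bc_comp' φ ψ x
  have h2 := Ideal.map_map (I := I) (bc (R := A) φ).toRingHom (bc ψ).toRingHom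
  rw [h1] at h2
  exact h2

/-- denominators of elements. -/
theorem exists_den (w : FractionRing D ⊗[k] A) : ∃ s : D, s ≠ 0 ∧ ∃ x : D ⊗[k] A,
    toL (k := k) D s • w = bc (toL D) x := by
  induction w using TensorProduct.induction_on with
  | zero => exact ⟨1, one_ne_zero, 0, by rw [map_zero, smul_zero]⟩
  | tmul c a =>
    obtain ⟨x, y, hy, rfl⟩ := IsFractionRing.div_surjective (A := D) c
    refine ⟨y, nonZeroDivisors.ne_zero hy, x ⊗ₜ a, ?_⟩
    rw [bc_tmul, TensorProduct.smul_tmul', smul_eq_mul]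
    congr 1
    change algebraMap D _ y * (algebraMap D _ x / algebraMap D _ y) = algebraMap D _ x
    have : algebraMap D (FractionRing D) y ≠ 0 := by
      rw [Ne, IsFractionRing.to_map_eq_zero_iff]; exact nonZeroDivisors.ne_zero hy
    field_simp
  | add x y hx hy =>
    obtain ⟨s, hs, x', hx'⟩ := hx
    obtain ⟨t, ht, y', hy'⟩ := hy
    refine ⟨s * t, mul_ne_zero hs ht, t • x' + s • y', ?_⟩
    rw [map_add, bc_smul, bc_smul, ← hx', ← hy', map_mul, smul_add, smul_smul, smul_smul,
      mul_comm (toL D s) (toL D t)]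

/-- denominators of elements of an extended ideal. -/
theorem exists_den_mem (I : Ideal (D ⊗[k] A)) {w : FractionRing D ⊗[k] A} (hw : w ∈ I.map (bc (toL D))) :
    ∃ s : D, s ≠ 0 ∧ ∃ x ∈ I, toL (k := k) D s • w = bc (toL D) x := by
  have hw' : w ∈ Submodule.span (FractionRing D ⊗[k] A) ((bc (toL (k := k) D)) '' (I : Set (D ⊗[k] A))) := hw
  clear hw
  induction hw' using Submodule.span_induction with
  | mem w hw =>
    obtain ⟨x, hx, rfl⟩ := hw
    exact ⟨1, one_ne_zero, x, hx, by rw [map_one, one_smul]⟩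
  | zero => exact ⟨1, one_ne_zero, 0, I.zero_mem, by rw [map_zero, smul_zero]⟩
  | add x y hx hy ihx ihy =>
    obtain ⟨s, hs, x', hx'I, hx'⟩ := ihx
    obtain ⟨t, ht, y', hy'I, hy'⟩ := ihy
    refine ⟨s * t, mul_ne_zero hs ht, t • x' + s • y', I.add_mem (I.smul_of_tower_mem _ hx'I)
      (I.smul_of_tower_mem _ hy'I), ?_⟩
    rw [map_add, bc_smul, bc_smul, ← hx', ← hy', map_mul, smul_add, smul_smul, smul_smul,
      mul_comm (toL D s) (toL D t)]
  | smul r x hx ih =>
    obtain ⟨s, hs, x', hx'I, hx'⟩ := ih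
    obtain ⟨t, ht, r', hr'⟩ := exists_den (k := k) (A := A) (D := D) r
    refine ⟨t * s, mul_ne_zero ht hs, r' * x', I.mul_mem_left _ hx'I, ?_⟩
    rw [map_mul, map_mul, ← hx', ← hr', smul_eq_mul, smul_mul_smul_comm]

/-- Lifting elements of an extended ideal to a localization. -/
theorem ev_lift (I : Ideal (D ⊗[k] A)) {w : FractionRing D ⊗[k] A} (hw : w ∈ I.map (bc (toL D))) :
    Ev (fun h : D => ∀ hh : h ≠ 0, ∃ w' ∈ I.map (bc (toH (k := k) h)), bc (toHL (k := k) h hh) w' = w) := by
  obtain ⟨s, hs, x, hx, hx'⟩ := exists_den_mem I hw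
  refine ⟨s, hs, fun h _ hsh hh => ?_⟩
  have h1 : IsUnit (algebraMap D (Localization.Away h) s) := by
    obtain ⟨c, rfl⟩ := hsh
    have := IsLocalization.Away.algebraMap_isUnit (S := Localization.Away (s * c)) (s * c)
    rw [map_mul] at this
    exact isUnit_of_mul_isUnit_left this
  obtain ⟨u, hu⟩ := h1
  refine ⟨(↑u⁻¹ : Localization.Away h) • bc (toH (k := k) h) x,
    Submodule.smul_of_tower_mem _ _ (Ideal.mem_map_of_mem _ hx), ?_⟩
  rw [bc_smul, bc_comp', toHL_comp, ← hx', smul_smul]
  have h2 : toHL (k := k) h hh (↑u⁻¹ : Localization.Away h) * toL (k := k) D s = 1 := by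
    rw [← toHL_toH h hh, ← map_mul]
    change toHL (k := k) h hh (↑u⁻¹ * algebraMap D (Localization.Away h) s) = 1
    rw [← hu, Units.inv_mul, map_one]
  rw [h2, one_smul]

end loc

end K842.PoleGen
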