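import Groth.Agent.HilbZeta.K842.PoleGen

/-!
# Good pieces: families with explicit monic elements
-/

set_option autoImplicit false
set_option backward.isDefEq.respectTransparency false
universe u v w

open TensorProduct CategoryTheory AlgebraicGeometry

namespace K842.PoleGood

open K842.QFam K842.Pole K842.PoleField K842.Strata K842.PoleGen

variable {k A : Type u} [Field k] [CommRing A] [Algebra k A] (P : PD k A)

/-- Explicit data on a piece. -/
structure GoodData (c : ℕ) {n : ℕ} (Q : Piece k A n) where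
  /-- the residual ideal -/
  J : Ideal (Q.B ⊗[k] A)
  /-- the reference element -/
  v : Q.B ⊗[k] A
  mon : Mon P (gap P + n + c) v
  mul : J * Q.I = Ideal.span {v}
  /-- pole orders -/
  Δ : Set ℕ
  /-- pole orders of the residual ideal -/
  Δ' : Set ℕ
  sub : Δ ⊆ P.Γ
  sub' : Δ' ⊆ P.Γ
  fin : (P.Γ \ Δ).Finite
  card : (P.Γ \ Δ).ncard = n
  fin' : (P.Γ \ Δ').Finite
  card' : (P.Γ \ Δ').ncard = gap P + c
  ex : ∀ m ∈ Δ, ∃ w ∈ Q.I, Mon P m w
  ex' : ∀ m ∈ Δ', ∃ w ∈ J, Mon P m w

theorem exists_good (hded : ∀ (K : Type u) [Field K] [Algebra k K], IsDedekindDomain (K ⊗[k] A))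
    (c : ℕ) (hc : ∀ n, c ≤ n → n ∈ P.Γ) {n : ℕ} (Q : Piece k A n) :
    ∃ (Q' : Piece k A n) (φ : Q.B →ₐ[k] Q'.B), IsOpenImmersion (Spec.map (CommRingCat.ofHom φ.toRingHom)) ∧
      Q'.I = Q.I.map (bc φ) ∧ Nonempty (GoodData P c Q') := by
  obtain ⟨D, I, hI⟩ := Q
  let L := FractionRing D
  have hded' : IsDedekindDomain (L ⊗[k] A) := hded L
  let IL : Ideal (L ⊗[k] A) := I.map (bc (toL D))
  obtain ⟨hfin, hn⟩ := (isIdl_iff_of_field _).1 (hI.map (toL D))
  have hm₀ : gap P + n + c ∈ dl P IL := mem_dl_of_le P hc IL hfin (by rw [hn])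
  obtain ⟨vL, hvL, hvL'⟩ := hm₀
  obtain ⟨JL, hJL⟩ := PoleField.exists_compl hvL
  obtain ⟨hf1, -, hf3⟩ := finrank_of_mul_eq P hvL' hJL
  have hJn : Module.finrank L ((L ⊗[k] A) ⧸ JL) = gap P + c := by
    have : Module.finrank L ((L ⊗[k] A) ⧸ IL) = n := hn
    omega
  have hvJ : vL ∈ JL := by
    have : vL ∈ JL * IL := by rw [hJL]; exact Ideal.mem_span_singleton_self _
    exact Ideal.mul_le_left this
  let JD : Ideal (D ⊗[k] A) := JL.comap (bc (toL D))
  have hJD : JD.map (bc (toL D)) = JL := by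
    apply le_antisymm Ideal.map_comap_le
    intro w hw
    obtain ⟨s, hs, x, hx⟩ := exists_den (k := k) w
    have hs' : toL (k := k) D s ≠ 0 := by
      change algebraMap D L s ≠ 0
      rwa [Ne, IsFractionRing.to_map_eq_zero_iff]
    have hxJ : x ∈ JD := by
      rw [Ideal.mem_comap, ← hx]
      exact JL.smul_of_tower_mem _ hw
    have h1 : w = (toL (k := k) D s)⁻¹ • bc (toL D) x := by
      rw [← hx, smul_smul, inv_mul_cancel₀ hs', one_smul]
    rw [h1]
    exact Submodule.smul_of_tower_mem _ _ (Ideal.mem_map_of_mem _ hxJ)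
  have hJI : (JD * I).map (bc (toL D)) = Ideal.span {vL} := by
    rw [Ideal.map_mul, hJD]; exact hJL
  have ev1 := ev_lift (JD * I) (w := vL) (by rw [hJI]; exact Ideal.mem_span_singleton_self _)
  have hT : (dl P IL \ shift (gap P + n + c) P.Γ).Finite :=
    (finite_diff_shift P (m := gap P + n + c)).subset (Set.diff_subset_diff_left (dl_subset P _))
  have hT' : (dl P JL \ shift (gap P + n + c) P.Γ).Finite :=
    (finite_diff_shift P (m := gap P + n + c)).subset (Set.diff_subset_diff_left (dl_subset P _))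
  have ev2 : Ev (fun h : D => ∀ m ∈ dl P IL \ shift (gap P + n + c) P.Γ, ∀ hh : h ≠ 0,
      ∃ w' ∈ I.map (bc (toH (k := k) h)), Mon P m w') := by
    apply Ev.forall_finite hT
    rintro m ⟨⟨w, hw, hw'⟩, -⟩
    refine (ev_lift I hw).mono fun s hs h hh => ?_
    obtain ⟨w', h1, h2⟩ := h hh
    exact ⟨w', h1, mon_of_bc P (toHL s hs) (toHL_injective s hs) (by rw [h2]; exact hw')⟩
  have ev3 : Ev (fun h : D => ∀ m ∈ dl P JL \ shift (gap P + n + c) P.Γ, ∀ hh : h ≠ 0,
      ∃ w' ∈ JD.map (bc (toH (k := k) h)), Mon P m w') := by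
    apply Ev.forall_finite hT'
    rintro m ⟨⟨w, hw, hw'⟩, -⟩
    rw [← hJD] at hw
    refine (ev_lift JD hw).mono fun s hs h hh => ?_
    obtain ⟨w', h1, h2⟩ := h hh
    exact ⟨w', h1, mon_of_bc P (toHL s hs) (toHL_injective s hs) (by rw [h2]; exact hw')⟩
  obtain ⟨h, hh, ⟨h1, h2⟩, h3⟩ := ((ev1.and ev2).and ev3).exists
  obtain ⟨v, hv, hv'⟩ := h1 hh
  have hvm : Mon P (gap P + n + c) v :=
    mon_of_bc P (toHL h hh) (toHL_injective h hh) (by rw [hv']; exact hvL')
  have hdom : IsDomain (Localization.Away h) :=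
    IsLocalization.isDomain_localization (powers_le_nonZeroDivisors_of_noZeroDivisors hh)
  have hmul : JD.map (bc (toH (k := k) h)) * I.map (bc (toH (k := k) h)) = Ideal.span {v} := by
    rw [← Ideal.map_mul]
    apply le_antisymm
    · rw [Ideal.map_le_iff_le_comap]
      intro x hx
      rw [Ideal.mem_comap]
      apply mem_span_of_bc P (toHL h hh) (toHL_injective h hh) hvm
      rw [hv', bc_comp', toHL_comp, ← hJI]
      exact Ideal.mem_map_of_mem _ hx
    · rw [Ideal.span_singleton_le_iff_mem]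
      exact hv
  have hvI : v ∈ I.map (bc (toH (k := k) h)) := by
    have : v ∈ JD.map (bc (toH (k := k) h)) * I.map (bc (toH (k := k) h)) := by
      rw [hmul]; exact Ideal.mem_span_singleton_self _
    exact Ideal.mul_le_right this
  have hvJ' : v ∈ JD.map (bc (toH (k := k) h)) := by
    have : v ∈ JD.map (bc (toH (k := k) h)) * I.map (bc (toH (k := k) h)) := by
      rw [hmul]; exact Ideal.mem_span_singleton_self _
    exact Ideal.mul_le_left this
  refine ⟨{ B := Localization.Away h, I := I.map (bc (toH (k := k) h)), isIdl := hI.map _ },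
    toH (k := k) h, ?_, rfl, ⟨?_⟩⟩
  · exact Scheme.isOpenImmersion_SpecMap_localizationAway (R := CommRingCat.of D) h
  · refine
      { J := JD.map (bc (toH (k := k) h))
        v := v
        mon := hvm
        mul := hmul
        Δ := dl P IL
        Δ' := dl P JL
        sub := dl_subset P _
        sub' := dl_subset P _
        fin := (finite_iff P IL).1 hfin
        card := (finrank_eq P IL).symm.trans hn
        fin' := (finite_iff P JL).1 hf1
        card' := (finrank_eq P JL).symm.trans hJn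
        ex := ?_
        ex' := ?_ }
    · intro m hm
      by_cases hm' : m ∈ shift (gap P + n + c) P.Γ
      · obtain ⟨l, hl, rfl⟩ := hm'
        exact ⟨e P _ l * v, Ideal.mul_mem_left _ _ hvI, (mon_e P hl).mul hvm⟩
      · exact h2 m ⟨hm, hm'⟩ hh
    · intro m hm
      by_cases hm' : m ∈ shift (gap P + n + c) P.Γ
      · obtain ⟨l, hl, rfl⟩ := hm'
        exact ⟨e P _ l * v, Ideal.mul_mem_left _ _ hvJ', (mon_e P hl).mul hvm⟩
      · exact h3 m ⟨hm, hm'⟩ hh

end K842.PoleGood
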