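import Groth.Agent.HilbZeta.K842.Pole

/-!
# Rings with one place at infinity from leading coefficient relations
-/

set_option autoImplicit false
set_option backward.isDefEq.respectTransparency false
universe u v w

open TensorProduct

namespace K842.PoleLC

open K842.Pole

/-- `R n a c`: the element `a` has pole order `≤ n` and its `n`-th leading coefficient is `c`. -/
structure LC (k A : Type u) [Field k] [CommRing A] [Algebra k A] where
  /-- the relation -/
  R : ℕ → A → k → Prop
  uniq : ∀ {n : ℕ} {a : A} {c c' : k}, R n a c → R n a c' → c = c'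
  add : ∀ {n : ℕ} {a b : A} {c d : k}, R n a c → R n b d → R n (a + b) (c + d)
  smul : ∀ {n : ℕ} {a : A} {c : k} (r : k), R n a c → R n (r • a) (r * c)
  mul : ∀ {m n : ℕ} {a b : A} {c d : k}, R m a c → R n b d → R (m + n) (a * b) (c * d)
  up : ∀ {n : ℕ} {a : A} {c : k}, R n a c → R (n + 1) a 0
  down : ∀ {n : ℕ} {a : A}, R (n + 1) a 0 → ∃ c, R n a c
  zero_const : ∀ {a : A} {c : k}, R 0 a c → a = algebraMap k A c
  one : R 0 1 1
  ex : ∀ a : A, ∃ n c, R n a c
  consec : ∃ n a b, R n a 1 ∧ R (n + 1) b 1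

section

variable {k A : Type u} [Field k] [CommRing A] [Algebra k A] (L : LC k A)

/-- the pole orders. -/
def G : Set ℕ := {n | ∃ a, L.R n a 1}

theorem zero_mem_G : 0 ∈ G L := ⟨1, L.one⟩

theorem add_mem_G {m n : ℕ} (hm : m ∈ G L) (hn : n ∈ G L) : m + n ∈ G L := by
  obtain ⟨a, ha⟩ := hm
  obtain ⟨b, hb⟩ := hn
  exact ⟨a * b, by simpa using L.mul ha hb⟩

theorem mul_mem_G {m : ℕ} (hm : m ∈ G L) (q : ℕ) : q * m ∈ G L := by
  induction q with
  | zero => simpa using zero_mem_G L
  | succ q ih => rw [add_mul, one_mul]; exact add_mem_G L ih hm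

theorem mem_G_of_ne_zero {n : ℕ} {a : A} {c : k} (h : L.R n a c) (hc : c ≠ 0) : n ∈ G L :=
  ⟨c⁻¹ • a, by simpa [hc] using L.smul c⁻¹ h⟩

theorem finite_compl_G : (G L)ᶜ.Finite := by
  obtain ⟨n, a, b, ha, hb⟩ := L.consec
  have hn : n ∈ G L := ⟨a, ha⟩
  have hn1 : n + 1 ∈ G L := ⟨b, hb⟩
  refine (Set.finite_lt_nat (n * n)).subset ?_
  intro m hm
  rw [Set.mem_compl_iff] at hm
  rw [Set.mem_setOf_eq]
  by_contra h
  apply hm
  push Not at h
  rcases Nat.eq_zero_or_pos n with h0 | h0
  · subst h0
    simpa using mul_mem_G L hn1 m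
  · have h1 : m % n < n := Nat.mod_lt _ h0
    have h2 : n * (m / n) + m % n = m := Nat.div_add_mod m n
    have h3 : n ≤ m / n := (Nat.le_div_iff_mul_le h0).2 h
    have h4 : (m / n - m % n) * n + (m % n) * (n + 1) = m := by
      obtain ⟨q, hq⟩ : ∃ q, m / n = q + m % n := ⟨m / n - m % n, by omega⟩
      rw [hq] at h2 ⊢
      rw [Nat.add_sub_cancel]
      nlinarith [h2]
    rw [← h4]
    exact add_mem_G L (mul_mem_G L hn _) (mul_mem_G L hn1 _)

theorem R_zero (n : ℕ) : L.R n 0 0 := by
  obtain ⟨m, c, h⟩ := L.ex (0 : A)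
  have h0 : L.R 0 0 0 := by simpa using L.smul 0 L.one
  induction n with
  | zero => exact h0
  | succ n ih => exact L.up ih

theorem R_up {m n : ℕ} (h : m < n) {a : A} {c : k} (ha : L.R m a c) : L.R n a 0 := by
  obtain ⟨d, rfl⟩ := Nat.exists_eq_add_of_lt h
  induction d with
  | zero => exact L.up ha
  | succ d ih => exact L.up (ih (by omega))

theorem R_sum {ι : Type*} (s : Finset ι) (n : ℕ) (a : ι → A) (c : ι → k) (h : ∀ i ∈ s, L.R n (a i) (c i)) :
    L.R n (∑ i ∈ s, a i) (∑ i ∈ s, c i) := by
  classical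
  induction s using Finset.induction_on with
  | empty => simpa using R_zero L n
  | insert i s hi ih =>
    rw [Finset.sum_insert hi, Finset.sum_insert hi]
    exact L.add (h i (Finset.mem_insert_self _ _)) (ih fun j hj => h j (Finset.mem_insert_of_mem hj))

/-- chosen elements. -/
noncomputable def bb (n : G L) : A := n.2.choose

theorem bb_spec (n : G L) : L.R n (bb L n) 1 := n.2.choose_spec

theorem R_lin (l : G L →₀ k) (N : G L) (h : ∀ n ∈ l.support, n ≤ N) :
    L.R N (Finsupp.linearCombination k (bb L) l) (l N) := by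
  classical
  rw [Finsupp.linearCombination_apply, Finsupp.sum]
  have h1 : l N = ∑ n ∈ l.support, if n = N then l N else 0 := by
    rw [Finset.sum_ite_eq']
    split_ifs with h
    · rfl
    · exact Finsupp.notMem_support_iff.1 h
  rw [h1]
  refine R_sum L _ _ _ _ fun n hn => ?_
  split_ifs with h2
  · subst h2
    simpa using L.smul (l n) (bb_spec L n)
  · have h3 : (n : ℕ) < N := lt_of_le_of_ne (h n hn) (fun h => h2 (Subtype.ext h))
    simpa using L.smul (l n) (R_up L h3 (bb_spec L n))

theorem eq_zero_of_lin (l : G L →₀ k) {N : ℕ} {c : k} (h : L.R N (Finsupp.linearCombination k (bb L) l) c)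
    (M : G L) (hM : N < M) : l M = 0 := by
  classical
  by_contra hne
  let S : Finset (G L) := l.support.filter fun n : G L => N < (n : ℕ)
  have hS : S.Nonempty := ⟨M, Finset.mem_filter.2 ⟨Finsupp.mem_support_iff.2 hne, hM⟩⟩
  let M' := S.max' hS
  have hM' : M' ∈ S := S.max'_mem hS
  rw [Finset.mem_filter] at hM'
  have h1 := R_lin L l M' (by
    intro n hn
    by_cases h2 : N < (n : ℕ)
    · exact S.le_max' n (Finset.mem_filter.2 ⟨hn, h2⟩)
    · push Not at h2
      exact Subtype.coe_le_coe.1 (h2.trans hM'.2.le))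
  have h2 := L.uniq h1 (R_up L hM'.2 h)
  exact Finsupp.mem_support_iff.1 hM'.1 h2

theorem linearIndependent : LinearIndependent k (bb L) := by
  rw [linearIndependent_iff]
  intro l hl
  have h0 : L.R 0 (Finsupp.linearCombination k (bb L) l) 0 := by rw [hl]; exact R_zero L 0
  have h1 : ∀ M : G L, 0 < (M : ℕ) → l M = 0 := fun M hM => eq_zero_of_lin L l h0 M hM
  ext M
  rcases Nat.eq_zero_or_pos (M : ℕ) with h | h
  · have h2 := R_lin L l M (fun n hn => by
      by_contra h3
      push Not at h3
      exact Finsupp.mem_support_iff.1 hn (h1 n (by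
        have : (M : ℕ) < n := h3
        omega)))
    rw [hl, h] at h2
    exact L.uniq h2 (R_zero L 0)
  · exact h1 M h

theorem mem_span (n : ℕ) : ∀ (a : A) (c : k), L.R n a c → a ∈ Submodule.span k (Set.range (bb L)) := by
  induction n with
  | zero =>
    intro a c h
    have h1 : bb L ⟨0, zero_mem_G L⟩ = 1 := by
      have := L.zero_const (bb_spec L ⟨0, zero_mem_G L⟩)
      rw [this, map_one]
    have h2 : a = c • bb L ⟨0, zero_mem_G L⟩ := by
      rw [h1, L.zero_const h, Algebra.algebraMap_eq_smul_one]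
    rw [h2]
    exact Submodule.smul_mem _ _ (Submodule.subset_span ⟨_, rfl⟩)
  | succ n ih =>
    intro a c h
    by_cases hc : c = 0
    · subst hc
      obtain ⟨c', h'⟩ := L.down h
      exact ih a c' h'
    · have hn := mem_G_of_ne_zero L h hc
      have h1 : L.R (n + 1) (a + (-c) • bb L ⟨n + 1, hn⟩) 0 := by
        simpa using L.add h (L.smul (-c) (bb_spec L ⟨n + 1, hn⟩))
      obtain ⟨c', h'⟩ := L.down h1
      have h2 := ih _ c' h'
      have h3 : a = (a + (-c) • bb L ⟨n + 1, hn⟩) + c • bb L ⟨n + 1, hn⟩ := by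
        rw [add_assoc, ← add_smul, neg_add_cancel, zero_smul, add_zero]
      rw [h3]
      exact Submodule.add_mem _ h2 (Submodule.smul_mem _ _ (Submodule.subset_span ⟨_, rfl⟩))

theorem span_top : ⊤ ≤ Submodule.span k (Set.range (bb L)) := by
  intro a _
  obtain ⟨n, c, h⟩ := L.ex a
  exact mem_span L n a c h

/-- the basis. -/
noncomputable def basis : Module.Basis (G L) k A := Module.Basis.mk (linearIndependent L) (span_top L)

theorem basis_apply (n : G L) : basis L n = bb L n := by rw [basis, Module.Basis.mk_apply]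

theorem lin_repr (x : A) : Finsupp.linearCombination k (bb L) ((basis L).repr x) = x := by
  conv_rhs => rw [← (basis L).linearCombination_repr x]
  congr 1
  congr 1
  exact funext fun n => (basis_apply L n).symm

theorem repr_eq_zero {x : A} {N : ℕ} {c : k} (h : L.R N x c) (M : G L) (hM : N < M) :
    (basis L).repr x M = 0 :=
  eq_zero_of_lin L _ (by rwa [lin_repr]) M hM

theorem repr_eq {x : A} {c : k} (N : G L) (h : L.R N x c) : (basis L).repr x N = c := by
  have h1 := R_lin L ((basis L).repr x) N (fun n hn => by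
    by_contra h3
    push Not at h3
    exact Finsupp.mem_support_iff.1 hn (repr_eq_zero L h n h3))
  rw [lin_repr] at h1
  exact L.uniq h1 h

/-- The pole data. -/
noncomputable def pd : PD k A where
  Γ := G L
  fin := finite_compl_G L
  add := fun m hm n hn => add_mem_G L hm hn
  b := basis L
  mul_lt := by
    intro m n l h
    rw [basis_apply, basis_apply]
    exact repr_eq_zero L (L.mul (bb_spec L m) (bb_spec L n)) l h
  mul_eq := by
    intro m n l h
    rw [basis_apply, basis_apply]
    have := L.mul (bb_spec L m) (bb_spec L n)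
    rw [h, mul_one] at this
    exact repr_eq L l this

end

end K842.PoleLC
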