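import Groth.Agent.HilbZeta.K842.PoleFam
import Groth.Agent.HilbZeta.K940.ClAff

/-!
# The class of the Hilbert scheme of points of a curve with one place at infinity
-/

set_option autoImplicit false
set_option backward.isDefEq.respectTransparency false
universe u v w

open TensorProduct CategoryTheory CategoryTheory.Limits AlgebraicGeometry

namespace K842.PoleMain

open K842.QFam K842.Pole K842.PoleField K842.Strata K842.PoleGen K842.PoleGood K842.PoleFam K842.QClass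
  K842.AffCl Groth.Agent.Picfga.HilbPull K842.Split

section acc

variable {k : Type u} [Field k]

theorem ac_eq_cA (B : Type u) [CommRing B] [Algebra k B] [Algebra.FiniteType k B] :
    ac k B = K940.ClAff.cA k B := by
  have := lft_of_finiteType k B
  rw [ac, K940.ClAff.cA_eq]

theorem ac_mvPolynomial (B : Type u) [CommRing B] [Algebra k B] [Algebra.FiniteType k B] (σ : Type)
    [Fintype σ] [Algebra.FiniteType k (MvPolynomial σ B)] :
    ac k (MvPolynomial σ B) = ac k B * K0Var.L (Spec (CommRingCat.of k)) ^ Fintype.card σ := by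
  have h1 : Algebra.FiniteType k (MvPolynomial σ k) := inferInstance
  let E : (B ⊗[k] MvPolynomial σ k) ≃ₐ[k] MvPolynomial σ B :=
    (MvPolynomial.algebraTensorAlgEquiv (σ := σ) k B).restrictScalars k
  have h2 : Algebra.FiniteType k (B ⊗[k] MvPolynomial σ k) := Algebra.FiniteType.equiv inferInstance E.symm
  rw [ac_equiv E, ac_mul, ac_eq_cA (MvPolynomial σ k), K940.ClAff.cA_mvPolynomial']

end acc

variable {k A : Type u} [Field k] [CommRing A] [Algebra k A] {P : PD k A} {c : ℕ}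
  (hded : ∀ (K : Type u) [Field K] [Algebra k K], IsDedekindDomain (K ⊗[k] A))
  (hc : ∀ n, c ≤ n → n ∈ P.Γ)
  {ι : Fin (gap P + 1) → Type} {Q : ∀ n, ι n → Piece k A (n : ℕ)}
  (G : ∀ n i, GoodData P c (Q n i))

/-- reduced strata. -/
def RI : Type := {x : Σ n, ι n // ∀ l ∈ (G x.1 x.2).Δ', gap P + (x.1 : ℕ) + c ≤ l}

noncomputable instance [∀ n, Fintype (ι n)] : Fintype (RI G) := by
  classical
  exact inferInstanceAs (Fintype {x : Σ n, ι n // ∀ l ∈ (G x.1 x.2).Δ', gap P + (x.1 : ℕ) + c ≤ l})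

include hded hc in
theorem jointBij (hQ : ∀ n : Fin (gap P + 1), JointBij k A (n : ℕ) (fun i => (Q n i).B) (fun i => (Q n i).I)) {d : ℕ}
    (hd : gap P + c ≤ d) :
    JointBij k A d (fun x : RI G => TT (G x.1.1 x.1.2) d) (fun x : RI G => JT (G x.1.1 x.1.2) d) := by
  intro K _ _ J hJ
  have hdedK := hded K
  obtain ⟨hfin, hdim⟩ := (isIdl_iff_of_field _).1 hJ
  obtain ⟨m₁, hm₁, hm₁'⟩ := exists_mem_dl_le P J hfin
  -- the element of minimal pole order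
  obtain ⟨δ, hδ, hmin⟩ : ∃ δ ∈ dl P J, ∀ l ∈ dl P J, δ ≤ l :=
    ⟨sInf (dl P J), Nat.sInf_mem ⟨_, hm₁⟩, fun l hl => Nat.sInf_le hl⟩
  have hδ1 : δ ≤ gap P + d := by
    have := hmin _ hm₁
    rw [hdim] at hm₁'
    omega
  have hδ2 : d ≤ δ := by rw [← hdim]; exact finrank_le_of_mem_dl P J hδ
  obtain ⟨f, hfJ, hf⟩ := hδ
  have hJ0 : J ≠ ⊥ := ne_bot_of_mon P hf hfJ
  obtain ⟨n, rfl⟩ : ∃ n, δ = n + d := ⟨δ - d, by omega⟩
  have hng : n < gap P + 1 := by omega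
  obtain ⟨I₀, hI₀⟩ := PoleField.exists_compl hfJ
  obtain ⟨hf1, -, hf3⟩ := finrank_of_mul_eq P hf hI₀
  have hI₀n : Module.finrank K ((K ⊗[k] A) ⧸ I₀) = n := by rw [hdim] at hf3; omega
  have hI₀idl : IsIdl n I₀ := (isIdl_iff_of_field _).2 ⟨hf1, hI₀n⟩
  obtain ⟨⟨i, φ⟩, hφ, huniq⟩ := hQ ⟨n, hng⟩ K I₀ hI₀idl
  dsimp only at hφ
  have hmm := mul_map (G ⟨n, hng⟩ i) φ
  rw [hφ] at hmm
  have hv := (G ⟨n, hng⟩ i).mon.bc φ
  have hv0 := ne_bot_of_mon P hv (Ideal.mem_span_singleton_self _)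
  have star : Ideal.span {bc φ (G ⟨n, hng⟩ i).v} * J = Ideal.span {f} * (G ⟨n, hng⟩ i).J.map (bc φ) := by
    rw [← hmm, ← hI₀]; ring
  have hred : ∀ l ∈ (G ⟨n, hng⟩ i).Δ', gap P + n + c ≤ l := by
    intro l hl
    have h1 : l + (n + d) ∈ shift (gap P + n + c) (dl P J) := by
      rw [← dl_span_mul P hv, star, dl_span_mul P hf, dl_eq' (G ⟨n, hng⟩ i) φ]
      exact ⟨l, hl, rfl⟩
    obtain ⟨l', hl', he⟩ := h1
    have := hmin l' hl'
    omega
  have hfI : f ∈ (Q ⟨n, hng⟩ i).I.map (bc φ) := by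
    rw [hφ]
    have : f ∈ I₀ * J := by rw [hI₀]; exact Ideal.mem_span_singleton_self _
    exact Ideal.mul_le_left this
  obtain ⟨Φ, hΦ, hΦf⟩ := exists_hom_of_mem (G ⟨n, hng⟩ i) hc hd φ hfI hf
  refine ⟨⟨⟨⟨⟨n, hng⟩, i⟩, hred⟩, Φ⟩, ?_, ?_⟩
  · dsimp only
    have h1 := span_mul_map_JT (G ⟨n, hng⟩ i) hc hd Φ
    rw [hΦ, hΦf, ← star] at h1
    exact cancel_left hv0 h1
  · rintro ⟨⟨⟨⟨n', hn'⟩, i'⟩, hred'⟩, Φ'⟩ hΦ'
    dsimp only at Φ' hΦ' hred'
    let φ' := Φ'.comp (CC (G ⟨n', hn'⟩ i') d)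
    have hf' : Mon P (n' + d) (bc Φ' (fT (G ⟨n', hn'⟩ i') d)) := (mon_fT (G ⟨n', hn'⟩ i') hc hd).bc Φ'
    have hf'J : bc Φ' (fT (G ⟨n', hn'⟩ i') d) ∈ J := by
      rw [← hΦ']
      exact Ideal.mem_map_of_mem _ (fT_mem_JT _)
    have h2 := map_JT_mul (G ⟨n', hn'⟩ i') hc hd Φ'
    rw [hΦ'] at h2
    have h3 := span_mul_map_JT (G ⟨n', hn'⟩ i') hc hd Φ'
    rw [hΦ'] at h3
    have h4 : n' + d = n + d := by
      apply le_antisymm
      · have h5 : (n + d) + (gap P + n' + c) ∈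
            shift (n' + d) (dl P ((G ⟨n', hn'⟩ i').J.map (bc φ'))) := by
          rw [← dl_span_mul P hf', ← h3, dl_span_mul P ((G ⟨n', hn'⟩ i').mon.bc φ')]
          exact ⟨n + d, ⟨f, hfJ, hf⟩, rfl⟩
        obtain ⟨l', hl', he⟩ := h5
        rw [dl_eq' (G ⟨n', hn'⟩ i') φ'] at hl'
        have := hred' l' hl'
        omega
      · exact hmin _ ⟨_, hf'J, hf'⟩
    obtain rfl : n' = n := by omega
    have h5 : bc Φ' (fT (G ⟨n', hn'⟩ i') d) = f := mon_unique P hmin hf'J hf' hfJ hf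
    rw [h5] at h2
    have h6 : (Q ⟨n', hn'⟩ i').I.map (bc φ') = I₀ := by
      apply cancel_left hJ0
      rw [h2, ← hI₀]; ring
    have h7 := huniq ⟨i', φ'⟩ h6
    obtain ⟨rfl, h8⟩ := Sigma.mk.inj_iff.1 h7
    have h9 : Φ' = Φ := hom_ext_of_fT (G ⟨n', hn'⟩ i') ((eq_of_heq h8).trans hΦ.symm) (h5.trans hΦf.symm)
    rw [h9]

section cls

variable [∀ n, Fintype (ι n)]
  {X : Scheme.{u}} (f : X ⟶ Spec (CommRingCat.of k)) [IsSeparated f]
  (j : Spec (CommRingCat.of A) ⟶ X) [IsOpenImmersion j]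
  (hj : j ≫ f = Spec.map (CommRingCat.ofHom (algebraMap k A)))

include hded hc hj in
theorem cl_eq (hQ : ∀ n : Fin (gap P + 1), JointBij k A (n : ℕ) (fun i => (Q n i).B) (fun i => (Q n i).I)) {d : ℕ}
    (hd : gap P + c ≤ d)
    {H : Over (Spec (CommRingCat.of k))} {Z : HilbD.Obj f d H} (hZ : HilbD.IsUniversal f d H Z)
    [LocallyOfFiniteType H.hom] [QuasiCompact H.hom]
    {W : Scheme.{u}} (jP : W ⟶ H.left) [IsImmersion jP] [LocallyOfFiniteType jP] [QuasiCompact jP]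
    (hP : Set.range jP = locus (Set.range j) Z) :
    K0Var.cl (jP ≫ H.hom) =
      (∑ x : RI G, ac k (Q x.1.1 x.1.2).B) * K0Var.L (Spec (CommRingCat.of k)) ^ (d - gap P) := by
  have hft : ∀ x : RI G, Algebra.FiniteType k (TT (G x.1.1 x.1.2) d) := fun x =>
    Algebra.FiniteType.trans (S := (Q x.1.1 x.1.2).B) inferInstance inferInstance
  rw [cl_eq_sum_ac (fun x : RI G => TT (G x.1.1 x.1.2) d) (fun x : RI G => JT (G x.1.1 x.1.2) d)
    (fun x => isIdl_JT (G x.1.1 x.1.2) hded hc hd) f j hj hZ jP hP (jointBij hded hc G hQ hd),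
    Finset.sum_mul]
  refine Finset.sum_congr rfl fun x _ => ?_
  rw [ac_mvPolynomial, card_idx (G x.1.1 x.1.2) hc hd]

end cls

end K842.PoleMain
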