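import Groth.Agent.HilbZeta.K842.Branch
import Mathlib.RingTheory.Adjoin.Tower
import Mathlib.RingTheory.FiniteType
import Mathlib.RingTheory.Polynomial.Basic
import Mathlib.RingTheory.PowerSeries.Trunc
import Mathlib.RingTheory.Noetherian.Basic

set_option autoImplicit false
universe u

namespace K842.PolyModel

open K842.Branch

section

variable {k : Type u} [Field k] {s : ℕ} (R : Subalgebra k (Fin s → PowerSeries k)) (c : Fin s → ℕ)
    (hc : ∀ f : Fin s → PowerSeries k,
      (∀ g : Fin s → PowerSeries k, g * f ∈ R) ↔ ∀ i, ((c i : ℕ) : ℕ∞) ≤ (f i).order)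
    (A : Subalgebra k (Fin s → Polynomial k))
    (hA : ∀ g : Fin s → Polynomial k, g ∈ A ↔ (fun i => ((g i : Polynomial k) : PowerSeries k)) ∈ R)

/-- A bound for all conductor exponents. -/
def bnd (c : Fin s → ℕ) : ℕ := (∑ i, c i) + 1

theorem le_bnd (c : Fin s → ℕ) (i : Fin s) : c i ≤ bnd c :=
  (Finset.single_le_sum (f := c) (fun _ _ => Nat.zero_le _) (Finset.mem_univ i)).trans (Nat.le_succ _)

theorem bnd_pos (c : Fin s → ℕ) : 0 < bnd c := Nat.succ_pos _

include hc in
theorem mem_R_of_order {f : Fin s → PowerSeries k} (h : ∀ i, ((c i : ℕ) : ℕ∞) ≤ (f i).order) : f ∈ R := by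
  have := (hc f).2 h 1
  rwa [one_mul] at this

theorem coe_order {n : ℕ} {g : Polynomial k} (h : Polynomial.X ^ n ∣ g) : (n : ℕ∞) ≤ (g : PowerSeries k).order := by
  rw [← X_pow_dvd_iff_le_order]
  have := map_dvd (Polynomial.coeToPowerSeries.ringHom (R := k)) h
  simpa using this

include hc hA in
theorem mem_A_of_dvd {g : Fin s → Polynomial k} (h : ∀ i, Polynomial.X ^ bnd c ∣ g i) : g ∈ A := by
  rw [hA]
  apply mem_R_of_order R c hc
  intro i
  refine le_trans ?_ (coe_order (h i))
  exact_mod_cast le_bnd c i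

/-- The tuple `(x^C)`. -/
noncomputable def tt (k : Type u) [Field k] (c : Fin s → ℕ) : Fin s → Polynomial k := fun _ => Polynomial.X ^ bnd c

include hc hA in
theorem tt_mem : tt k c ∈ A := mem_A_of_dvd R c hc A hA fun _ => dvd_rfl

include hc hA in
theorem finite_pi : Module.Finite ↥A (Fin s → Polynomial k) := by
  classical
  rw [Module.finite_def, Submodule.fg_def]
  refine ⟨Set.range (fun p : Fin s × Fin (bnd c) => (Pi.single p.1 (Polynomial.X ^ (p.2 : ℕ)) : Fin s → Polynomial k)),
    Set.finite_range _, ?_⟩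
  rw [eq_top_iff]
  rintro v -
  set W := Submodule.span ↥A (Set.range (fun p : Fin s × Fin (bnd c) =>
    (Pi.single p.1 (Polynomial.X ^ (p.2 : ℕ)) : Fin s → Polynomial k))) with hW
  have h1 : ∀ (i : Fin s) (p : Polynomial k), (Pi.single i p : Fin s → Polynomial k) ∈ W := by
    intro i p
    induction p using Polynomial.induction_on' with
    | add p q hp hq => rw [Pi.single_add]; exact add_mem hp hq
    | monomial n a =>
      have hmem : (a • tt k c ^ (n / bnd c)) ∈ A := A.smul_mem (A.pow_mem (tt_mem R c hc A hA) _) a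
      have heq : (Pi.single i (Polynomial.monomial n a) : Fin s → Polynomial k) =
          (⟨a • tt k c ^ (n / bnd c), hmem⟩ : ↥A) •
            (Pi.single i (Polynomial.X ^ (n % bnd c)) : Fin s → Polynomial k) := by
        rw [Subalgebra.smul_def]
        ext1 j
        simp only [smul_eq_mul, Pi.mul_apply, Pi.smul_apply, Pi.pow_apply, tt]
        by_cases hij : j = i
        · subst hij
          rw [Pi.single_eq_same, Pi.single_eq_same, smul_mul_assoc, ← pow_mul, ← pow_add,
            Nat.div_add_mod, ← Polynomial.C_mul_X_pow_eq_monomial, Polynomial.smul_eq_C_mul]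
        · rw [Pi.single_eq_of_ne hij, Pi.single_eq_of_ne hij, mul_zero]
      rw [heq]
      exact W.smul_mem _ (Submodule.subset_span ⟨(i, ⟨n % bnd c, Nat.mod_lt _ (bnd_pos c)⟩), rfl⟩)
  rw [← Finset.univ_sum_single v]
  exact Submodule.sum_mem _ fun i _ => h1 i (v i)

include hc hA in
theorem finiteType : Algebra.FiniteType k ↥A := by
  have h1 : Algebra.FiniteType k (Fin s → Polynomial k) :=
    Algebra.FiniteType.trans (S := Polynomial k) inferInstance inferInstance
  have h2 := finite_pi R c hc A hA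
  exact ⟨fg_of_fg_of_fg k ↥A (Fin s → Polynomial k) h1.1 h2.1 Subtype.val_injective⟩

include hA in
theorem idem (hloc : ∀ f ∈ R, ∀ i j : Fin s, PowerSeries.constantCoeff (f i) = PowerSeries.constantCoeff (f j)) :
    ∀ e ∈ A, e * e = e → e = 0 ∨ e = 1 := by
  intro e he hee
  have h1 : ∀ i, e i = 0 ∨ e i = 1 := by
    intro i
    have h2 : e i * e i = e i := congrFun hee i
    have h3 : e i * (e i - 1) = 0 := by rw [mul_sub, h2, mul_one, sub_self]
    rcases mul_eq_zero.1 h3 with h | h
    · exact Or.inl h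
    · exact Or.inr (sub_eq_zero.1 h)
  have h4 : ∀ i j, (e i).coeff 0 = (e j).coeff 0 := by
    intro i j
    have := hloc _ ((hA e).1 he) i j
    simpa using this
  rcases isEmpty_or_nonempty (Fin s) with hs | ⟨⟨i0⟩⟩
  · left; exact Subsingleton.elim _ _
  · rcases h1 i0 with h | h
    · left
      ext1 j
      rcases h1 j with h' | h'
      · exact h'
      · exfalso
        have := h4 i0 j
        rw [h, h'] at this
        simp at this
    · right
      ext1 j
      rcases h1 j with h' | h'
      · exfalso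
        have := h4 i0 j
        rw [h, h'] at this
        simp at this
      · exact h'

include hc hA in
theorem mul_mem : ∃ N : ℕ, ∀ g : Fin N → (Fin s → Polynomial k),
      (∀ n, g n ∈ A ∧ ∀ i, (g n i).coeff 0 = 0) → ∀ p : Fin s → Polynomial k, p * ∏ n, g n ∈ A := by
  refine ⟨bnd c, fun g hg p => ?_⟩
  apply mem_A_of_dvd R c hc A hA
  intro i
  rw [Pi.mul_apply, Finset.prod_apply]
  apply Dvd.dvd.mul_left
  have h1 : ∏ n : Fin (bnd c), (Polynomial.X : Polynomial k) ∣ ∏ n, g n i := by
    apply Finset.prod_dvd_prod_of_dvd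
    intro n _
    exact Polynomial.X_dvd_iff.2 ((hg n).2 i)
  simpa using h1

include hc hA in
theorem approx : ∀ f ∈ R, ∀ N : ℕ, ∃ g ∈ A, ∀ i : Fin s, (N : ℕ∞) ≤ (f i - ((g i : Polynomial k) : PowerSeries k)).order := by
  intro f hf N
  have key : ∀ i, ((N + bnd c : ℕ) : ℕ∞) ≤ (f i - ((PowerSeries.trunc (N + bnd c) (f i) : Polynomial k) : PowerSeries k)).order := by
    intro i
    apply PowerSeries.nat_le_order
    intro m hm
    rw [map_sub, Polynomial.coeff_coe, PowerSeries.coeff_trunc, if_pos hm, sub_self]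
  refine ⟨fun i => PowerSeries.trunc (N + bnd c) (f i), ?_, ?_⟩
  · rw [hA]
    have h1 : (fun i => f i - ((PowerSeries.trunc (N + bnd c) (f i) : Polynomial k) : PowerSeries k)) ∈ R := by
      apply mem_R_of_order R c hc
      intro i
      refine le_trans ?_ (key i)
      exact_mod_cast (le_bnd c i).trans (Nat.le_add_left _ _)
    have h2 := R.sub_mem hf h1
    convert h2 using 1
    ext1 i
    simp
  · intro i
    refine le_trans ?_ (key i)
    exact_mod_cast Nat.le_add_right _ _

include hc hA in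
theorem deep : ∀ N : ℕ, ∃ M : ℕ, ∀ g : ↥A, (∀ i : Fin s, Polynomial.X ^ M ∣ (g : Fin s → Polynomial k) i) →
      g ∈ (Ideal.span {h : ↥A | ∀ i : Fin s, ((h : Fin s → Polynomial k) i).coeff 0 = 0}) ^ N := by
  intro N
  rcases N with _ | N
  · exact ⟨0, fun g _ => by rw [pow_zero, Ideal.one_eq_top]; trivial⟩
  refine ⟨bnd c * (N + 1), fun g hg => ?_⟩
  choose h hh using hg
  have hmem : (fun i => Polynomial.X ^ bnd c * h i : Fin s → Polynomial k) ∈ A :=
    mem_A_of_dvd R c hc A hA fun i => ⟨h i, rfl⟩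
  have hg' : g = (⟨tt k c, tt_mem R c hc A hA⟩ : ↥A) ^ N * ⟨_, hmem⟩ := by
    apply Subtype.ext
    ext1 i
    rw [hh i]
    simp only [MulMemClass.coe_mul, SubmonoidClass.coe_pow, Pi.mul_apply, Pi.pow_apply, tt]
    rw [← pow_mul, ← mul_assoc, ← pow_add]
    congr 2
  rw [hg', pow_succ]
  apply Ideal.mul_mem_mul
  · apply Ideal.pow_mem_pow
    apply Ideal.subset_span
    intro i
    simp only [tt]
    rw [Polynomial.coeff_X_pow, if_neg (bnd_pos c).ne]
  · apply Ideal.subset_span
    intro i
    change (Polynomial.X ^ bnd c * h i).coeff 0 = 0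
    rw [Polynomial.mul_coeff_zero, Polynomial.coeff_X_pow, if_neg (bnd_pos c).ne, zero_mul]

end

end K842.PolyModel
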