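import Mathlib.RingTheory.Spectrum.Prime.FreeLocus
import Mathlib.RingTheory.LocalRing.ResidueField.Fiber
import Mathlib.LinearAlgebra.Dual.Lemmas
import Mathlib.RingTheory.Nilpotent.Basic
import Mathlib.RingTheory.Artinian.Module
import Mathlib.Tactic

set_option autoImplicit false
universe u v

namespace K842.PowRank

open TensorProduct

/-- A nilpotent ideal of a finite-dimensional commutative algebra has vanishing `dim`-th power. -/
theorem pow_finrank_eq_bot {K : Type u} {B : Type v} [Field K] [CommRing B] [Algebra K B] [Module.Finite K B]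
    (n : Ideal B) (hn : IsNilpotent n) : n ^ Module.finrank K B = ⊥ := by
  have key : ∀ i : ℕ, n ^ i = ⊥ ∨ Module.finrank K ((n ^ i).restrictScalars K) + i ≤ Module.finrank K B := by
    intro i
    induction i with
    | zero =>
      right
      rw [add_zero]
      exact Submodule.finrank_le _
    | succ i ih =>
      rcases ih with h | h
      · left
        rw [pow_succ, h, Ideal.bot_mul]
      · by_cases hz : n ^ i = ⊥
        · left
          rw [pow_succ, hz, Ideal.bot_mul]
        · right
          have hle : n ^ (i + 1) ≤ n ^ i := Ideal.pow_le_pow_right (Nat.le_succ i)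
          have hne : n ^ (i + 1) ≠ n ^ i := by
            intro he
            apply hz
            obtain ⟨N, hN⟩ := hn
            have hall : ∀ m, n ^ (i + m) = n ^ i := by
              intro m
              induction m with
              | zero => rfl
              | succ m ihm => rw [← add_assoc, pow_succ, ihm, ← pow_succ, he]
            rw [← hall N, pow_add, hN, Ideal.zero_eq_bot, Ideal.mul_bot]
          have hlt : (n ^ (i + 1)).restrictScalars K < (n ^ i).restrictScalars K := by
            apply lt_of_le_of_ne hle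
            exact hne
          have := Submodule.finrank_lt_finrank_of_lt hlt
          omega
  rcases key (Module.finrank K B) with h | h
  · exact h
  · have h0 : Module.finrank K ((n ^ Module.finrank K B).restrictScalars K) = 0 := by omega
    rw [Submodule.finrank_eq_zero] at h0
    rw [eq_bot_iff]
    intro x hx
    have : x ∈ (n ^ Module.finrank K B).restrictScalars K := hx
    rw [h0] at this
    exact this

/-- Over a reduced ring an element of a projective module which vanishes in all fibres is zero. -/
theorem eq_zero_of_forall_fiber {A : Type u} [CommRing A] [IsReduced A] {M : Type v} [AddCommGroup M]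
    [Module A M] [Module.Projective A M] (x : M)
    (h : ∀ p : PrimeSpectrum A, (1 : p.asIdeal.ResidueField) ⊗ₜ[A] x = 0) : x = 0 := by
  rw [← Module.forall_dual_apply_eq_zero_iff A x]
  intro φ
  have hnil : φ x ∈ nilradical A := by
    rw [nilradical_eq_sInf, Submodule.mem_sInf]
    intro (p : Ideal A) hp
    have hp' : p.IsPrime := hp
    have h1 := h ⟨p, hp'⟩
    have h2 := congrArg ((TensorProduct.lid A p.ResidueField).toLinearMap ∘ₗ
      (TensorProduct.comm A p.ResidueField A).toLinearMap ∘ₗ
      φ.lTensor p.ResidueField) h1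
    simp only [LinearMap.comp_apply, LinearMap.lTensor_tmul, LinearEquiv.coe_coe, TensorProduct.comm_tmul,
      TensorProduct.lid_tmul, map_zero] at h2
    rw [Algebra.smul_def, mul_one] at h2
    rwa [Ideal.algebraMap_residueField_eq_zero] at h2
  rwa [nilradical_eq_zero, Ideal.zero_eq_bot, Ideal.mem_bot] at hnil

theorem main (A : Type u) [CommRing A] [IsReduced A]
    (S : Type u) [CommRing S] [Algebra A S] (m : Ideal S) (I : Ideal S) (d : ℕ)
    [Module.Finite A (S ⧸ I)] [Module.Projective A (S ⧸ I)]
    (hrank : ∀ p : PrimeSpectrum A, Module.rankAtStalk (R := A) (S ⧸ I) p = d)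
    (hsupp : m ≤ I.radical) :
    m ^ d ≤ I := by
  intro x hx
  rw [← Ideal.Quotient.eq_zero_iff_mem]
  apply eq_zero_of_forall_fiber (A := A)
  intro p
  -- the algebra map
  let ψ : S →+* (p.asIdeal.ResidueField ⊗[A] (S ⧸ I)) :=
    (Algebra.TensorProduct.includeRight : (S ⧸ I) →ₐ[A] p.asIdeal.ResidueField ⊗[A] (S ⧸ I)).toRingHom.comp
      (Ideal.Quotient.mk I)
  have hψ : ∀ s, ψ s = (1 : p.asIdeal.ResidueField) ⊗ₜ[A] (Ideal.Quotient.mk I s) := fun s => rfl
  rw [← hψ]
  have hfr : Module.finrank p.asIdeal.ResidueField (p.asIdeal.ResidueField ⊗[A] (S ⧸ I)) = d := by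
    rw [← hrank p, Module.rankAtStalk_eq]
  have hnil : IsNilpotent (m.map ψ) := by
    have hN : IsNoetherianRing (p.asIdeal.ResidueField ⊗[A] (S ⧸ I)) :=
      isNoetherian_of_tower p.asIdeal.ResidueField
        (inferInstance : IsNoetherian p.asIdeal.ResidueField (p.asIdeal.ResidueField ⊗[A] (S ⧸ I)))
    have hrad : m.map ψ ≤ (⊥ : Ideal (p.asIdeal.ResidueField ⊗[A] (S ⧸ I))).radical := by
      rw [Ideal.map_le_iff_le_comap]
      intro s hs
      obtain ⟨n, hn⟩ := hsupp hs
      refine ⟨n, ?_⟩
      rw [Ideal.mem_bot, ← map_pow, hψ, Ideal.Quotient.eq_zero_iff_mem.2 hn, tmul_zero]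
    obtain ⟨n, hn⟩ := Ideal.exists_pow_le_of_le_radical_of_fg hrad (IsNoetherian.noetherian _)
    exact ⟨n, le_bot_iff.1 hn⟩
  have h1 := pow_finrank_eq_bot (K := p.asIdeal.ResidueField) (m.map ψ) hnil
  rw [hfr, ← Ideal.map_pow] at h1
  have h2 : ψ x ∈ (m ^ d).map ψ := Ideal.mem_map_of_mem ψ hx
  rw [h1] at h2
  exact h2

end K842.PowRank
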