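import Groth.Agent.HilbZeta.K842.QObj
import Groth.Agent.HilbZeta.K842.AffMain
import Groth.Agent.HilbZeta.K842.AffClass

/-!
# The class of the Hilbert scheme of points of an affine chart from explicit families of ideals
-/

set_option autoImplicit false
set_option backward.isDefEq.respectTransparency false
universe u v w

open CategoryTheory CategoryTheory.Limits AlgebraicGeometry TensorProduct

namespace K842.QClass

open Groth.Agent.Picfga.HilbPull Groth.Agent.Picfga.HilbTriple Groth.Agent.Picfga.HilbRep K842.CoprodRank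
  K842.Split K842.K0Basic K842.K0Fam K842.SplitField K842.AffObj K842.ProdFormula
  K842.AffPar K842.AffMain K842.AffCl K842.QFam K842.QObj

/-- The families `I i` over `B i` parametrise every ideal of degree `d` exactly once. -/
def JointBij (k R : Type u) [Field k] [CommRing R] [Algebra k R] (d : ℕ) {ι : Type v} (B : ι → Type u)
    [∀ i, CommRing (B i)] [∀ i, Algebra k (B i)] (I : ∀ i, Ideal (B i ⊗[k] R)) : Prop :=
  ∀ (K : Type u) [Field K] [Algebra k K] (J : Ideal (K ⊗[k] R)), IsIdl d J →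
    ∃! x : Σ i, (B i →ₐ[k] K), (I x.1).map (bc x.2) = J

section main

variable {k R : Type u} [Field k] [CommRing R] [Algebra k R] {d : ℕ}
  {ι : Type v} (B : ι → Type u) [∀ i, CommRing (B i)] [∀ i, Algebra k (B i)]
  (I : ∀ i, Ideal (B i ⊗[k] R)) (hI : ∀ i, IsIdl d (I i))
  {X : Scheme.{u}} (f : X ⟶ Spec (CommRingCat.of k)) [IsSeparated f]
  (j : Spec (CommRingCat.of R) ⟶ X) [IsOpenImmersion j]
  (hj : j ≫ f = Spec.map (CommRingCat.ofHom (algebraMap k R)))
  {H : Over (Spec (CommRingCat.of k))} {Z : HilbD.Obj f d H} (hZ : HilbD.IsUniversal f d H Z)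
  {P : Scheme.{u}} (jP : P ⟶ H.left) [IsImmersion jP] (hP : Set.range jP = locus (Set.range j) Z)

include hI hj hZ hP in
/-- **Joint bijectivity on field-valued points.** -/
theorem exists_maps (h2 : JointBij k R d B I) :
    ∃ g : ∀ i, spk k (B i) ⟶ H,
      (∀ (K : CommRingCat.{u}) (_ : IsField K) (i : ι) (x : Spec K ⟶ (spk k (B i)).left),
        ∃ y : Spec K ⟶ P, y ≫ jP = x ≫ (g i).left) ∧
      (∀ (K : CommRingCat.{u}) (_ : IsField K) (y : Spec K ⟶ P),
        ∃! x : Σ i, (Spec K ⟶ (spk k (B i)).left), x.2 ≫ (g x.1).left = y ≫ jP) := by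
  choose g hg _ using fun i => hZ (spk k (B i)) (iobj f j hj (I i) (hI i))
  have hg' : ∀ i, pullObj f (g i) Z = iobj f j hj (I i) (hI i) := fun i => Subtype.ext (hg i)
  refine ⟨g, ?_, ?_⟩
  · intro K hK i x
    rw [exists_lift_iff jP hP hK]
    intro p
    have h3 : Supp (Set.range j) (pullObj f (g i) Z) := by
      rw [hg']
      exact supp_iobj f j hj _
    rw [Scheme.Hom.comp_apply]
    exact (supp_pull_iff _ _ _).1 h3 _
  · suffices H : ∀ (K : Type u) [Field K] (y : Spec (CommRingCat.of K) ⟶ P),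
        ∃! x : Σ i, (Spec (CommRingCat.of K) ⟶ (spk k (B i)).left), x.2 ≫ (g x.1).left = y ≫ jP by
      intro K hK y
      let := hK.toField
      exact H K y
    intro K _ y
    -- the algebra structure
    obtain ⟨ψ, hψ⟩ := Spec.map_surjective ((y ≫ jP) ≫ H.hom)
    letI : Algebra k K := ψ.hom.toAlgebra
    have hψ' : (spk k K).hom = (y ≫ jP) ≫ H.hom := hψ
    let yH : spk k K ⟶ H := Over.homMk (y ≫ jP) hψ'.symm
    have hsupp : Supp (Set.range j) (pullObj f yH Z) := by
      rw [supp_pull_iff]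
      exact (exists_lift_iff jP hP (Field.toIsField K) (y ≫ jP)).1 ⟨y, rfl⟩
    obtain ⟨J, hJ, hJ'⟩ := exists_idl f j hj _ hsupp
    obtain ⟨⟨i, φ⟩, hφ, huniq⟩ := h2 K J hJ
    dsimp only at hφ
    have key1 : spkMap φ ≫ g i = yH := by
      have h5 : pullObj f (spkMap φ ≫ g i) Z = pullObj f yH Z := by
        rw [pullObj_comp, hg', pullObj_iobj, ← hJ', iobj_eq_iff, hφ]
      exact hom_ext_of_isUniversal hZ (congrArg Subtype.val h5)
    refine ⟨⟨i, (spkMap φ).left⟩, congrArg CommaMorphism.left key1, ?_⟩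
    rintro ⟨i', x'⟩ hx'
    dsimp only at hx'
    have hw' : x' ≫ (spk k (B i')).hom = (spk k K).hom := by
      rw [← Over.w (g i'), ← Category.assoc, hx', hψ']
    obtain ⟨φ', hφ'⟩ := exists_spkMap_eq (Over.homMk x' hw' : spk k K ⟶ spk k (B i'))
    have hx'' : x' = (spkMap φ').left := by rw [hφ']; rfl
    have h6 : spkMap φ' ≫ g i' = yH := by
      rw [hφ']
      ext1
      exact hx'
    have h7 := congrArg (fun t => pullObj f t Z) h6
    rw [pullObj_comp, hg', pullObj_iobj, ← hJ', iobj_eq_iff] at h7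
    have h13 := huniq ⟨i', φ'⟩ h7
    obtain ⟨rfl, h14⟩ := Sigma.mk.inj_iff.1 h13
    have h15 := eq_of_heq h14
    rw [hx'', h15]

end main

section cls

variable {k R : Type u} [Field k] [CommRing R] [Algebra k R] {d : ℕ}
  {ι : Type} [Fintype ι] (B : ι → Type u) [∀ i, CommRing (B i)] [∀ i, Algebra k (B i)]
  [∀ i, Algebra.FiniteType k (B i)]
  (I : ∀ i, Ideal (B i ⊗[k] R)) (hI : ∀ i, IsIdl d (I i))
  {X : Scheme.{u}} (f : X ⟶ Spec (CommRingCat.of k)) [IsSeparated f]
  (j : Spec (CommRingCat.of R) ⟶ X) [IsOpenImmersion j]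
  (hj : j ≫ f = Spec.map (CommRingCat.ofHom (algebraMap k R)))
  {H : Over (Spec (CommRingCat.of k))} {Z : HilbD.Obj f d H} (hZ : HilbD.IsUniversal f d H Z)
  [LocallyOfFiniteType H.hom] [QuasiCompact H.hom]
  {P : Scheme.{u}} (jP : P ⟶ H.left) [IsImmersion jP] [LocallyOfFiniteType jP] [QuasiCompact jP]
  (hP : Set.range jP = locus (Set.range j) Z)

include hI hj hZ hP in
/-- **The class of the Hilbert scheme of points of a chart.** -/
theorem cl_eq_sum_ac (h2 : JointBij k R d B I) :
    K0Var.cl (jP ≫ H.hom) = ∑ i, ac k (B i) := by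
  obtain ⟨g, hg1, hg2⟩ := exists_maps B I hI f j hj hZ jP hP h2
  have hlft : ∀ i, LocallyOfFiniteType (spk k (B i)).hom := fun i => lft_of_finiteType k _
  have hg3 : ∀ i, LocallyOfFiniteType (g i).left := by
    intro i
    have : LocallyOfFiniteType ((g i).left ≫ H.hom) := by rw [Over.w]; exact hlft i
    exact locallyOfFiniteType_of_comp (g i).left H.hom
  have hN1 : IsNoetherian (Spec (CommRingCat.of k)) := inferInstance
  have hN2 : IsNoetherian H.left := isNoetherian_of_ft H.hom
  have hg4 : ∀ i, QuasiCompact (g i).left := by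
    intro i
    have : QuasiCompact (spk k (B i)).hom := by
      change QuasiCompact (Spec.map _)
      infer_instance
    have : IsNoetherian (spk k (B i)).left := isNoetherian_of_ft (spk k (B i)).hom
    infer_instance
  have main := sum_cl_eq_of_points (fun i => (g i).left) jP H.hom (InjPts.of_mono jP) hg1 hg2
  rw [← main]
  exact Finset.sum_congr rfl fun i _ => ac_eq_cl _ _ (Over.w (g i))

end cls

end K842.QClass
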