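import Mathlib.LinearAlgebra.FiniteDimensional.Lemmas
import Mathlib.LinearAlgebra.Dimension.OrzechProperty
import Mathlib.RingTheory.LocalRing.Module
import Mathlib.RingTheory.LocalProperties.Projective
import Mathlib.RingTheory.LocalProperties.Reduced
import Mathlib.RingTheory.Spectrum.Prime.FreeLocus
import Mathlib.RingTheory.LocalRing.ResidueField.Ideal

/-!
# Finite modules of constant fibre dimension over reduced rings are projective
-/

set_option autoImplicit false
universe u

open TensorProduct

namespace K842.RedProj

theorem free_of_local {C M : Type u} [CommRing C] [IsLocalRing C] [IsReduced C] [AddCommGroup M]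
    [Module C M] [Module.Finite C M] (d : ℕ)
    (h : ∀ (K : Type u) [Field K] [Algebra C K], Module.finrank K (K ⊗[C] M) = d) :
    Module.Free C M := by
  let κ := IsLocalRing.ResidueField C
  let b₀ : Module.Basis (Fin d) κ (κ ⊗[C] M) := Module.finBasisOfFinrankEq κ _ (h κ)
  have hsurj : Function.Surjective (TensorProduct.mk C κ M 1) :=
    TensorProduct.mk_surjective C M κ IsLocalRing.residue_surjective
  choose v hv using fun i => hsurj (b₀ i)
  have hspan := IsLocalRing.span_eq_top_of_tmul_eq_basis v b₀ hv
  have hli : LinearIndependent C v := by
    rw [Fintype.linearIndependent_iff]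
    intro g hg i
    suffices IsNilpotent (g i) from this.eq_zero
    rw [nilpotent_iff_mem_prime]
    intro q hq
    let K := q.ResidueField
    have hs : ⊤ ≤ Submodule.span K (Set.range fun i => (1 : K) ⊗ₜ[C] v i) := by
      rw [top_le_iff]
      have h1 := Submodule.baseChange_span (A := K) (R := C) (Set.range v)
      rw [hspan, Submodule.baseChange_top] at h1
      rw [h1]
      congr 1
      ext x
      simp
    have hli := linearIndependent_of_top_le_span_of_card_eq_finrank hs (by
      rw [h K, Fintype.card_fin])
    rw [Fintype.linearIndependent_iff] at hli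
    have h2 := hli (fun i => algebraMap C K (g i)) (by
      have h3 : ∑ i, algebraMap C K (g i) • ((1 : K) ⊗ₜ[C] v i) = (1 : K) ⊗ₜ[C] (∑ i, g i • v i) := by
        rw [TensorProduct.tmul_sum]
        refine Finset.sum_congr rfl fun i _ => ?_
        rw [TensorProduct.smul_tmul', TensorProduct.tmul_smul, TensorProduct.smul_tmul', algebraMap_smul]
      rw [h3, hg, TensorProduct.tmul_zero]) i
    exact Ideal.algebraMap_residueField_eq_zero.1 h2
  exact Module.Free.of_basis (Module.Basis.mk hli hspan.ge)

theorem projective_of_reduced {B M : Type u} [CommRing B] [IsNoetherianRing B] [IsReduced B]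
    [AddCommGroup M] [Module B M] [Module.Finite B M] (d : ℕ)
    (h : ∀ (K : Type u) [Field K] [Algebra B K], Module.finrank K (K ⊗[B] M) = d) :
    Module.Projective B M := by
  have : Module.FinitePresentation B M := Module.finitePresentation_of_finite B M
  apply Module.projective_of_localization_maximal
  intro I hI
  let C := Localization.AtPrime I
  have : Module.Free C (LocalizedModule I.primeCompl M) := by
    apply free_of_local d
    intro K _ _
    letI : Algebra B K := ((algebraMap C K).comp (algebraMap B C)).toAlgebra
    haveI : IsScalarTower B C K := IsScalarTower.of_algebraMap_eq fun _ => rfl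
    have hb : IsBaseChange C (LocalizedModule.mkLinearMap I.primeCompl M) :=
      IsLocalizedModule.isBaseChange I.primeCompl C _
    let e1 : K ⊗[C] (LocalizedModule I.primeCompl M) ≃ₗ[K] K ⊗[C] (C ⊗[B] M) :=
      hb.equiv.symm.baseChange C K _ _
    rw [e1.finrank_eq, (TensorProduct.AlgebraTensorModule.cancelBaseChange B C K K M).finrank_eq]
    exact h K
  infer_instance

end K842.RedProj
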