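import Groth.Agent.HilbZeta.K842.AffObj
import Groth.Agent.HilbZeta.K842.RedProj
import Mathlib.RingTheory.TensorProduct.Quotient
import Mathlib.Algebra.Category.Ring.Constructions
import Mathlib.RingTheory.FinitePresentation

/-!
# Families of ideals of `B ⊗ R` and their base change
-/

set_option autoImplicit false
set_option backward.isDefEq.respectTransparency false
universe u v w

open CategoryTheory CategoryTheory.Limits AlgebraicGeometry TensorProduct

namespace K842.QFam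

open Groth.Agent.Picfga.HilbPull K842.AffObj

variable {k R : Type u} [Field k] [CommRing R] [Algebra k R] {d : ℕ}

section BC

variable {B C : Type u} [CommRing B] [Algebra k B] [CommRing C] [Algebra k C] (φ : B →ₐ[k] C)

/-- base change of the tensor product. -/
noncomputable abbrev bc (φ : B →ₐ[k] C) : B ⊗[k] R →ₐ[k] C ⊗[k] R :=
  Algebra.TensorProduct.map φ (AlgHom.id k R)

theorem bc_tmul (b : B) (r : R) : bc φ (b ⊗ₜ[k] r) = φ b ⊗ₜ r := Algebra.TensorProduct.map_tmul _ _ _ _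

theorem bc_smul (b : B) (x : B ⊗[k] R) : bc φ (b • x) = φ b • bc φ x := by
  have h1 : b • x = (b ⊗ₜ (1 : R)) * x := by
    rw [Algebra.smul_def]; rfl
  have h2 : φ b • bc φ x = (φ b ⊗ₜ (1 : R)) * bc φ x := by
    rw [Algebra.smul_def]; rfl
  rw [h1, map_mul, bc_tmul, h2]

/-- the base change map on quotients. -/
noncomputable def qmap (I : Ideal (B ⊗[k] R)) : (B ⊗[k] R) ⧸ I →+* (C ⊗[k] R) ⧸ I.map (bc φ) :=
  Ideal.quotientMap _ (bc φ).toRingHom Ideal.le_comap_map

theorem qmap_mk (I : Ideal (B ⊗[k] R)) (x : B ⊗[k] R) :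
    qmap φ I (Ideal.Quotient.mk _ x) = Ideal.Quotient.mk _ (bc φ x) :=
  Ideal.quotientMap_mk

theorem exists_desc (I : Ideal (B ⊗[k] R)) {T : Type u} [CommRing T] (β' : (B ⊗[k] R) ⧸ I →+* T) (γ' : C →+* T)
    (h : ∀ b, β' (algebraMap B ((B ⊗[k] R) ⧸ I) b) = γ' (φ b)) :
    ∃ δ : (C ⊗[k] R) ⧸ I.map (bc φ) →+* T, (∀ x, δ (qmap φ I x) = β' x) ∧
      ∀ c, δ (algebraMap C _ c) = γ' c := by
  letI : Algebra k T := (γ'.comp (algebraMap k C)).toAlgebra
  let γ : C →ₐ[k] T := { γ' with commutes' := fun _ => rfl }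
  let β : R →ₐ[k] T :=
    { β'.comp ((Ideal.Quotient.mk I).comp
        (Algebra.TensorProduct.includeRight : R →ₐ[k] B ⊗[k] R).toRingHom) with
      commutes' := fun c => by
        have h1 : β' (Ideal.Quotient.mk _ ((1 : B) ⊗ₜ (algebraMap k R c))) = γ' (algebraMap k C c) := by
          rw [← φ.commutes, ← h]
          change _ = β' (Ideal.Quotient.mk _ (algebraMap k B c ⊗ₜ 1))
          rw [Algebra.algebraMap_eq_smul_one, Algebra.algebraMap_eq_smul_one, TensorProduct.smul_tmul]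
        exact h1 }
  let δ : C ⊗[k] R →ₐ[k] T := Algebra.TensorProduct.lift γ β (fun _ _ => Commute.all _ _)
  have hδ : ∀ (x : B ⊗[k] R), δ (bc φ x) = β' (Ideal.Quotient.mk _ x) := by
    intro x
    induction x using TensorProduct.induction_on with
    | zero => rw [map_zero, map_zero, map_zero, map_zero]
    | add x y hx hy => rw [map_add, map_add, map_add, map_add, hx, hy]
    | tmul b y =>
      rw [bc_tmul, Algebra.TensorProduct.lift_tmul]
      change γ' (φ b) * β' (Ideal.Quotient.mk _ ((1 : B) ⊗ₜ y)) = _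
      rw [← h, ← map_mul]
      congr 1
      change Ideal.Quotient.mk _ (b ⊗ₜ 1) * Ideal.Quotient.mk _ ((1 : B) ⊗ₜ y) = _
      rw [← map_mul, Algebra.TensorProduct.tmul_mul_tmul, one_mul, mul_one]
  have hker : I.map (bc φ) ≤ RingHom.ker δ.toRingHom := by
    rw [Ideal.map_le_iff_le_comap]
    intro x hx
    rw [Ideal.mem_comap, RingHom.mem_ker]
    have h3 : Ideal.Quotient.mk I x = 0 := Ideal.Quotient.eq_zero_iff_mem.2 hx
    exact (hδ x).trans ((congrArg β' h3).trans (map_zero _))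
  refine ⟨Ideal.Quotient.lift _ δ.toRingHom (fun x hx => hker hx), ?_, ?_⟩
  · intro x
    obtain ⟨x, rfl⟩ := Ideal.Quotient.mk_surjective x
    rw [qmap_mk, Ideal.Quotient.lift_mk]
    exact hδ x
  · intro c
    change δ (c ⊗ₜ 1) = γ' c
    rw [Algebra.TensorProduct.lift_tmul, map_one, mul_one]
    rfl

theorem desc_unique (I : Ideal (B ⊗[k] R)) {T : Type u} [CommRing T]
    (m m' : (C ⊗[k] R) ⧸ I.map (bc φ) →+* T) (h1 : ∀ x, m (qmap φ I x) = m' (qmap φ I x))
    (h2 : ∀ c, m (algebraMap C _ c) = m' (algebraMap C _ c)) : m = m' := by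
  refine RingHom.ext fun x => ?_
  obtain ⟨x, rfl⟩ := Ideal.Quotient.mk_surjective x
  induction x using TensorProduct.induction_on with
  | zero => rw [map_zero, map_zero, map_zero]
  | add x y hx hy => rw [map_add, map_add, map_add, hx, hy]
  | tmul c y =>
    have h3 : (Ideal.Quotient.mk (I.map (bc φ))) (c ⊗ₜ y) =
        algebraMap C ((C ⊗[k] R) ⧸ I.map (bc φ)) c *
          qmap φ I (Ideal.Quotient.mk _ ((1 : B) ⊗ₜ y)) := by
      rw [qmap_mk, bc_tmul, map_one]
      change _ = Ideal.Quotient.mk _ (c ⊗ₜ 1) * _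
      rw [← map_mul, Algebra.TensorProduct.tmul_mul_tmul, one_mul, mul_one]
    rw [h3, map_mul, map_mul, h1, h2]

theorem isPushout_bc (I : Ideal (B ⊗[k] R)) :
    IsPushout (CommRingCat.ofHom (algebraMap B ((B ⊗[k] R) ⧸ I))) (CommRingCat.ofHom φ.toRingHom)
      (CommRingCat.ofHom (qmap φ I))
      (CommRingCat.ofHom (algebraMap C ((C ⊗[k] R) ⧸ I.map (bc φ)))) := by
  have hw : CommRingCat.ofHom (algebraMap B ((B ⊗[k] R) ⧸ I)) ≫ CommRingCat.ofHom (qmap φ I) =
      CommRingCat.ofHom φ.toRingHom ≫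
        CommRingCat.ofHom (algebraMap C ((C ⊗[k] R) ⧸ I.map (bc φ))) := by
    rw [← CommRingCat.ofHom_comp, ← CommRingCat.ofHom_comp]
    refine CommRingCat.hom_ext (RingHom.ext fun b => ?_)
    change qmap φ I (Ideal.Quotient.mk _ (b ⊗ₜ 1)) = Ideal.Quotient.mk _ (φ b ⊗ₜ 1)
    rw [qmap_mk, bc_tmul]
  have hex := fun s : PushoutCocone (CommRingCat.ofHom (algebraMap B ((B ⊗[k] R) ⧸ I)))
      (CommRingCat.ofHom φ.toRingHom) =>
    exists_desc φ I (T := s.pt) s.inl.hom s.inr.hom (fun b => congr($(s.condition).hom b))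
  choose δ hδ1 hδ2 using hex
  refine ⟨⟨hw⟩, ⟨PushoutCocone.IsColimit.mk _ (fun s => CommRingCat.ofHom (δ s)) ?_ ?_ ?_⟩⟩
  · intro s
    exact CommRingCat.hom_ext (RingHom.ext fun x => hδ1 s x)
  · intro s
    exact CommRingCat.hom_ext (RingHom.ext fun x => hδ2 s x)
  · intro s m h1 h2
    refine CommRingCat.hom_ext (desc_unique φ I _ _ (fun x => ?_) (fun c => ?_))
    · rw [CommRingCat.hom_ofHom, hδ1]
      exact congr($(h1).hom x)
    · rw [CommRingCat.hom_ofHom, hδ2]
      exact congr($(h2).hom c)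

/-- Dimension of the base change. -/
theorem finrank_bc {K : Type u} [Field K] [Algebra B K] (I : Ideal (B ⊗[k] R)) [Algebra k K]
    [IsScalarTower k B K] :
    Nonempty ((K ⊗[B] ((B ⊗[k] R) ⧸ I)) ≃ₗ[K]
      ((K ⊗[k] R) ⧸ I.map (bc (IsScalarTower.toAlgHom k B K)))) := by
  let φ : B →ₐ[k] K := IsScalarTower.toAlgHom k B K
  have h := isPushout_bc φ I
  letI : Algebra ((B ⊗[k] R) ⧸ I) ((K ⊗[k] R) ⧸ I.map (bc φ)) := (qmap φ I).toAlgebra
  haveI : IsScalarTower B K ((K ⊗[k] R) ⧸ I.map (bc φ)) := inferInstance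
  haveI : IsScalarTower B ((B ⊗[k] R) ⧸ I) ((K ⊗[k] R) ⧸ I.map (bc φ)) :=
    IsScalarTower.of_algebraMap_eq (R := B) (S := (B ⊗[k] R) ⧸ I)
      (A := (K ⊗[k] R) ⧸ I.map (bc φ)) fun b => (congr($(h.w).hom b)).symm
  have h2 : Algebra.IsPushout B K ((B ⊗[k] R) ⧸ I) ((K ⊗[k] R) ⧸ I.map (bc φ)) :=
    CommRingCat.isPushout_iff_isPushout.1 h.flip
  exact ⟨(Algebra.IsPushout.equiv B K ((B ⊗[k] R) ⧸ I)
    ((K ⊗[k] R) ⧸ I.map (bc φ))).toLinearEquiv⟩

end BC

/-- ideals with finite locally free quotient of the given degree. -/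
def IsIdl (d : ℕ) {B : Type u} [CommRing B] [Algebra k B] (I : Ideal (B ⊗[k] R)) : Prop :=
  Mor2.IsFinLocFreeOfDeg d (Spec.map (CommRingCat.ofHom (algebraMap B ((B ⊗[k] R) ⧸ I))))

theorem IsIdl.map {B C : Type u} [CommRing B] [Algebra k B] [CommRing C] [Algebra k C] (φ : B →ₐ[k] C)
    {I : Ideal (B ⊗[k] R)} (h : IsIdl d I) : IsIdl d (I.map (bc φ)) :=
  isFinLocFreeOfDeg_of_isPullback (isPullback_SpecMap_of_isPushout _ _ _ _ (isPushout_bc φ I)) h

theorem isIdl_iff_of_field {K : Type u} [Field K] [Algebra k K] (I : Ideal (K ⊗[k] R)) :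
    IsIdl d I ↔ Module.Finite K ((K ⊗[k] R) ⧸ I) ∧ Module.finrank K ((K ⊗[k] R) ⧸ I) = d := by
  constructor
  · intro h
    have h0 : Module.Finite K ((K ⊗[k] R) ⧸ I) :=
      RingHom.finite_algebraMap.1 ((IsFinite.SpecMap_iff _).1 h.1.1)
    refine ⟨h0, ?_⟩
    have h1 := h.2 (⊥ : PrimeSpectrum K)
    have h2 := Scheme.Hom.finrank_SpecMap_algebraMap K ((K ⊗[k] R) ⧸ I) (⊥ : PrimeSpectrum K)
    rw [Module.rankAtStalk_eq_finrank_of_free] at h2
    exact h2.symm.trans h1
  · rintro ⟨hfin, hd⟩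
    have hfp : Algebra.FinitePresentation K ((K ⊗[k] R) ⧸ I) :=
      (Algebra.FinitePresentation.of_finiteType).1 inferInstance
    have hF : IsFinite (Spec.map (CommRingCat.ofHom (algebraMap K ((K ⊗[k] R) ⧸ I)))) := by
      rw [IsFinite.SpecMap_iff]; exact RingHom.finite_algebraMap.mpr hfin
    have hFl : Flat (Spec.map (CommRingCat.ofHom (algebraMap K ((K ⊗[k] R) ⧸ I)))) := by
      rw [Flat.SpecMap_iff]; exact RingHom.flat_algebraMap_iff.mpr inferInstance
    have hFP : LocallyOfFinitePresentation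
        (Spec.map (CommRingCat.ofHom (algebraMap K ((K ⊗[k] R) ⧸ I)))) := by
      rw [LocallyOfFinitePresentation.SpecMap_iff]
      exact RingHom.finitePresentation_algebraMap.mpr hfp
    refine ⟨⟨hF, hFl, hFP⟩, fun p => ?_⟩
    refine (Scheme.Hom.finrank_SpecMap_algebraMap K ((K ⊗[k] R) ⧸ I) p).trans ?_
    rw [Module.rankAtStalk_eq_finrank_of_free]
    exact hd

/-- Over a reduced Noetherian ring, a finite quotient of constant fibre dimension is a family. -/
theorem isIdl_of_reduced {B : Type u} [CommRing B] [Algebra k B] [IsNoetherianRing B] [IsReduced B]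
    (I : Ideal (B ⊗[k] R)) (hfin : Module.Finite B ((B ⊗[k] R) ⧸ I))
    (h : ∀ (K : Type u) [Field K] [Algebra k K] (φ : B →ₐ[k] K),
      Module.finrank K ((K ⊗[k] R) ⧸ I.map (bc φ)) = d) : IsIdl d I := by
  have hdim : ∀ (K : Type u) [Field K] [Algebra B K], Module.finrank K (K ⊗[B] ((B ⊗[k] R) ⧸ I)) = d := by
    intro K _ _
    letI : Algebra k K := ((algebraMap B K).comp (algebraMap k B)).toAlgebra
    haveI : IsScalarTower k B K := IsScalarTower.of_algebraMap_eq fun _ => rfl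
    obtain ⟨e⟩ := finrank_bc (K := K) I
    rw [e.finrank_eq]
    exact h K (IsScalarTower.toAlgHom k B K)
  have hproj : Module.Projective B ((B ⊗[k] R) ⧸ I) := RedProj.projective_of_reduced d hdim
  have hfp : Algebra.FinitePresentation B ((B ⊗[k] R) ⧸ I) :=
    (Algebra.FinitePresentation.of_finiteType).1 inferInstance
  have hF : IsFinite (Spec.map (CommRingCat.ofHom (algebraMap B ((B ⊗[k] R) ⧸ I)))) := by
    rw [IsFinite.SpecMap_iff]; exact RingHom.finite_algebraMap.mpr hfin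
  have hFl : Flat (Spec.map (CommRingCat.ofHom (algebraMap B ((B ⊗[k] R) ⧸ I)))) := by
    rw [Flat.SpecMap_iff]; exact RingHom.flat_algebraMap_iff.mpr inferInstance
  have hFP : LocallyOfFinitePresentation (Spec.map (CommRingCat.ofHom (algebraMap B ((B ⊗[k] R) ⧸ I)))) := by
    rw [LocallyOfFinitePresentation.SpecMap_iff]
    exact RingHom.finitePresentation_algebraMap.mpr hfp
  refine ⟨⟨hF, hFl, hFP⟩, fun p => ?_⟩
  refine (Scheme.Hom.finrank_SpecMap_algebraMap B ((B ⊗[k] R) ⧸ I) p).trans ?_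
  rw [← hdim p.asIdeal.ResidueField]
  exact (Ideal.finrank_fiber_eq_rankAtStalk p.asIdeal).symm

/-- the family of an ideal. -/
noncomputable def ofIdeal {B : Type u} [CommRing B] [Algebra k B] (I : Ideal (B ⊗[k] R)) (h : IsIdl d I) :
    Fam k R d B where
  A := (B ⊗[k] R) ⧸ I
  ρ := (Ideal.Quotient.mkₐ k I).comp Algebra.TensorProduct.includeRight
  span := by
    rw [eq_top_iff]
    rintro x -
    obtain ⟨x, rfl⟩ := Ideal.Quotient.mk_surjective x
    induction x using TensorProduct.induction_on with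
    | zero => rw [map_zero]; exact Submodule.zero_mem _
    | add x y hx hy => rw [map_add]; exact Submodule.add_mem _ hx hy
    | tmul b r =>
      have : (Ideal.Quotient.mk I) (b ⊗ₜ r) =
          b • ((Ideal.Quotient.mkₐ k I).comp Algebra.TensorProduct.includeRight) r := by
        have h1 : (b ⊗ₜ[k] r : B ⊗[k] R) = b • ((1 : B) ⊗ₜ[k] r) := by
          rw [TensorProduct.smul_tmul', smul_eq_mul, mul_one]
        rw [h1]
        rfl
      rw [this]
      exact Submodule.smul_mem _ _ (Submodule.subset_span ⟨r, rfl⟩)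
  deg := h

/-- the ideal of a family. -/
noncomputable def idl {B : Type u} [CommRing B] [Algebra k B] (F : Fam k R d B) : Ideal (B ⊗[k] R) :=
  RingHom.ker F.tens.toRingHom

theorem mem_idl {B : Type u} [CommRing B] [Algebra k B] (F : Fam k R d B) (x : B ⊗[k] R) :
    x ∈ idl F ↔ F.tens x = 0 := Iff.rfl

/-- the quotient by the ideal of a family. -/
noncomputable def idlEquiv {B : Type u} [CommRing B] [Algebra k B] (F : Fam k R d B) :
    ((B ⊗[k] R) ⧸ idl F) ≃ₐ[B] F.A :=
  Ideal.quotientKerAlgEquivOfSurjective F.tens_surjective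

theorem idlEquiv_mk {B : Type u} [CommRing B] [Algebra k B] (F : Fam k R d B) (x : B ⊗[k] R) :
    idlEquiv F (Ideal.Quotient.mk _ x) = F.tens x := rfl

theorem isIdl_idl {B : Type u} [CommRing B] [Algebra k B] (F : Fam k R d B) : IsIdl d (idl F) := by
  have h1 : Spec.map (CommRingCat.ofHom (algebraMap B ((B ⊗[k] R) ⧸ idl F))) =
      Spec.map (CommRingCat.ofHom (idlEquiv F).symm.toRingEquiv.toRingHom) ≫
        Spec.map (CommRingCat.ofHom (algebraMap B F.A)) := by
    rw [← Spec.map_comp, ← CommRingCat.ofHom_comp]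
    congr 2
    exact (idlEquiv F).symm.toAlgHom.comp_algebraMap.symm
  have hiso : IsIso (Spec.map (CommRingCat.ofHom (idlEquiv F).symm.toRingEquiv.toRingHom)) := by
    have : IsIso (CommRingCat.ofHom (idlEquiv F).symm.toRingEquiv.toRingHom) :=
      inferInstanceAs (IsIso (idlEquiv F).symm.toRingEquiv.toCommRingCatIso.hom)
    infer_instance
  rw [IsIdl, h1]
  exact isFinLocFreeOfDeg_comp_iso F.deg

theorem idl_ofIdeal {B : Type u} [CommRing B] [Algebra k B] (I : Ideal (B ⊗[k] R)) (h : IsIdl d I) :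
    idl (ofIdeal I h) = I := by
  have key : ∀ x : B ⊗[k] R, (ofIdeal I h).tens x = Ideal.Quotient.mk I x := by
    intro x
    induction x using TensorProduct.induction_on with
    | zero => exact (map_zero _).trans (map_zero _).symm
    | add x y hx hy => exact (map_add _ _ _).trans ((congrArg₂ (· + ·) hx hy).trans (map_add _ _ _).symm)
    | tmul b r =>
      rw [Fam.tens_tmul]
      have h1 : (b ⊗ₜ[k] r : B ⊗[k] R) = b • ((1 : B) ⊗ₜ[k] r) := by
        rw [TensorProduct.smul_tmul', smul_eq_mul, mul_one]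
      rw [h1]
      rfl
  ext x
  rw [mem_idl, key]
  exact Ideal.Quotient.eq_zero_iff_mem

end K842.QFam
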