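import Groth.Agent.HilbZeta.K842.QFam
import Groth.Agent.HilbZeta.K842.AffPar

/-!
# Objects of the Hilbert functor and ideals of `B ⊗ R`
-/

set_option autoImplicit false
set_option backward.isDefEq.respectTransparency false
universe u v w

open CategoryTheory CategoryTheory.Limits AlgebraicGeometry TensorProduct

namespace K842.QObj

open Groth.Agent.Picfga.HilbPull Groth.Agent.Picfga.HilbTriple Groth.Agent.Picfga.HilbRep K842.CoprodRank
  K842.Split K842.K0Basic K842.K0Fam K842.SplitField K842.AffObj K842.AffPar K842.QFam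

variable {k : Type u} [Field k] {X : Scheme.{u}} (f : X ⟶ Spec (CommRingCat.of k))
  {R : Type u} [CommRing R] [Algebra k R] (j : Spec (CommRingCat.of R) ⟶ X)
  (hj : j ≫ f = Spec.map (CommRingCat.ofHom (algebraMap k R))) {d : ℕ}

theorem obj_eq_of_idl [IsSeparated f] [IsOpenImmersion j] {B : Type u} [CommRing B] [Algebra k B]
    (F G : Fam k R d B) (h : idl F = idl G) : F.obj f j hj = G.obj f j hj := by
  apply obj_eq_of_equiv f j hj F G
    (((idlEquiv F).symm.trans (Ideal.quotientEquivAlgOfEq B h)).trans (idlEquiv G))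
  intro r
  have h1 : (idlEquiv F).symm (F.ρ r) = Ideal.Quotient.mk _ ((1 : B) ⊗ₜ[k] r) := by
    rw [AlgEquiv.symm_apply_eq, idlEquiv_mk, Fam.tens_tmul, one_smul]
  rw [AlgEquiv.trans_apply, AlgEquiv.trans_apply, h1]
  change idlEquiv G (Ideal.Quotient.mk _ ((1 : B) ⊗ₜ[k] r)) = _
  rw [idlEquiv_mk, Fam.tens_tmul, one_smul]

theorem idl_le_of_obj [IsSeparated f] [IsOpenImmersion j] {B : Type u} [CommRing B] [Algebra k B]
    (F G : Fam k R d B) (h : F.obj f j hj = G.obj f j hj) : idl F ≤ idl G := by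
  obtain ⟨ψ, hψ⟩ := Fam.exists_hom_of_obj_eq f j hj F G h
  have key : ∀ x, ψ (F.tens x) = G.tens x := by
    intro x
    induction x using TensorProduct.induction_on with
    | zero => simp
    | add x y hx hy => rw [map_add, map_add, map_add, hx, hy]
    | tmul b r => rw [Fam.tens_tmul, Fam.tens_tmul, map_smul, hψ]
  intro x hx
  rw [mem_idl] at hx ⊢
  rw [← key, hx, map_zero]

theorem obj_eq_iff [IsSeparated f] [IsOpenImmersion j] {B : Type u} [CommRing B] [Algebra k B]
    (F G : Fam k R d B) : F.obj f j hj = G.obj f j hj ↔ idl F = idl G :=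
  ⟨fun h => le_antisymm (idl_le_of_obj f j hj F G h) (idl_le_of_obj f j hj G F h.symm),
    obj_eq_of_idl f j hj F G⟩

/-- Base change of a family. -/
theorem pullObj_obj [IsSeparated f] [IsOpenImmersion j] {B C : Type u} [CommRing B]
    [Algebra k B] [CommRing C] [Algebra k C] (φ : B →ₐ[k] C) (F : Fam k R d B) :
    pullObj f (spkMap φ) (F.obj f j hj) = (ofIdeal ((idl F).map (bc φ)) ((isIdl_idl F).map φ)).obj f j hj := by
  rw [obj_eq_of_idl f j hj F (ofIdeal (idl F) (isIdl_idl F)) (idl_ofIdeal _ _).symm]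
  apply (ofIdeal (idl F) (isIdl_idl F)).pullObj_eq_of_isPushout f j hj φ
    (ofIdeal ((idl F).map (bc φ)) ((isIdl_idl F).map φ)) (qmap φ (idl F))
  · exact isPushout_bc φ (idl F)
  · intro r
    change qmap φ (idl F) (Ideal.Quotient.mk _ ((1 : B) ⊗ₜ[k] r)) = Ideal.Quotient.mk _ ((1 : C) ⊗ₜ r)
    rw [qmap_mk, bc_tmul, map_one]

/-- Elements of the Hilbert functor supported in the chart come from families. -/
theorem exists_fam [IsSeparated f] [IsOpenImmersion j] {B : Type u} [CommRing B] [Algebra k B]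
    (x : HilbD.Obj f d (spk k B)) (hx : Supp (Set.range j) x) :
    ∃ F : Fam k R d B, F.obj f j hj = x := by
  have hfin : IsFinite (pi f x.1) := x.2.1.1
  have hfl : Flat (pi f x.1) := x.2.1.2.1
  have haff0 : IsAffine (spk k B).left := inferInstanceAs (IsAffine (Spec (CommRingCat.of B)))
  have haff : IsAffine x.1.subscheme := isAffine_of_isAffineHom (pi f x.1)
  let q' : x.1.subscheme ⟶ Spec (CommRingCat.of R) := IsOpenImmersion.lift j (qq f x.1) (by
    rintro _ ⟨z, rfl⟩
    exact hx z)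
  have hq' : q' ≫ j = qq f x.1 := IsOpenImmersion.lift_fac _ _ _
  let iso := x.1.subscheme.isoSpec
  obtain ⟨a, ha⟩ := Spec.map_surjective (R := CommRingCat.of B) (iso.inv ≫ pi f x.1)
  obtain ⟨b, hb⟩ := Spec.map_surjective (iso.inv ≫ q')
  let A : Type u := Γ(x.1.subscheme, ⊤)
  letI : Algebra B A := a.hom.toAlgebra
  letI : Algebra k A := (a.hom.comp (algebraMap k B)).toAlgebra
  haveI : IsScalarTower k B A := IsScalarTower.of_algebraMap_eq (fun _ => rfl)
  have hcomp : CommRingCat.ofHom (algebraMap k R) ≫ b = CommRingCat.ofHom (algebraMap k B) ≫ a := by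
    apply Spec.map_injective
    rw [Spec.map_comp, Spec.map_comp, hb, ha, Category.assoc, Category.assoc, ← hj, ← Category.assoc q' j,
      hq']
    exact congrArg (iso.inv ≫ ·) (qq_comp f x.1)
  let ρ : R →ₐ[k] A := { b.hom with commutes' := fun r => congr($(hcomp).hom r) }
  have hdeg : Mor2.IsFinLocFreeOfDeg d (Spec.map (CommRingCat.ofHom (algebraMap B A))) := by
    have h1 : Spec.map (CommRingCat.ofHom (algebraMap B A)) = iso.inv ≫ pi f x.1 := ha
    rw [h1]
    exact isFinLocFreeOfDeg_comp_iso x.2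
  -- the surjection
  let τ : B ⊗[k] R →ₐ[B] A := Algebra.TensorProduct.lift (Algebra.ofId B A) ρ (fun _ _ => Commute.all _ _)
  have hτ1 : ∀ (c : B) (r : R), τ (c ⊗ₜ r) = c • ρ r := by
    intro c r
    rw [Algebra.TensorProduct.lift_tmul, Algebra.smul_def]
    rfl
  have hτ2 : Spec.map (CommRingCat.ofHom τ.toRingHom) ≫ chart f j B hj = iso.inv ≫ x.1.subschemeι := by
    apply pullback.hom_ext
    · rw [Category.assoc, chart_fst, ← Category.assoc, ← Spec.map_comp, ← CommRingCat.ofHom_comp,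
        Category.assoc]
      have h1 : (τ.toRingHom.comp (Algebra.TensorProduct.includeRight : R →ₐ[k] B ⊗[k] R).toRingHom) =
          b.hom := by
        ext r
        change τ (1 ⊗ₜ r) = b.hom r
        rw [hτ1, one_smul]
        rfl
      rw [h1, CommRingCat.ofHom_hom, hb, Category.assoc, hq']
    · rw [Category.assoc, chart_snd, ← Spec.map_comp, ← CommRingCat.ofHom_comp, Category.assoc]
      have h1 : (τ.toRingHom.comp (algebraMap B (B ⊗[k] R))) = a.hom := τ.comp_algebraMap
      rw [h1, CommRingCat.ofHom_hom]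
      exact ha
  have hmono := mono_chart f j hj B
  have hcl : IsClosedImmersion (Spec.map (CommRingCat.ofHom τ.toRingHom)) := by
    have h1 : IsClosedImmersion (Spec.map (CommRingCat.ofHom τ.toRingHom) ≫ chart f j B hj) := by
      rw [hτ2]; infer_instance
    rw [IsClosedImmersion.iff_isFinite_and_mono]
    exact ⟨IsFinite.of_comp _ (chart f j B hj), mono_of_mono _ (chart f j B hj)⟩
  have hsurj : Function.Surjective τ := by
    have h1 := (IsClosedImmersion.isAffine_surjective_of_isAffine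
      (Spec.map (CommRingCat.ofHom τ.toRingHom))).2
    intro y
    have h2 := Scheme.ΓSpecIso_naturality (CommRingCat.ofHom τ.toRingHom)
    obtain ⟨z, hz⟩ := h1 ((Scheme.ΓSpecIso (CommRingCat.of A)).inv.hom y)
    refine ⟨(Scheme.ΓSpecIso (CommRingCat.of (B ⊗[k] R))).hom.hom z, ?_⟩
    have h3 := congr($(h2).hom z)
    have h4 : (Scheme.ΓSpecIso (CommRingCat.of A)).hom.hom
        ((Spec.map (CommRingCat.ofHom τ.toRingHom)).appTop.hom z) = y := by
      rw [hz]
      exact congr($((Scheme.ΓSpecIso (CommRingCat.of A)).inv_hom_id).hom y)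
    rw [← h4]
    exact h3.symm
  have hspan : Submodule.span B (Set.range ρ) = ⊤ := by
    rw [eq_top_iff]
    rintro y -
    obtain ⟨z, rfl⟩ := hsurj y
    induction z using TensorProduct.induction_on with
    | zero => rw [map_zero]; exact Submodule.zero_mem _
    | tmul c r => rw [hτ1]; exact Submodule.smul_mem _ _ (Submodule.subset_span ⟨r, rfl⟩)
    | add x y hx hy => rw [map_add]; exact Submodule.add_mem _ hx hy
  let F : Fam k R d B := { A := A, ρ := ρ, span := hspan, deg := hdeg }
  refine ⟨F, ?_⟩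
  have := (F.pullObj_eq_iff f j hj (𝟙 _) x).2 ⟨iso.hom, IsPullback.of_horiz_isIso ⟨by
      have h1 : Spec.map (CommRingCat.ofHom (algebraMap B A)) = iso.inv ≫ pi f x.1 := ha
      rw [Over.id_left, Category.comp_id]
      change iso.hom ≫ Spec.map (CommRingCat.ofHom (algebraMap B A)) = _
      rw [h1, Iso.hom_inv_id_assoc]⟩, by
      have h1 : Spec.map (CommRingCat.ofHom ρ.toRingHom) = iso.inv ≫ q' := hb
      change iso.hom ≫ Spec.map (CommRingCat.ofHom ρ.toRingHom) ≫ j = _
      rw [h1, Category.assoc, Iso.hom_inv_id_assoc, hq']⟩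
  rwa [pullObj_id] at this

/-- Families are supported in the chart. -/
theorem supp_obj [IsSeparated f] [IsOpenImmersion j] {B : Type u} [CommRing B] [Algebra k B]
    (F : Fam k R d B) : Supp (Set.range j) (F.obj f j hj) := by
  obtain ⟨e, he1, he2⟩ := F.exists_iso_obj f j hj
  intro z
  obtain ⟨p, rfl⟩ : ∃ v, e.hom v = z := ⟨e.inv z, by rw [← Scheme.Hom.comp_apply]; simp⟩
  rw [← Scheme.Hom.comp_apply]
  have h1 : e.hom ≫ pr (F.obj f j hj) = Spec.map (CommRingCat.ofHom F.ρ.toRingHom) ≫ j := he2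
  rw [h1, Scheme.Hom.comp_apply]
  exact ⟨_, rfl⟩

/-- The object of an ideal. -/
noncomputable def iobj [IsSeparated f] [IsOpenImmersion j] {B : Type u} [CommRing B] [Algebra k B]
    (I : Ideal (B ⊗[k] R)) (h : IsIdl d I) : HilbD.Obj f d (spk k B) :=
  (ofIdeal I h).obj f j hj

theorem iobj_eq_iff [IsSeparated f] [IsOpenImmersion j] {B : Type u} [CommRing B] [Algebra k B]
    {I I' : Ideal (B ⊗[k] R)} (h : IsIdl d I) (h' : IsIdl d I') :
    iobj f j hj I h = iobj f j hj I' h' ↔ I = I' := by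
  rw [iobj, iobj, obj_eq_iff, idl_ofIdeal, idl_ofIdeal]

theorem pullObj_iobj [IsSeparated f] [IsOpenImmersion j] {B C : Type u} [CommRing B]
    [Algebra k B] [CommRing C] [Algebra k C] (φ : B →ₐ[k] C) {I : Ideal (B ⊗[k] R)} (h : IsIdl d I) :
    pullObj f (spkMap φ) (iobj f j hj I h) = iobj f j hj (I.map (bc φ)) (h.map φ) := by
  rw [iobj, iobj, pullObj_obj, obj_eq_iff, idl_ofIdeal, idl_ofIdeal, idl_ofIdeal]

theorem exists_idl [IsSeparated f] [IsOpenImmersion j] {B : Type u} [CommRing B] [Algebra k B]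
    (x : HilbD.Obj f d (spk k B)) (hx : Supp (Set.range j) x) :
    ∃ (I : Ideal (B ⊗[k] R)) (h : IsIdl d I), iobj f j hj I h = x := by
  obtain ⟨F, hF⟩ := exists_fam f j hj x hx
  refine ⟨idl F, isIdl_idl F, ?_⟩
  rw [← hF, iobj, obj_eq_iff, idl_ofIdeal]

theorem supp_iobj [IsSeparated f] [IsOpenImmersion j] {B : Type u} [CommRing B] [Algebra k B]
    {I : Ideal (B ⊗[k] R)} (h : IsIdl d I) : Supp (Set.range j) (iobj f j hj I h) :=
  supp_obj f j hj _

end K842.QObj
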