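import Groth.Agent.HilbZeta.K842.CurveRat
import Groth.Agent.CurvesA.AffCurveGeom
import Groth.Agent.S12129

/-!
# Rationality of the Hilbert zeta function of a reduced curve
-/

set_option autoImplicit false
set_option linter.style.haveILetI false
universe u

open TensorProduct CategoryTheory CategoryTheory.Limits AlgebraicGeometry TopologicalSpace

namespace K842.ReducedCurve

open K842.Pole K842.PoleDvr Groth.Agent.CurvesB.OmegaStalkDict Groth.Agent.CurvesB.SmoothCurveFacts
  K842.CurvePole K842.Removal K842.PoleFinal K842.RatSer K842.ProdPoints Groth.Agent.Picfga.HilbPull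
  Groth.Agent.Picfga.HilbRep K842.Compare K842.CurveRat K842.Split K842.K0Basic

section

variable {k : Type u} [Field k] {X : Scheme.{u}} {f : X ⟶ Spec (CommRingCat.of k)}
  {H : ℕ → Over (Spec (CommRingCat.of k))} {Z : ∀ d, HilbD.Obj f d (H d)}
  (hZ : ∀ d, HilbD.IsUniversal f d (H d) (Z d))
  [∀ d, LocallyOfFiniteType (H d).hom] [∀ d, QuasiCompact (H d).hom]

include hZ in
/-- Disjoint opens. -/
theorem zetaOpen_sup (U V : X.Opens) (h : Disjoint (U : Set X) (V : Set X)) :
    zetaOpen H Z (U ⊔ V) = zetaOpen H Z U * zetaOpen H Z V := by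
  have hN := fun d => isNoetherian_of_ft (H d).hom
  rw [zetaOpen_mul hZ U (U ⊔ V) (V : Set X) h rfl (fun d => (good V (Z d) : Scheme.{u}))
    (fun d => (good V (Z d)).ι) (fun d => by rw [Scheme.Opens.range_ι, mem_good_iff_locus])]
  rfl

include hZ in
theorem zetaOpen_bot : zetaOpen H Z ⊥ = 1 := by
  have h1 := zetaOpen_sup hZ (⊥ : X.Opens) ⊥ (by simp)
  rw [bot_sup_eq] at h1
  have h2 : IsUnit (zetaOpen H Z ⊥) := by
    rw [PowerSeries.isUnit_iff_constantCoeff, constantCoeff_zetaOpen hZ]
    exact isUnit_one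
  have h3 : zetaOpen H Z ⊥ * zetaOpen H Z ⊥ = zetaOpen H Z ⊥ * 1 := by rw [← h1, mul_one]
  exact h2.mul_left_cancel h3

end

variable {k : Type u} [Field k] [IsAlgClosed k] {X : Scheme.{u}}
  (f : X ⟶ Spec (CommRingCat.of k)) [LocallyOfFiniteType f] [QuasiCompact f] [IsSeparated f] [IsReduced X]
  (hdim : ∀ x : X, IsClosed ({x} : Set X) → ringKrullDim (X.presheaf.stalk x) = 1)

include f hdim in
omit [IsAlgClosed k] [QuasiCompact f] [IsSeparated f] [IsReduced X] in
/-- Affine integral charts have dimension one. -/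
theorem ringKrullDim_chart {R : Type u} [CommRing R] [IsDomain R] [Algebra k R] [Algebra.FiniteType k R]
    (j : Spec (CommRingCat.of R) ⟶ X) [IsOpenImmersion j] : ringKrullDim R = 1 := by
  obtain ⟨d, hd, -, hm⟩ := Groth.Agent.CalgC.DimFT.exists_dim k R
  obtain ⟨m, hmax⟩ := Ideal.exists_maximal R
  let y : Spec (CommRingCat.of R) := (⟨m, hmax.isPrime⟩ : PrimeSpectrum R)
  have hy : IsClosed ({y} : Set (Spec (CommRingCat.of R))) :=
    (PrimeSpectrum.isClosed_singleton_iff_isMaximal (⟨m, hmax.isPrime⟩ : PrimeSpectrum R)).2 hmax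
  have hjac : JacobsonSpace X := Groth.Agent.Etcore.CurveOpen.jacobsonSpace f
  have hx : IsClosed ({j y} : Set X) := by
    apply isClosed_singleton_of_isLocallyClosed_singleton
    have h1 : ({j y} : Set X) = j '' {y} := by simp
    rw [h1]
    exact hy.isLocallyClosed.image j.isOpenEmbedding.isInducing j.isOpenEmbedding.isOpen_range.isLocallyClosed
  have h1 := hdim _ hx
  have h2 : ringKrullDim (X.presheaf.stalk (j y)) = m.height := by
    rw [ringKrullDim_stalk_eq_coheight, coheight_eq_of_isOpenImmersion]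
    exact congrArg _ (idealHeight_eq_coheight (CommRingCat.of R) y).symm
  rw [h1, hm m hmax] at h2
  rw [hd]
  exact h2.symm

include f hdim in
omit [IsAlgClosed k] [IsSeparated f] [IsReduced X] in
/-- The complement of a dense open subset is a finite set of closed points. -/
theorem finite_compl (W : X.Opens) (hW : Dense (W : Set X)) :
    ((W : Set X)ᶜ).Finite ∧ ∀ x ∈ (W : Set X)ᶜ, IsClosed ({x} : Set X) := by
  have hN : IsLocallyNoetherian X := LocallyOfFiniteType.isLocallyNoetherian f
  have hcs : CompactSpace X := QuasiCompact.compactSpace_of_compactSpace f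
  have hNX : IsNoetherian X := {}
  have hcl : ∀ x ∈ (W : Set X)ᶜ, IsClosed ({x} : Set X) := by
    intro x hx
    letI : X.Over (Spec (CommRingCat.of k)) := ⟨f⟩
    have i1 : LocallyOfFiniteType (X ↘ (Spec (CommRingCat.of k))) := inferInstanceAs (LocallyOfFiniteType f)
    have i2 : QuasiCompact (X ↘ (Spec (CommRingCat.of k))) := inferInstanceAs (QuasiCompact f)
    obtain ⟨hA, -⟩ := (Groth.Agent.S12129.result k X).1 hdim
    obtain ⟨x', hx', hF⟩ := hA (closure {x}) isClosed_closure isIrreducible_singleton.closure (by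
      intro hmem
      obtain ⟨o, ho, hne, hsub⟩ :=
        NoetherianSpace.exists_isOpen_nonempty_subset_irreducibleComponent _ hmem
      obtain ⟨y, hyo, hyW⟩ := hW.inter_open_nonempty o ho hne
      have h1 : x ⤳ y := specializes_iff_mem_closure.2 (hsub hyo)
      exact hx (h1.mem_open W.2 hyW))
    have h2 : x ∈ closure ({x} : Set X) := subset_closure rfl
    rw [hF] at h2
    obtain rfl : x = x' := h2
    exact hx'
  exact ⟨Groth.Agent.S17178.finite_of_closedPoints _ W.2.isClosed_compl hcl, hcl⟩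

variable {f}
  {H : ℕ → Over (Spec (CommRingCat.of k))} {Z : ∀ d, HilbD.Obj f d (H d)}
  (hZ : ∀ d, HilbD.IsUniversal f d (H d) (Z d))
  [∀ d, LocallyOfFiniteType (H d).hom] [∀ d, QuasiCompact (H d).hom]

include hdim hZ in
/-- A nonempty open subset contains a nonempty open subset with rational zeta function. -/
theorem exists_isRat (O : X.Opens) (hO : (O : Set X).Nonempty) :
    ∃ V : X.Opens, V ≤ O ∧ (V : Set X).Nonempty ∧ IsRat (zetaOpen H Z V) := by
  have hN : IsLocallyNoetherian X := LocallyOfFiniteType.isLocallyNoetherian f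
  have hcs : CompactSpace X := QuasiCompact.compactSpace_of_compactSpace f
  have hNX : IsNoetherian X := {}
  have hne : Nonempty (O : Scheme.{u}) := hO.to_subtype
  have hOc : CompactSpace (O : Scheme.{u}) := isCompact_iff_compactSpace.mp (NoetherianSpace.isCompact _)
  obtain ⟨W, hW, hWi, hWs⟩ := Groth.Agent.CurvesA.AffCurveGeom.exists_open k (O : Scheme.{u}) (O.ι ≫ f)
  obtain ⟨w, hw⟩ := hW
  let S : Scheme.{u} := (W : Scheme.{u})
  let g : S ⟶ X := W.ι ≫ O.ι
  have hg : Smooth (g ≫ f) := by
    rw [Category.assoc]; exact hWs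
  have hSi : IsIntegral S := hWi
  obtain ⟨_, ⟨A, hA, rfl⟩, hwA, -⟩ :=
    S.isBasis_affineOpens.exists_subset_of_mem_open (Set.mem_univ (⟨w, hw⟩ : S)) isOpen_univ
  have hAne : Nonempty A := ⟨⟨_, hwA⟩⟩
  letI := secAlg (g ≫ f) A
  have hsm : Algebra.Smooth k Γ(S, A) := smooth_secHom (g ≫ f) hA
  have hft : Algebra.FiniteType k Γ(S, A) := finiteType_secHom (g ≫ f) hA
  let j : Spec (CommRingCat.of Γ(S, A)) ⟶ X := hA.fromSpec ≫ g
  have hjo : IsOpenImmersion j := inferInstance
  have hj : j ≫ f = Spec.map (CommRingCat.ofHom (algebraMap k Γ(S, A))) := by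
    rw [Category.assoc]
    exact (spec_secHom (g ≫ f) hA).symm
  have hdR := ringKrullDim_chart f hdim j
  refine ⟨j.opensRange, ?_, ?_, isRat_affine f hdR j hj H Z hZ⟩
  · rintro _ ⟨y, rfl⟩
    have h1 : j y = O.ι (W.ι (hA.fromSpec y)) := by
      simp only [j, g, Scheme.Hom.comp_apply]
    rw [h1]
    exact (W.ι (hA.fromSpec y)).2
  · have : Nonempty (Spec (CommRingCat.of Γ(S, A))) := ⟨genericPoint _⟩
    exact ⟨j (genericPoint _), ⟨_, rfl⟩⟩

include hdim hZ in
/-- The Hilbert zeta function of a reduced curve is rational. -/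
theorem isRat : IsRat (zetaOpen H Z ⊤) := by
  have hN : IsLocallyNoetherian X := LocallyOfFiniteType.isLocallyNoetherian f
  have hcs : CompactSpace X := QuasiCompact.compactSpace_of_compactSpace f
  have hNX : IsNoetherian X := {}
  have hwf : WellFoundedGT (Opens X) := inferInstance
  let 𝒲 : Set X.Opens := {W | IsRat (zetaOpen H Z W)}
  obtain ⟨W, hW, hmax⟩ := hwf.wf.has_min 𝒲 ⟨⊥, by
    change IsRat _
    rw [zetaOpen_bot hZ]
    exact isRat_one⟩
  have hd : Dense (W : Set X) := by
    rw [dense_iff_closure_eq]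
    by_contra hne
    let O : X.Opens := ⟨(closure (W : Set X))ᶜ, isClosed_closure.isOpen_compl⟩
    have hO : (O : Set X).Nonempty := Set.nonempty_compl.2 hne
    obtain ⟨V, hVO, hVne, hV⟩ := exists_isRat hdim hZ O hO
    have hdis : Disjoint (W : Set X) (V : Set X) := by
      rw [Set.disjoint_left]
      intro x hx hx'
      exact hVO hx' (subset_closure hx)
    refine hmax (W ⊔ V) ?_ ?_
    · change IsRat _
      rw [zetaOpen_sup hZ W V hdis]
      exact IsRat.mul hW hV
    · refine lt_of_le_of_ne le_sup_left fun h => ?_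
      obtain ⟨x, hx⟩ := hVne
      have h1 : x ∈ W := h ▸ (show x ∈ W ⊔ V from Or.inr hx)
      exact Set.disjoint_left.1 hdis h1 hx
  obtain ⟨hfin, hcl⟩ := finite_compl f hdim W hd
  exact (isRat_iff hZ _ hfin hcl (fun x hx => hdim x (hcl x hx)) W (compl_compl _).symm).1 hW

end K842.ReducedCurve
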