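import Mathlib.Algebra.Module.FinitePresentation
import Mathlib.RingTheory.Flat.Basic
import Mathlib.LinearAlgebra.FreeModule.Finite.Matrix
import Mathlib.RingTheory.Spectrum.Prime.Noetherian
import Mathlib.RingTheory.Flat.EquationalCriterion
import Mathlib.LinearAlgebra.TensorProduct.RightExactness
import Groth.Agent.Ega3A.FiberRank

set_option autoImplicit false
universe u v

namespace K842.SpanRank

open TensorProduct
open Groth.Agent.Ega3A.FiberRank

section A

variable {A : Type u} [CommRing A] {κ : Type v} [Field κ] [Algebra A κ]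
variable {S N Nκ : Type*} [AddCommGroup S] [Module A S] [AddCommGroup N] [Module A N]
  [AddCommGroup Nκ] [Module A Nκ] [Module κ Nκ] [IsScalarTower A κ Nκ]

theorem ker_baseChange_mkQ (Ψ : S →ₗ[A] N) :
    LinearMap.ker ((LinearMap.range Ψ).mkQ.baseChange κ) =
      Submodule.span κ (Set.range fun s => (1 : κ) ⊗ₜ[A] Ψ s) := by
  have hex : Function.Exact Ψ (LinearMap.range Ψ).mkQ := LinearMap.exact_map_mkQ_range Ψ
  have h2 := lTensor_exact κ hex (Submodule.mkQ_surjective _)
  apply le_antisymm
  · intro t ht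
    have ht' : (LinearMap.range Ψ).mkQ.lTensor κ t = 0 := by
      rw [← LinearMap.baseChange_eq_ltensor]
      exact ht
    obtain ⟨t', rfl⟩ := (h2 t).1 ht'
    induction t' with
    | zero => rw [map_zero]; exact zero_mem _
    | add a b ha hb =>
      rw [map_add]
      exact add_mem (ha (by
        change _ = _
        rw [LinearMap.baseChange_eq_ltensor]
        exact (h2 _).2 ⟨a, rfl⟩) ((h2 _).2 ⟨a, rfl⟩)) (hb (by
        change _ = _
        rw [LinearMap.baseChange_eq_ltensor]
        exact (h2 _).2 ⟨b, rfl⟩) ((h2 _).2 ⟨b, rfl⟩))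
    | tmul a m =>
      rw [LinearMap.lTensor_tmul]
      have : a ⊗ₜ[A] Ψ m = a • ((1 : κ) ⊗ₜ[A] Ψ m) := by
        rw [TensorProduct.smul_tmul', smul_eq_mul, mul_one]
      rw [this]
      exact Submodule.smul_mem _ _ (Submodule.subset_span ⟨m, rfl⟩)
  · rw [Submodule.span_le]
    rintro _ ⟨s, rfl⟩
    simp only [SetLike.mem_coe, LinearMap.mem_ker, LinearMap.baseChange_tmul]
    have : (LinearMap.range Ψ).mkQ (Ψ s) = 0 := by
      rw [Submodule.mkQ_apply, Submodule.Quotient.mk_eq_zero]
      exact ⟨s, rfl⟩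
    rw [this, TensorProduct.tmul_zero]

theorem finrank_span_add (Ψ : S →ₗ[A] N) [Module.Finite A N] (bc : N →ₗ[A] Nκ) (h : IsBaseChange κ bc) :
    Module.finrank κ (Submodule.span κ (Set.range fun s => bc (Ψ s))) +
      Module.finrank κ (κ ⊗[A] (N ⧸ LinearMap.range Ψ)) = Module.finrank κ Nκ := by
  have hsurj : Function.Surjective ((LinearMap.range Ψ).mkQ.baseChange κ) := by
    rw [LinearMap.baseChange_eq_ltensor]
    exact LinearMap.lTensor_surjective _ (Submodule.mkQ_surjective _)
  have h1 := ((LinearMap.range Ψ).mkQ.baseChange κ).finrank_range_add_finrank_ker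
  rw [LinearMap.range_eq_top.2 hsurj, finrank_top, ker_baseChange_mkQ] at h1
  have h2 : Submodule.span κ (Set.range fun s => bc (Ψ s)) =
      (Submodule.span κ (Set.range fun s => (1 : κ) ⊗ₜ[A] Ψ s)).map (h.equiv.toLinearMap) := by
    rw [Submodule.map_span, ← Set.range_comp]
    congr 2
    ext s
    simp [IsBaseChange.equiv_tmul]
  rw [h2, LinearEquiv.finrank_map_eq, ← h.equiv.finrank_eq, ← h1, add_comm]

/-- Conjugating by a retraction. -/
theorem finrank_span_conj {Q F : Type*} [AddCommGroup Q] [Module A Q] [AddCommGroup F] [Module A F]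
    (π : F →ₗ[A] Q) (i : Q →ₗ[A] F) (hi : π ∘ₗ i = LinearMap.id) (φ : S →ₗ[A] (Q →ₗ[A] Q)) :
    Module.finrank κ (Submodule.span κ (Set.range fun s => (i ∘ₗ φ s ∘ₗ π).baseChange κ)) =
      Module.finrank κ (Submodule.span κ (Set.range fun s => (φ s).baseChange κ)) := by
  let L : ((κ ⊗[A] Q) →ₗ[κ] (κ ⊗[A] Q)) →ₗ[κ] ((κ ⊗[A] F) →ₗ[κ] (κ ⊗[A] F)) :=
    { toFun := fun ψ => i.baseChange κ ∘ₗ ψ ∘ₗ π.baseChange κ
      map_add' := fun a b => by rw [LinearMap.add_comp, LinearMap.comp_add]
      map_smul' := fun c a => by rw [LinearMap.smul_comp, LinearMap.comp_smul, RingHom.id_apply] }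
  have hL : ∀ ψ, L ψ = i.baseChange κ ∘ₗ ψ ∘ₗ π.baseChange κ := fun _ => rfl
  have hii : π.baseChange κ ∘ₗ i.baseChange κ = LinearMap.id := by
    rw [← LinearMap.baseChange_comp, hi, LinearMap.baseChange_id]
  have hinj : Function.Injective L := by
    intro a b hab
    have h1 := congrArg (fun t => π.baseChange κ ∘ₗ t ∘ₗ i.baseChange κ) hab
    simp only [hL] at h1
    have h2 : ∀ ψ : (κ ⊗[A] Q) →ₗ[κ] (κ ⊗[A] Q),
        π.baseChange κ ∘ₗ (i.baseChange κ ∘ₗ ψ ∘ₗ π.baseChange κ) ∘ₗ i.baseChange κ = ψ := by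
      intro ψ
      rw [LinearMap.comp_assoc, LinearMap.comp_assoc, hii, LinearMap.comp_id, ← LinearMap.comp_assoc, hii,
        LinearMap.id_comp]
    rwa [h2, h2] at h1
  have h1 : Submodule.span κ (Set.range fun s => (i ∘ₗ φ s ∘ₗ π).baseChange κ) =
      (Submodule.span κ (Set.range fun s => (φ s).baseChange κ)).map L := by
    rw [Submodule.map_span, ← Set.range_comp]
    congr 2
    ext1 s
    rw [LinearMap.baseChange_comp, LinearMap.baseChange_comp]
    rfl
  rw [h1]
  exact (Submodule.equivMapOfInjective L hinj _).finrank_eq.symm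

theorem key_aux {Q : Type*} [AddCommGroup Q] [Module A Q] (r : ℕ)
    (π : (Fin r → A) →ₗ[A] Q) (i : Q →ₗ[A] (Fin r → A)) (hi : π ∘ₗ i = LinearMap.id)
    (φ : S →ₗ[A] (Q →ₗ[A] Q)) (Ψ : S →ₗ[A] ((Fin r → A) →ₗ[A] (Fin r → A)))
    (hΨ : ∀ s, Ψ s = i ∘ₗ φ s ∘ₗ π) :
    Module.finrank κ (Submodule.span κ (Set.range fun s => (φ s).baseChange κ)) +
      Module.finrank κ (κ ⊗[A] (((Fin r → A) →ₗ[A] (Fin r → A)) ⧸ LinearMap.range Ψ)) = r * r := by
  have hfin : Module.Finite A ((Fin r → A) →ₗ[A] (Fin r → A)) := inferInstance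
  have hbc := (Module.isBaseChange_map_of_finite_free (R := A) (N := Fin r → A) κ (Fin r))
  have h1 := @finrank_span_add A _ κ _ _ S ((Fin r → A) →ₗ[A] (Fin r → A))
    (κ ⊗[A] (Fin r → A) →ₗ[κ] κ ⊗[A] (Fin r → A)) _ _ _ _ _ _ _ _ Ψ hfin _ hbc
  have h3 : Module.finrank κ (κ ⊗[A] (Fin r → A)) = r := by
    have : Nontrivial A := (algebraMap A κ).domain_nontrivial
    rw [Module.finrank_baseChange]; simp
  have h2 : Module.finrank κ
        (κ ⊗[A] (Fin r → A) →ₗ[κ] κ ⊗[A] (Fin r → A)) = r * r := by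
    rw [Module.finrank_linearMap, h3]
  rw [h2] at h1
  rw [← h1]
  congr 1
  rw [← finrank_span_conj (κ := κ) π i hi φ]
  have : (fun s => (i ∘ₗ φ s ∘ₗ π).baseChange κ) =
      fun s => (LinearMap.baseChangeHom A κ (Fin r → A) (Fin r → A)) (Ψ s) := by
    funext s
    rw [hΨ]
    rfl
  rw [this]

end A

theorem main (A : Type u) [CommRing A] [IsNoetherianRing A]
    (S : Type u) [CommRing S] [Algebra A S]
    (Q : Type u) [AddCommGroup Q] [Module A Q] [Module S Q] [IsScalarTower A S Q]
    [Module.Finite A Q] [Module.Flat A Q] (n : ℕ) :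
    Topology.IsConstructible {p : PrimeSpectrum A |
      Module.finrank p.asIdeal.ResidueField
        (Submodule.span p.asIdeal.ResidueField
          (Set.range fun s : S =>
            LinearMap.baseChange p.asIdeal.ResidueField (DistribSMul.toLinearMap A Q s))) = n} := by
  have hfp : Module.FinitePresentation A Q := Module.finitePresentation_of_finite A Q
  have hproj : Module.Projective A Q := Module.Flat.projective_of_finitePresentation
  obtain ⟨r, π, hπ⟩ := Module.Finite.exists_fin' A Q
  obtain ⟨i, hi⟩ := Module.projective_lifting_property π LinearMap.id hπ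
  -- the maps
  let φ : S →ₗ[A] (Q →ₗ[A] Q) :=
    { toFun := fun s => DistribSMul.toLinearMap A Q s
      map_add' := fun s t => by ext q; simp [add_smul]
      map_smul' := fun a s => by ext q; simp }
  let Ψ : S →ₗ[A] ((Fin r → A) →ₗ[A] (Fin r → A)) :=
    { toFun := fun s => i ∘ₗ φ s ∘ₗ π
      map_add' := fun a b => by rw [map_add, LinearMap.add_comp, LinearMap.comp_add]
      map_smul' := fun c a => by rw [map_smul, LinearMap.smul_comp, LinearMap.comp_smul, RingHom.id_apply] }
  have key : ∀ p : PrimeSpectrum A, Module.finrank p.asIdeal.ResidueField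
        (Submodule.span p.asIdeal.ResidueField
          (Set.range fun s : S =>
            LinearMap.baseChange p.asIdeal.ResidueField (DistribSMul.toLinearMap A Q s))) +
      fiberRank (((Fin r → A) →ₗ[A] (Fin r → A)) ⧸ LinearMap.range Ψ) p = r * r := fun p =>
    key_aux r π i hi φ Ψ (fun _ => rfl)
  by_cases hn : n ≤ r * r
  · have : {p : PrimeSpectrum A |
      Module.finrank p.asIdeal.ResidueField
        (Submodule.span p.asIdeal.ResidueField
          (Set.range fun s : S =>
            LinearMap.baseChange p.asIdeal.ResidueField (DistribSMul.toLinearMap A Q s))) = n} =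
        {p | fiberRank (((Fin r → A) →ₗ[A] (Fin r → A)) ⧸ LinearMap.range Ψ) p = r * r - n} := by
      ext p
      have := key p
      simp only [Set.mem_ofPred_eq]
      omega
    rw [this]
    exact isConstructible_of_usc upperSemicontinuous_fiberRank _
  · convert Topology.IsConstructible.empty
    ext p
    have := key p
    simp only [Set.mem_ofPred_eq, Set.mem_empty_iff_false, iff_false]
    omega

end K842.SpanRank
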