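import Groth.Agent.HilbZeta.K842.CoprodRank
import Groth.Agent.Picfga.HilbTriple
import Groth.Agent.Picfga.HilbRep
import Groth.Agent.Picfga.ChiRR
import Groth.Agent.Flat2B.IdemRep386

/-!
# Splitting families of finite subschemes along disjoint supports
-/

set_option autoImplicit false
set_option backward.isDefEq.respectTransparency false
universe u

open CategoryTheory CategoryTheory.Limits AlgebraicGeometry

namespace K842.Split

open Groth.Agent.Picfga.HilbPull Groth.Agent.Picfga.HilbTriple Groth.Agent.Picfga.HilbRep K842.CoprodRank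

variable {X S : Scheme.{u}} {f : X ⟶ S} {d : ℕ}

/-- The set of points of the base over which the support lies in `A`. -/
def locus (A : Set X) {T : Over S} (x : HilbD.Obj f d T) : Set T.left :=
  {t | ∀ z : x.1.subscheme, (x.1.subschemeι ≫ pullback.snd f T.hom) z = t →
    (x.1.subschemeι ≫ pullback.fst f T.hom) z ∈ A}

theorem mem_locus (A : Set X) {T : Over S} (x : HilbD.Obj f d T) (t : T.left) :
    t ∈ locus A x ↔ ∀ z, sm x z = t → pr x z ∈ A := Iff.rfl

theorem mem_locus_pull (A : Set X) {T T' : Over S} (g : T' ⟶ T) (x : HilbD.Obj f d T) (t : T'.left) :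
    t ∈ locus A (pullObj f g x) ↔ g.left t ∈ locus A x := by
  obtain ⟨m, hm, hm'⟩ := exists_map_pullObj g x
  rw [mem_locus, mem_locus]
  constructor
  · intro h z hz
    obtain ⟨w, hw1, hw2⟩ := Scheme.exists_preimage_of_isPullback hm z t hz
    rw [← hw1, ← Scheme.Hom.comp_apply, hm']
    exact h w hw2
  · intro h z hz
    rw [← hm', Scheme.Hom.comp_apply]
    apply h
    rw [← hz, ← Scheme.Hom.comp_apply, ← Scheme.Hom.comp_apply, hm.w]

/-- the support lies in `A`. -/
def Supp (A : Set X) {T : Over S} (x : HilbD.Obj f d T) : Prop := ∀ z, pr x z ∈ A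

theorem supp_iff (A : Set X) {T : Over S} (x : HilbD.Obj f d T) : Supp A x ↔ ∀ t, t ∈ locus A x :=
  ⟨fun h t z _ => h z, fun h z => h (sm x z) z rfl⟩

theorem supp_pull_iff (A : Set X) {T T' : Over S} (g : T' ⟶ T) (x : HilbD.Obj f d T) :
    Supp A (pullObj f g x) ↔ ∀ t, g.left t ∈ locus A x := by
  rw [supp_iff]
  exact forall_congr' fun t => mem_locus_pull A g x t

theorem Supp.pull {A : Set X} {T T' : Over S} (g : T' ⟶ T) {x : HilbD.Obj f d T} (h : Supp A x) :
    Supp A (pullObj f g x) :=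
  (supp_pull_iff A g x).2 fun t => (supp_iff A x).1 h _

section Sum

variable {a b : ℕ} {A B : Set X}

theorem isClosedImmersion_coprodDesc {X Y T : Scheme.{u}} (p : X ⟶ T) (q : Y ⟶ T)
    [IsClosedImmersion p] [IsClosedImmersion q] (h : Disjoint (Set.range p) (Set.range q)) :
    IsClosedImmersion (coprod.desc p q) := by
  rw [IsClosedImmersion.iff_isFinite_and_mono]
  exact ⟨inferInstance, Groth.Agent.Flat2B.IdemRep386.mono_coprod_desc p q h⟩

theorem disjoint_range {T : Over S} {x : HilbD.Obj f a T} {y : HilbD.Obj f b T} (hx : Supp A x)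
    (hy : Supp B y) (hAB : Disjoint A B) :
    Disjoint (Set.range x.1.subschemeι) (Set.range y.1.subschemeι) := by
  rw [Set.disjoint_left]
  rintro _ ⟨z, rfl⟩ ⟨w, hw⟩
  have h1 := hx z
  have h2 := hy w
  rw [Scheme.Hom.comp_apply, hw, ← Scheme.Hom.comp_apply] at h2
  exact Set.disjoint_left.1 hAB h1 h2

theorem toXT_coprod {T : Over S} (x : HilbD.Obj f a T) (y : HilbD.Obj f b T)
    (w : coprod.desc (qq f x.1) (qq f y.1) ≫ f = coprod.desc (pi f x.1) (pi f y.1) ≫ T.hom) :
    toXT f (coprod.desc (pi f x.1) (pi f y.1)) (coprod.desc (qq f x.1) (qq f y.1)) w =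
      coprod.desc x.1.subschemeι y.1.subschemeι := by
  apply coprod.hom_ext
  · rw [coprod.inl_desc]
    apply pullback.hom_ext <;> simp [toXT]
  · rw [coprod.inr_desc]
    apply pullback.hom_ext <;> simp [toXT]

theorem coprod_w {T : Over S} (x : HilbD.Obj f a T) (y : HilbD.Obj f b T) :
    coprod.desc (qq f x.1) (qq f y.1) ≫ f = coprod.desc (pi f x.1) (pi f y.1) ≫ T.hom := by
  apply coprod.hom_ext
  · rw [coprod.inl_desc_assoc, coprod.inl_desc_assoc, qq_comp]
  · rw [coprod.inr_desc_assoc, coprod.inr_desc_assoc, qq_comp]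

/-- The disjoint union of two families with disjoint supports. -/
noncomputable def sumObj {T : Over S} (x : HilbD.Obj f a T) (y : HilbD.Obj f b T) (hab : a + b = d)
    (h : Disjoint (Set.range x.1.subschemeι) (Set.range y.1.subschemeι)) : HilbD.Obj f d T :=
  haveI : IsClosedImmersion (toXT f (coprod.desc (pi f x.1) (pi f y.1))
      (coprod.desc (qq f x.1) (qq f y.1)) (coprod_w x y)) := by
    rw [toXT_coprod]; exact isClosedImmersion_coprodDesc _ _ h
  ofTriple f (coprod.desc (pi f x.1) (pi f y.1)) (coprod.desc (qq f x.1) (qq f y.1)) (coprod_w x y)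
    (isFinLocFreeOfDeg_coprodDesc _ _ hab x.2 y.2)

theorem pullObj_sumObj_eq_iff {T T' : Over S} (g : T' ⟶ T) (x : HilbD.Obj f a T) (y : HilbD.Obj f b T)
    (hab : a + b = d) (h : Disjoint (Set.range x.1.subschemeι) (Set.range y.1.subschemeι))
    (z : HilbD.Obj f d T') :
    pullObj f g (sumObj x y hab h) = z ↔
      ∃ m : z.1.subscheme ⟶ (x.1.subscheme ⨿ y.1.subscheme : Scheme.{u}),
        IsPullback m (pi f z.1) (coprod.desc (pi f x.1) (pi f y.1)) g.left ∧
        m ≫ coprod.desc (qq f x.1) (qq f y.1) = qq f z.1 := by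
  haveI : IsClosedImmersion (toXT f (coprod.desc (pi f x.1) (pi f y.1))
      (coprod.desc (qq f x.1) (qq f y.1)) (coprod_w x y)) := by
    rw [toXT_coprod]; exact isClosedImmersion_coprodDesc _ _ h
  exact pullObj_ofTriple_eq_iff f g _ _ (coprod_w x y)
    (isFinLocFreeOfDeg_coprodDesc _ _ hab x.2 y.2) z

/-- the isomorphism of the subscheme of the sum. -/
theorem exists_iso_sumObj {T : Over S} (x : HilbD.Obj f a T) (y : HilbD.Obj f b T)
    (hab : a + b = d) (h : Disjoint (Set.range x.1.subschemeι) (Set.range y.1.subschemeι)) :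
    ∃ e : (x.1.subscheme ⨿ y.1.subscheme : Scheme.{u}) ≅ (sumObj x y hab h).1.subscheme,
      e.hom ≫ pi f (sumObj x y hab h).1 = coprod.desc (pi f x.1) (pi f y.1) ∧
      e.hom ≫ qq f (sumObj x y hab h).1 = coprod.desc (qq f x.1) (qq f y.1) := by
  haveI : IsClosedImmersion (toXT f (coprod.desc (pi f x.1) (pi f y.1))
      (coprod.desc (qq f x.1) (qq f y.1)) (coprod_w x y)) := by
    rw [toXT_coprod]; exact isClosedImmersion_coprodDesc _ _ h
  exact exists_iso_ker f _ _ (coprod_w x y)

theorem isPullback_coprod {X Y T T' X' Y' : Scheme.{u}} {p : X ⟶ T} {q : Y ⟶ T} {g : T' ⟶ T}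
    {p' : X' ⟶ T'} {q' : Y' ⟶ T'} {m : X' ⟶ X} {n : Y' ⟶ Y} (h1 : IsPullback m p' p g)
    (h2 : IsPullback n q' q g) :
    IsPullback (coprod.map m n) (coprod.desc p' q') (coprod.desc p q) g := by
  obtain ⟨e, he1, he2⟩ := exists_iso_pullback_coprod p q g
  refine IsPullback.of_iso_pullback ⟨?_⟩
    ((coprod.mapIso h1.isoPullback h2.isoPullback) ≪≫ e) ?_ ?_
  · apply coprod.hom_ext
    · rw [coprod.inl_map_assoc, coprod.inl_desc, coprod.inl_desc_assoc, h1.w]
    · rw [coprod.inr_map_assoc, coprod.inr_desc, coprod.inr_desc_assoc, h2.w]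
  · rw [Iso.trans_hom, Category.assoc, he2]
    apply coprod.hom_ext
    · simp
    · simp
  · rw [Iso.trans_hom, Category.assoc, he1]
    apply coprod.hom_ext
    · simp
    · simp

theorem disjoint_pull {T T' : Over S} (g : T' ⟶ T) (x : HilbD.Obj f a T) (y : HilbD.Obj f b T)
    (h : Disjoint (Set.range x.1.subschemeι) (Set.range y.1.subschemeι)) :
    Disjoint (Set.range (pullObj f g x).1.subschemeι) (Set.range (pullObj f g y).1.subschemeι) := by
  obtain ⟨m, hm⟩ := isPullback_pull f g x.1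
  obtain ⟨n, hn⟩ := isPullback_pull f g y.1
  rw [Set.disjoint_left]
  rintro _ ⟨z, rfl⟩ ⟨w, hw⟩
  refine Set.disjoint_left.1 h ⟨m z, rfl⟩ ⟨n w, ?_⟩
  rw [← Scheme.Hom.comp_apply, ← Scheme.Hom.comp_apply, hm.w, hn.w, Scheme.Hom.comp_apply,
    Scheme.Hom.comp_apply]
  exact congrArg _ hw

/-- Disjoint unions commute with base change. -/
theorem pullObj_sumObj {T T' : Over S} (g : T' ⟶ T) (x : HilbD.Obj f a T) (y : HilbD.Obj f b T)
    (hab : a + b = d) (h : Disjoint (Set.range x.1.subschemeι) (Set.range y.1.subschemeι)) :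
    pullObj f g (sumObj x y hab h) =
      sumObj (pullObj f g x) (pullObj f g y) hab (disjoint_pull g x y h) := by
  rw [pullObj_sumObj_eq_iff]
  obtain ⟨e, he, he'⟩ := exists_iso_sumObj (pullObj f g x) (pullObj f g y) hab (disjoint_pull g x y h)
  obtain ⟨m, hm, hm'⟩ := exists_isPullback_of_pull_eq f g x.1 (pullObj f g x).1 rfl
  obtain ⟨n, hn, hn'⟩ := exists_isPullback_of_pull_eq f g y.1 (pullObj f g y).1 rfl
  refine ⟨e.inv ≫ coprod.map m n, ?_, ?_⟩
  · have h1 := isPullback_coprod hm hn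
    have h2 : IsPullback e.inv (pi f (sumObj (pullObj f g x) (pullObj f g y) hab
        (disjoint_pull g x y h)).1) (coprod.desc (pi f (pullObj f g x).1) (pi f (pullObj f g y).1))
        (𝟙 _) := IsPullback.of_horiz_isIso ⟨by
          rw [Category.comp_id, Iso.inv_comp_eq]; exact he.symm⟩
    have := h2.paste_horiz h1
    rwa [Category.id_comp] at this
  · rw [Category.assoc, Iso.inv_comp_eq, he', coprod.map_desc, hm', hn']

theorem supp_sumObj {T : Over S} (x : HilbD.Obj f a T) (y : HilbD.Obj f b T)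
    (hab : a + b = d) (h : Disjoint (Set.range x.1.subschemeι) (Set.range y.1.subschemeι))
    (hx : Supp A x) (hy : Supp B y) : Supp (A ∪ B) (sumObj x y hab h) := by
  obtain ⟨e, he, he'⟩ := exists_iso_sumObj x y hab h
  intro z
  obtain ⟨w, rfl⟩ : ∃ w, e.hom w = z := ⟨e.inv z, by rw [← Scheme.Hom.comp_apply]; simp⟩
  change pr (sumObj x y hab h) (e.hom w) ∈ A ∪ B
  rw [← Scheme.Hom.comp_apply]
  have h1 : e.hom ≫ pr (sumObj x y hab h) = coprod.desc (qq f x.1) (qq f y.1) := he'
  rw [h1]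
  obtain ⟨w | w, rfl⟩ := (coprodMk x.1.subscheme y.1.subscheme).surjective w
  · left
    rw [coprodMk_inl, ← Scheme.Hom.comp_apply, coprod.inl_desc]
    exact hx w
  · right
    rw [coprodMk_inr, ← Scheme.Hom.comp_apply, coprod.inr_desc]
    exact hy w

/-- Uniqueness of the components of a disjoint union, one inequality. -/
theorem le_of_sumObj_eq {a' b' : ℕ} {T : Over S} {x : HilbD.Obj f a T} {y : HilbD.Obj f b T}
    {x' : HilbD.Obj f a' T} {y' : HilbD.Obj f b' T}
    {hab : a + b = d} {hab' : a' + b' = d}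
    {h : Disjoint (Set.range x.1.subschemeι) (Set.range y.1.subschemeι)}
    {h' : Disjoint (Set.range x'.1.subschemeι) (Set.range y'.1.subschemeι)}
    (hx : Supp A x) (hy' : Supp B y') (hAB : Disjoint A B)
    (he : sumObj x y hab h = sumObj x' y' hab' h') : x'.1 ≤ x.1 := by
  obtain ⟨e, he1, he2⟩ := exists_iso_sumObj x y hab h
  obtain ⟨e', he1', he2'⟩ := exists_iso_sumObj x' y' hab' h'
  -- the morphism between the sums
  obtain ⟨φ, hφ1, hφ2⟩ : ∃ φ : (x.1.subscheme ⨿ y.1.subscheme : Scheme.{u}) ⟶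
      (x'.1.subscheme ⨿ y'.1.subscheme : Scheme.{u}),
      φ ≫ coprod.desc (pi f x'.1) (pi f y'.1) = coprod.desc (pi f x.1) (pi f y.1) ∧
      φ ≫ coprod.desc (qq f x'.1) (qq f y'.1) = coprod.desc (qq f x.1) (qq f y.1) := by
    rw [← he1, ← he1', ← he2, ← he2']
    clear he1 he2 he1' he2'
    revert e e'
    generalize sumObj x y hab h = s at he
    generalize sumObj x' y' hab' h' = s' at he
    subst he
    intro e e'
    exact ⟨e.hom ≫ e'.inv, by simp, by simp⟩
  have hrange : Set.range (coprod.inl ≫ φ) ⊆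
      Set.range (coprod.inl : x'.1.subscheme ⟶ (x'.1.subscheme ⨿ y'.1.subscheme : Scheme.{u})) := by
    rintro _ ⟨w, rfl⟩
    obtain ⟨v | v, hv⟩ := (coprodMk x'.1.subscheme y'.1.subscheme).surjective ((coprod.inl ≫ φ) w)
    · rw [← hv, coprodMk_inl]; exact ⟨v, rfl⟩
    · exfalso
      have h1 := hy' v
      have h2 := hx w
      have h3 : pr y' v = (coprod.desc (qq f x'.1) (qq f y'.1)) ((coprod.inl ≫ φ) w) := by
        rw [← hv, coprodMk_inr, ← Scheme.Hom.comp_apply, coprod.inr_desc]
      rw [← Scheme.Hom.comp_apply, Category.assoc, hφ2, coprod.inl_desc] at h3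
      rw [h3] at h1
      exact Set.disjoint_left.1 hAB h2 h1
  let ψ : x.1.subscheme ⟶ x'.1.subscheme := IsOpenImmersion.lift coprod.inl (coprod.inl ≫ φ) hrange
  have hψ : ψ ≫ coprod.inl = coprod.inl ≫ φ := IsOpenImmersion.lift_fac _ _ _
  have h1 : ψ ≫ x'.1.subschemeι = x.1.subschemeι := by
    apply pullback.hom_ext
    · have := congrArg (· ≫ coprod.desc (qq f x'.1) (qq f y'.1)) hψ
      simp only [Category.assoc, hφ2, coprod.inl_desc] at this
      rw [Category.assoc]; exact this
    · have := congrArg (· ≫ coprod.desc (pi f x'.1) (pi f y'.1)) hψ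
      simp only [Category.assoc, hφ1, coprod.inl_desc] at this
      rw [Category.assoc]; exact this
  have h2 := Scheme.Hom.le_ker_comp ψ x'.1.subschemeι
  rw [h1, Scheme.IdealSheafData.ker_subschemeι, Scheme.IdealSheafData.ker_subschemeι] at h2
  exact h2

end Sum

end K842.Split
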