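import Groth.Agent.HilbZeta.K842.Split
import Groth.Agent.HilbZeta.K842.K0Fam

/-!
# Splitting finite subschemes over a field and the product formula for Hilbert schemes of points
-/

set_option autoImplicit false
set_option backward.isDefEq.respectTransparency false
universe u

open CategoryTheory CategoryTheory.Limits AlgebraicGeometry

namespace K842.SplitField

open Groth.Agent.Picfga.HilbPull Groth.Agent.Picfga.HilbTriple Groth.Agent.Picfga.HilbRep K842.CoprodRank
  K842.Split K842.K0Basic K842.K0Fam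

variable {X S : Scheme.{u}} {f : X ⟶ S} {d : ℕ} {A B : Set X}

theorem discrete_of_isFinite {K : CommRingCat.{u}} (hK : IsField K) {Z : Scheme.{u}} (g : Z ⟶ Spec K)
    [IsFinite g] : DiscreteTopology Z := by
  let := hK.toField
  exact Groth.Agent.Picfga.ChiRR.discreteTopology_of_isFinite (K := K) g

theorem isIso_coprodDesc {X Y T : Scheme.{u}} (p : X ⟶ T) (q : Y ⟶ T) [IsOpenImmersion p] [IsOpenImmersion q]
    (h : IsCompl p.opensRange q.opensRange) : IsIso (coprod.desc p q) := by
  obtain ⟨hc⟩ := nonempty_isColimit_binaryCofanMk_of_isCompl p q h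
  have : coprod.desc p q = ((coprodIsCoprod X Y).coconePointUniqueUpToIso hc).hom := by
    apply coprod.hom_ext
    · rw [coprod.inl_desc]
      exact ((coprodIsCoprod X Y).comp_coconePointUniqueUpToIso_hom hc ⟨.left⟩).symm
    · rw [coprod.inr_desc]
      exact ((coprodIsCoprod X Y).comp_coconePointUniqueUpToIso_hom hc ⟨.right⟩).symm
  rw [this]
  infer_instance

theorem subsingleton_of_isField {K : CommRingCat.{u}} (hK : IsField K) : Subsingleton (Spec K) := by
  let := hK.toField
  exact inferInstanceAs (Subsingleton (PrimeSpectrum K))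

theorem nonempty_of_isField {K : CommRingCat.{u}} (hK : IsField K) : Nonempty (Spec K) := by
  let := hK.toField
  exact inferInstanceAs (Nonempty (PrimeSpectrum K))

theorem isReduced_of_isField {K : CommRingCat.{u}} (hK : IsField K) : IsReduced (Spec K) := by
  let := hK.toField
  have : _root_.IsReduced K := inferInstance
  infer_instance

/-- A clopen part of a family over a field. -/
theorem exists_part {K : CommRingCat.{u}} (hK : IsField K) (t : Spec K ⟶ S)
    (z : HilbD.Obj f d (Over.mk t)) (A : Set X) :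
    ∃ (U : z.1.subscheme.Opens) (_ : (U : Set z.1.subscheme) = pr z ⁻¹' A) (a : ℕ)
      (x : HilbD.Obj f a (Over.mk t)) (e : (U : Scheme.{u}) ≅ x.1.subscheme),
      e.hom ≫ pi f x.1 = U.ι ≫ pi f z.1 ∧ e.hom ≫ qq f x.1 = U.ι ≫ qq f z.1 := by
  have hfin : IsFinite (pi f z.1) := z.2.1.1
  have hfl : Flat (pi f z.1) := z.2.1.2.1
  have hfp : LocallyOfFinitePresentation (pi f z.1) := z.2.1.2.2
  have hdisc : DiscreteTopology z.1.subscheme := discrete_of_isFinite hK (pi f z.1)
  let U : z.1.subscheme.Opens := ⟨pr z ⁻¹' A, isOpen_discrete _⟩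
  have hU : IsClosedImmersion U.ι := IsClosedImmersion.of_isPreimmersion _ (isClosed_discrete _)
  have hw : (U.ι ≫ qq f z.1) ≫ f = (U.ι ≫ pi f z.1) ≫ (Over.mk t).hom :=
    (Category.assoc _ _ _).trans ((congrArg (U.ι ≫ ·) (qq_comp f z.1)).trans (Category.assoc _ _ _).symm)
  have htoXT : toXT f (U.ι ≫ pi f z.1) (U.ι ≫ qq f z.1) hw = U.ι ≫ z.1.subschemeι := by
    apply pullback.hom_ext
    · exact (pullback.lift_fst _ _ _).trans (Category.assoc _ _ _).symm
    · exact (pullback.lift_snd _ _ _).trans (Category.assoc _ _ _).symm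
  have hcl : IsClosedImmersion (toXT f (U.ι ≫ pi f z.1) (U.ι ≫ qq f z.1) hw) := by
    rw [htoXT]; infer_instance
  obtain ⟨pt⟩ := nonempty_of_isField hK
  have hss := subsingleton_of_isField hK
  have hdeg : Mor2.IsFinLocFreeOfDeg ((U.ι ≫ pi f z.1).finrank pt) (U.ι ≫ pi f z.1) := by
    refine ⟨⟨inferInstance, inferInstance, inferInstance⟩, fun y => ?_⟩
    rw [Subsingleton.elim (α := Spec K) y pt]
  obtain ⟨e, he1, he2⟩ := exists_iso_ker f (U.ι ≫ pi f z.1) (U.ι ≫ qq f z.1) hw
  exact ⟨U, rfl, _, ofTriple f (U.ι ≫ pi f z.1) (U.ι ≫ qq f z.1) hw hdeg, e, he1, he2⟩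

/-- Splitting over a field. -/
theorem exists_split {K : CommRingCat.{u}} (hK : IsField K) (t : Spec K ⟶ S)
    (z : HilbD.Obj f d (Over.mk t)) (hz : Supp (A ∪ B) z) (hAB : Disjoint A B) :
    ∃ (a b : ℕ) (hab : a + b = d) (x : HilbD.Obj f a (Over.mk t)) (y : HilbD.Obj f b (Over.mk t))
      (h : Disjoint (Set.range x.1.subschemeι) (Set.range y.1.subschemeι)),
      Supp A x ∧ Supp B y ∧ sumObj x y hab h = z := by
  obtain ⟨U, hU, a, x, e, he1, he2⟩ := exists_part hK t z A
  obtain ⟨V, hV, b, y, e', he1', he2'⟩ := exists_part hK t z B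
  have hx : Supp A x := by
    intro w
    obtain ⟨w, rfl⟩ : ∃ v, e.hom v = w := ⟨e.inv w, by rw [← Scheme.Hom.comp_apply]; simp⟩
    have h1 : e.hom ≫ pr x = U.ι ≫ pr z := he2
    rw [← Scheme.Hom.comp_apply, h1, Scheme.Hom.comp_apply]
    have : U.ι w ∈ (U : Set z.1.subscheme) := w.2
    rw [hU] at this
    exact this
  have hy : Supp B y := by
    intro w
    obtain ⟨w, rfl⟩ : ∃ v, e'.hom v = w := ⟨e'.inv w, by rw [← Scheme.Hom.comp_apply]; simp⟩
    have h1 : e'.hom ≫ pr y = V.ι ≫ pr z := he2'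
    rw [← Scheme.Hom.comp_apply, h1, Scheme.Hom.comp_apply]
    have : V.ι w ∈ (V : Set z.1.subscheme) := w.2
    rw [hV] at this
    exact this
  have hcompl : IsCompl U.ι.opensRange V.ι.opensRange := by
    rw [Scheme.Opens.opensRange_ι, Scheme.Opens.opensRange_ι, isCompl_iff, disjoint_iff, codisjoint_iff]
    constructor
    · ext w
      simp only [TopologicalSpace.Opens.coe_inf, Set.mem_inter_iff, TopologicalSpace.Opens.coe_bot,
        Set.mem_empty_iff_false, iff_false, hU, hV, Set.mem_preimage]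
      rintro ⟨h1, h2⟩
      exact Set.disjoint_left.1 hAB h1 h2
    · ext w
      simp only [TopologicalSpace.Opens.coe_sup, Set.mem_union, TopologicalSpace.Opens.coe_top,
        Set.mem_univ, iff_true, hU, hV, Set.mem_preimage]
      exact hz w
  have hiso : IsIso (coprod.desc U.ι V.ι) := isIso_coprodDesc _ _ hcompl
  have hfin : IsFinite (pi f z.1) := z.2.1.1
  have hfl : Flat (pi f z.1) := z.2.1.2.1
  let g : (x.1.subscheme ⨿ y.1.subscheme : Scheme.{u}) ⟶ z.1.subscheme :=
    (coprod.mapIso e e').inv ≫ coprod.desc U.ι V.ι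
  have hg1 : g ≫ pi f z.1 = coprod.desc (pi f x.1) (pi f y.1) := by
    rw [Category.assoc, Iso.inv_comp_eq]
    apply coprod.hom_ext
    · simp [he1]
    · simp [he1']
  have hg2 : g ≫ qq f z.1 = coprod.desc (qq f x.1) (qq f y.1) := by
    rw [Category.assoc, Iso.inv_comp_eq]
    apply coprod.hom_ext
    · simp [he2]
    · simp [he2']
  obtain ⟨pt⟩ := nonempty_of_isField hK
  have hab : a + b = d := by
    have h1 := z.2.2 pt
    have h2 := Scheme.Hom.finrank_comp_left_of_isIso g (pi f z.1)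
    have h3 : IsFinite (pi f x.1) := x.2.1.1
    have h4 : Flat (pi f x.1) := x.2.1.2.1
    have h5 : IsFinite (pi f y.1) := y.2.1.1
    have h6 : Flat (pi f y.1) := y.2.1.2.1
    have h7 := finrank_coprodDesc (pi f x.1) (pi f y.1) pt
    rw [← hg1, h2] at h7
    have h8 := x.2.2 pt
    have h9 := y.2.2 pt
    rw [← h8, ← h9, ← h1]
    exact h7.symm
  refine ⟨a, b, hab, x, y, disjoint_range hx hy hAB, hx, hy, ?_⟩
  have := (pullObj_sumObj_eq_iff (𝟙 _) x y hab (disjoint_range hx hy hAB) z).2
    ⟨inv g, IsPullback.of_horiz_isIso ⟨by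
      rw [Over.id_left, Category.comp_id, IsIso.inv_comp_eq, hg1]⟩, by
      rw [IsIso.inv_comp_eq, hg2]⟩
  rwa [pullObj_id] at this

/-- Uniqueness of the splitting. -/
theorem split_unique {a b a' b' : ℕ} {T : Over S} {x : HilbD.Obj f a T} {y : HilbD.Obj f b T}
    {x' : HilbD.Obj f a' T} {y' : HilbD.Obj f b' T}
    {hab : a + b = d} {hab' : a' + b' = d}
    {h : Disjoint (Set.range x.1.subschemeι) (Set.range y.1.subschemeι)}
    {h' : Disjoint (Set.range x'.1.subschemeι) (Set.range y'.1.subschemeι)}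
    (hx : Supp A x) (hy : Supp B y) (hx' : Supp A x') (hy' : Supp B y') (hAB : Disjoint A B)
    (he : sumObj x y hab h = sumObj x' y' hab' h') : x.1 = x'.1 ∧ y.1 = y'.1 := by
  refine ⟨le_antisymm (le_of_sumObj_eq hx' hy hAB he.symm) (le_of_sumObj_eq hx hy' hAB he), ?_⟩
  have hsymm : ∀ {a b : ℕ} {x : HilbD.Obj f a T} {y : HilbD.Obj f b T} {hab : a + b = d}
      {h : Disjoint (Set.range x.1.subschemeι) (Set.range y.1.subschemeι)},
      sumObj x y hab h = sumObj y x (by omega) h.symm := by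
    intro a b x y hab h
    obtain ⟨e, he1, he2⟩ := exists_iso_sumObj y x (d := d) (by omega) h.symm
    have := (pullObj_sumObj_eq_iff (𝟙 _) x y hab h (sumObj y x (by omega) h.symm)).2
      ⟨e.inv ≫ (coprod.braiding _ _).hom, IsPullback.of_horiz_isIso ⟨by
        rw [Over.id_left, Category.comp_id, Category.assoc, Iso.inv_comp_eq, he1]
        apply coprod.hom_ext <;> simp⟩, by
        rw [Category.assoc, Iso.inv_comp_eq, he2]
        apply coprod.hom_ext <;> simp⟩
    rwa [pullObj_id] at this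
  rw [hsymm, hsymm (x := x')] at he
  exact le_antisymm (le_of_sumObj_eq hy' hx hAB.symm he.symm) (le_of_sumObj_eq hy hx' hAB.symm he)

end K842.SplitField
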