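import Groth.Agent.HilbZeta.K842.Branch
import Mathlib.Algebra.Group.Pi.Basic

set_option autoImplicit false
universe u v

namespace K842.Xi

open K842.Branch

variable {k : Type u} [Field k] {s : ℕ}

/-- The uniformizer of the `j`-th branch. -/
noncomputable def xi (k : Type u) [Field k] {s : ℕ} (j : Fin s) : Fin s → PowerSeries k :=
  Pi.mulSingle j PowerSeries.X

theorem xi_self (j : Fin s) : xi k j j = PowerSeries.X := by simp [xi]

theorem xi_ne {j i : Fin s} (h : i ≠ j) : xi k j i = 1 := by simp [xi, h]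

/-- multiplication by xi -/
noncomputable def mulXi (j : Fin s) : (Fin s → PowerSeries k) →ₗ[k] (Fin s → PowerSeries k) :=
  LinearMap.mulLeft k (xi k j)

theorem mulXi_apply (j : Fin s) (f : Fin s → PowerSeries k) : mulXi j f = xi k j * f := rfl

theorem xi_mul_injective (j : Fin s) : Function.Injective (fun f => xi k j * f) := by
  intro f g h
  ext1 i
  have h1 := congrFun h i
  simp only [Pi.mul_apply] at h1
  by_cases hij : i = j
  · subst hij
    rw [xi_self] at h1
    exact mul_left_cancel₀ PowerSeries.X_ne_zero h1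
  · rwa [xi_ne hij, one_mul, one_mul] at h1

theorem mulXi_injective (j : Fin s) : Function.Injective (mulXi (k := k) j) := xi_mul_injective j

theorem order_xi_mul (j : Fin s) (f : Fin s → PowerSeries k) (i : Fin s) :
    ((xi k j * f) i).order = (f i).order + (if i = j then 1 else 0) := by
  rw [Pi.mul_apply, PowerSeries.order_mul]
  by_cases hij : i = j
  · subst hij
    rw [xi_self, PowerSeries.order_X, if_pos rfl, add_comm]
  · rw [xi_ne hij, PowerSeries.order_one, if_neg hij, add_comm]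

theorem update_eq (a : Fin s → ℕ) (j i : Fin s) :
    ((Function.update a j (a j + 1) i : ℕ) : ℕ∞) = (a i : ℕ∞) + (if i = j then 1 else 0) := by
  by_cases hij : i = j
  · subst hij
    simp
  · simp [hij]

theorem range_mulXi (j : Fin s) :
    LinearMap.range (mulXi (k := k) j) = Fil (k := k) (Function.update (0 : Fin s → ℕ) j 1) := by
  ext f
  rw [mem_Fil, LinearMap.mem_range]
  constructor
  · rintro ⟨g, rfl⟩ i
    rw [mulXi_apply, order_xi_mul]
    by_cases hij : i = j
    · subst hij; simp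
    · simp [hij]
  · intro h
    have h1 := h j
    rw [Function.update_self, ← X_pow_dvd_iff_le_order, pow_one] at h1
    obtain ⟨w, hw⟩ := h1
    refine ⟨Function.update f j w, ?_⟩
    rw [mulXi_apply]
    ext1 i
    rw [Pi.mul_apply]
    by_cases hij : i = j
    · subst hij
      rw [Function.update_self, xi_self, hw]
    · rw [Function.update_of_ne hij, xi_ne hij, one_mul]

theorem finrank_range_mulXi (j : Fin s) :
    Module.finrank k ((Fin s → PowerSeries k) ⧸ LinearMap.range (mulXi (k := k) j)) = 1 := by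
  rw [range_mulXi, finrank_quotFil, Finset.sum_update_of_mem (Finset.mem_univ j)]
  simp

theorem finite_range_mulXi (j : Fin s) :
    Module.Finite k ((Fin s → PowerSeries k) ⧸ LinearMap.range (mulXi (k := k) j)) := by
  rw [range_mulXi]
  infer_instance

/-- The difference between `f` and `xi * f` is in the conductor if the `j`-th order of `f` is large. -/
theorem sub_mem (R : Subalgebra k (Fin s → PowerSeries k))
    (c : Fin s → ℕ)
    (hc : ∀ f : Fin s → PowerSeries k,
      (∀ g : Fin s → PowerSeries k, g * f ∈ R) ↔ ∀ i, ((c i : ℕ) : ℕ∞) ≤ (f i).order)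
    (j : Fin s) (f : Fin s → PowerSeries k) (hf : (c j : ℕ∞) ≤ (f j).order) :
    xi k j * f - f ∈ R := by
  have h : ∀ i, ((c i : ℕ) : ℕ∞) ≤ ((xi k j * f - f) i).order := by
    intro i
    rw [Pi.sub_apply, Pi.mul_apply]
    by_cases hij : i = j
    · subst hij
      rw [xi_self, show PowerSeries.X * f i - f i = (PowerSeries.X - 1) * f i by ring,
        PowerSeries.order_mul]
      exact hf.trans le_add_self
    · rw [xi_ne hij, one_mul, sub_self, PowerSeries.order_zero]
      exact le_top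
  have := (hc _).2 h 1
  rwa [one_mul] at this

theorem xi_mul_mem_iff (R : Subalgebra k (Fin s → PowerSeries k))
    (c : Fin s → ℕ)
    (hc : ∀ f : Fin s → PowerSeries k,
      (∀ g : Fin s → PowerSeries k, g * f ∈ R) ↔ ∀ i, ((c i : ℕ) : ℕ∞) ≤ (f i).order)
    (j : Fin s) (f : Fin s → PowerSeries k) (hf : (c j : ℕ∞) ≤ (f j).order) :
    xi k j * f ∈ R ↔ f ∈ R := by
  have h := sub_mem R c hc j f hf
  constructor
  · intro h1
    have := R.sub_mem h1 h
    rwa [sub_sub_cancel] at this
  · intro h1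
    have := R.add_mem h h1
    rwa [sub_add_cancel] at this

theorem type_iff (R : Subalgebra k (Fin s → PowerSeries k))
    (hfin : Module.Finite k ((Fin s → PowerSeries k) ⧸ Subalgebra.toSubmodule R))
    (j : Fin s) (I J : Ideal ↥R)
    (hIJ : (Subtype.val '' (J : Set ↥R)) = (fun f => xi k j * f) '' (Subtype.val '' (I : Set ↥R)))
    (a : Fin s → ℕ) (d : ℕ) :
    (Module.Finite k (↥R ⧸ I) ∧ Module.finrank k (↥R ⧸ I) = d ∧
      (∀ i : Fin s, Ideal.map ((Pi.evalAlgHom k (fun _ : Fin s => PowerSeries k) i).comp R.val) I =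
        Ideal.span {PowerSeries.X ^ (a i)})) ↔
    (Module.Finite k (↥R ⧸ J) ∧ Module.finrank k (↥R ⧸ J) = d + 1 ∧
      (∀ i : Fin s, Ideal.map ((Pi.evalAlgHom k (fun _ : Fin s => PowerSeries k) i).comp R.val) J =
        Ideal.span {PowerSeries.X ^ ((Function.update a j (a j + 1)) i)})) := by
  have hmap : toV R J = (toV R I).map (mulXi j) := by
    apply SetLike.coe_injective
    rw [toV_coe, hIJ, Submodule.map_coe, toV_coe]
    rfl
  have hfin1 : Module.Finite k (↥R ⧸ I) ↔ Module.Finite k (↥R ⧸ J) := by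
    rw [← finite_toV_iff R hfin, ← finite_toV_iff R hfin, hmap, finite_quot_map_iff _ (mulXi_injective j)]
    exact ⟨fun h => ⟨finite_range_mulXi j, h⟩, fun h => h.2⟩
  have hmem : ∀ f : Fin s → PowerSeries k, (∃ g ∈ J, (g : Fin s → PowerSeries k) = f) ↔
      ∃ g ∈ I, xi k j * (g : Fin s → PowerSeries k) = f := by
    intro f
    have := Set.ext_iff.1 hIJ f
    simpa using this
  have hbr : ∀ i : Fin s, Ideal.map ((Pi.evalAlgHom k (fun _ : Fin s => PowerSeries k) i).comp R.val) I =
        Ideal.span {PowerSeries.X ^ (a i)} ↔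
      Ideal.map ((Pi.evalAlgHom k (fun _ : Fin s => PowerSeries k) i).comp R.val) J =
        Ideal.span {PowerSeries.X ^ ((Function.update a j (a j + 1)) i)} := by
    intro i
    rw [map_eval_eq_iff, map_eval_eq_iff]
    have hor : ∀ m : ℕ∞, (a i : ℕ∞) ≤ m ↔
        ((Function.update a j (a j + 1) i : ℕ) : ℕ∞) ≤ m + (if i = j then 1 else 0) := by
      intro m
      rw [update_eq]
      by_cases hij : i = j
      · simp only [hij, if_true]
        exact (ENat.add_le_add_iff_right (by simp)).symm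
      · simp [hij]
    have hor2 : ∀ m : ℕ∞, m = (a i : ℕ∞) ↔
        m + (if i = j then 1 else 0) = ((Function.update a j (a j + 1) i : ℕ) : ℕ∞) := by
      intro m
      rw [update_eq]
      by_cases hij : i = j
      · simp only [hij, if_true]
        exact (ENat.add_left_injective_of_ne_top (n := 1) (by simp)).eq_iff.symm
      · simp [hij]
    constructor
    · rintro ⟨h1, h2⟩
      refine ⟨?_, ?_⟩
      · intro g hg
        obtain ⟨f, hf, hfg⟩ := (hmem g).1 ⟨g, hg, rfl⟩
        rw [← hfg, order_xi_mul, ← hor]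
        exact h1 f hf
      · obtain ⟨f, hf, hfa⟩ := h2
        obtain ⟨g, hg, hgf⟩ := (hmem (xi k j * f)).2 ⟨f, hf, rfl⟩
        refine ⟨g, hg, ?_⟩
        rw [hgf, order_xi_mul, ← hor2]
        exact hfa
    · rintro ⟨h1, h2⟩
      refine ⟨?_, ?_⟩
      · intro f hf
        obtain ⟨g, hg, hgf⟩ := (hmem (xi k j * f)).2 ⟨f, hf, rfl⟩
        have := h1 g hg
        rw [hgf, order_xi_mul, ← hor] at this
        exact this
      · obtain ⟨g, hg, hga⟩ := h2
        obtain ⟨f, hf, hfg⟩ := (hmem g).1 ⟨g, hg, rfl⟩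
        refine ⟨f, hf, ?_⟩
        rw [← hfg, order_xi_mul, ← hor2] at hga
        exact hga
  rw [← hfin1]
  constructor
  · rintro ⟨h1, h2, h3⟩
    refine ⟨h1, ?_, fun i => (hbr i).1 (h3 i)⟩
    have hJ := hfin1.1 h1
    have e1 := finrank_toV R hfin I h1
    have e2 := finrank_toV R hfin J hJ
    have hfJ := (finite_toV_iff R hfin J).2 hJ
    rw [hmap] at hfJ
    rw [hmap, finrank_quot_map _ (mulXi_injective j), finrank_range_mulXi, e1] at e2
    omega
  · rintro ⟨h1, h2, h3⟩
    refine ⟨h1, ?_, fun i => (hbr i).2 (h3 i)⟩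
    have hJ := hfin1.1 h1
    have e1 := finrank_toV R hfin I h1
    have e2 := finrank_toV R hfin J hJ
    have hfJ := (finite_toV_iff R hfin J).2 hJ
    rw [hmap] at hfJ
    rw [hmap, finrank_quot_map _ (mulXi_injective j), finrank_range_mulXi, e1] at e2
    omega

/-- The ideal `ξ I`. -/
def mulIdeal (R : Subalgebra k (Fin s → PowerSeries k)) (j : Fin s) (I : Ideal ↥R) : Ideal ↥R where
  carrier := {r | ∃ f ∈ I, (r : Fin s → PowerSeries k) = xi k j * f}
  zero_mem' := ⟨0, I.zero_mem, by simp⟩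
  add_mem' := by
    rintro a b ⟨f, hf, h1⟩ ⟨g, hg, h2⟩
    exact ⟨f + g, I.add_mem hf hg, by simp [h1, h2, mul_add]⟩
  smul_mem' := by
    rintro c a ⟨f, hf, h1⟩
    refine ⟨c * f, I.mul_mem_left _ hf, ?_⟩
    simp only [smul_eq_mul, MulMemClass.coe_mul, h1]
    ring

/-- The ideal `ξ⁻¹ J`. -/
def divIdeal (R : Subalgebra k (Fin s → PowerSeries k)) (j : Fin s) (J : Ideal ↥R) : Ideal ↥R where
  carrier := {r | ∃ f ∈ J, (f : Fin s → PowerSeries k) = xi k j * r}
  zero_mem' := ⟨0, J.zero_mem, by simp⟩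
  add_mem' := by
    rintro a b ⟨f, hf, h1⟩ ⟨g, hg, h2⟩
    exact ⟨f + g, J.add_mem hf hg, by simp [h1, h2, mul_add]⟩
  smul_mem' := by
    rintro c a ⟨f, hf, h1⟩
    refine ⟨c * f, J.mul_mem_left _ hf, ?_⟩
    simp only [smul_eq_mul, MulMemClass.coe_mul, h1]
    ring

theorem strata (R : Subalgebra k (Fin s → PowerSeries k))
    (hfin : Module.Finite k ((Fin s → PowerSeries k) ⧸ Subalgebra.toSubmodule R))
    (c : Fin s → ℕ)
    (hc : ∀ f : Fin s → PowerSeries k,
      (∀ g : Fin s → PowerSeries k, g * f ∈ R) ↔ ∀ i, ((c i : ℕ) : ℕ∞) ≤ (f i).order)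
    (j : Fin s) (d : ℕ) (a : Fin s → ℕ) (hj : c j ≤ a j) :
    (∀ I ∈ {I : Ideal ↥R | Module.Finite k (↥R ⧸ I) ∧ Module.finrank k (↥R ⧸ I) = d ∧ (∀ i : Fin s, Ideal.map ((Pi.evalAlgHom k (fun _ : Fin s => PowerSeries k) i).comp R.val) I = Ideal.span {PowerSeries.X ^ (a i)})},
      ∃ J ∈ {I : Ideal ↥R | Module.Finite k (↥R ⧸ I) ∧ Module.finrank k (↥R ⧸ I) = d + 1 ∧ (∀ i : Fin s, Ideal.map ((Pi.evalAlgHom k (fun _ : Fin s => PowerSeries k) i).comp R.val) I = Ideal.span {PowerSeries.X ^ ((Function.update a j (a j + 1)) i)})},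
        (Subtype.val '' (J : Set ↥R)) = (fun f => xi k j * f) '' (Subtype.val '' (I : Set ↥R))) ∧
    (∀ J ∈ {I : Ideal ↥R | Module.Finite k (↥R ⧸ I) ∧ Module.finrank k (↥R ⧸ I) = d + 1 ∧ (∀ i : Fin s, Ideal.map ((Pi.evalAlgHom k (fun _ : Fin s => PowerSeries k) i).comp R.val) I = Ideal.span {PowerSeries.X ^ ((Function.update a j (a j + 1)) i)})},
      ∃ I ∈ {I : Ideal ↥R | Module.Finite k (↥R ⧸ I) ∧ Module.finrank k (↥R ⧸ I) = d ∧ (∀ i : Fin s, Ideal.map ((Pi.evalAlgHom k (fun _ : Fin s => PowerSeries k) i).comp R.val) I = Ideal.span {PowerSeries.X ^ (a i)})},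
        (Subtype.val '' (J : Set ↥R)) = (fun f => xi k j * f) '' (Subtype.val '' (I : Set ↥R))) := by
  constructor
  · intro I hI
    have hIJ : (Subtype.val '' (mulIdeal R j I : Set ↥R)) =
        (fun f => xi k j * f) '' (Subtype.val '' (I : Set ↥R)) := by
      ext f
      constructor
      · rintro ⟨r, ⟨g, hg, hrg⟩, rfl⟩
        exact ⟨g, ⟨g, hg, rfl⟩, hrg.symm⟩
      · rintro ⟨_, ⟨g, hg, rfl⟩, rfl⟩
        have hgo : (c j : ℕ∞) ≤ ((g : Fin s → PowerSeries k) j).order := by
          have := ((map_eval_eq_iff R I j (a j)).1 (hI.2.2 j)).1 g hg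
          exact le_trans (by exact_mod_cast hj) this
        have hmem := (xi_mul_mem_iff R c hc j g hgo).2 g.2
        exact ⟨⟨_, hmem⟩, ⟨g, hg, rfl⟩, rfl⟩
    exact ⟨mulIdeal R j I, (type_iff R hfin j I _ hIJ a d).1 hI, hIJ⟩
  · intro J hJ
    have hIJ : (Subtype.val '' (J : Set ↥R)) =
        (fun f => xi k j * f) '' (Subtype.val '' (divIdeal R j J : Set ↥R)) := by
      ext f
      constructor
      · rintro ⟨r, hr, rfl⟩
        -- r is divisible by xi
        have hro : ((a j + 1 : ℕ) : ℕ∞) ≤ ((r : Fin s → PowerSeries k) j).order := by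
          have := ((map_eval_eq_iff R J j _).1 (hJ.2.2 j)).1 r hr
          simpa using this
        have hr1 : (r : Fin s → PowerSeries k) ∈ LinearMap.range (mulXi (k := k) j) := by
          rw [range_mulXi, mem_Fil]
          intro i
          by_cases hij : i = j
          · subst hij
            rw [Function.update_self]
            refine le_trans ?_ hro
            exact_mod_cast Nat.le_add_left 1 (a i)
          · simp [hij]
        obtain ⟨g, hg⟩ := hr1
        rw [mulXi_apply] at hg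
        have hgo : (c j : ℕ∞) ≤ (g j).order := by
          rw [← hg, order_xi_mul, if_pos rfl] at hro
          have : (a j : ℕ∞) ≤ (g j).order := by
            push_cast at hro
            exact (ENat.add_le_add_iff_right (by simp)).1 hro
          exact le_trans (by exact_mod_cast hj) this
        have hgR : g ∈ R := (xi_mul_mem_iff R c hc j g hgo).1 (by rw [hg]; exact r.2)
        exact ⟨g, ⟨⟨g, hgR⟩, ⟨r, hr, hg.symm⟩, rfl⟩, hg⟩
      · rintro ⟨_, ⟨g, ⟨f, hf, hfg⟩, rfl⟩, rfl⟩
        exact ⟨f, hf, hfg⟩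
    exact ⟨divIdeal R j J, (type_iff R hfin j _ J hIJ a d).2 hJ, hIJ⟩

end K842.Xi
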